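import Cfsg.Agent.H67.M11.Eleven

set_option autoImplicit false

/-!
# Simple groups of order 7920: Sylow 11-subgroups, fusion (helper67)
-/

namespace Cfsg.Agent.H67.M11

open Subgroup

universe u v

variable {G : Type u} [Group G]

theorem exists_sylow_zpowers [Finite G] {p k m : ℕ} [hp : Fact p.Prime] (hG : Nat.card G = p ^ 1 * m)
    (hm : ¬ p ∣ m) {x : G} (hx : orderOf x = p) (hk : k = 1) : ∃ P : Sylow p G, (P : Subgroup G) = zpowers x := by
  have h1 : IsPGroup p (zpowers x) := IsPGroup.of_card (n := 1) (by rw [Nat.card_zpowers, hx, pow_one])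
  obtain ⟨P, hP⟩ := h1.exists_le_sylow
  refine ⟨P, ?_⟩
  symm
  apply Subgroup.eq_of_le_of_card_ge hP
  rw [Nat.card_zpowers, hx, H17.card_sylow_eq P hG hm, pow_one]

theorem conj_pow_iter {x y : G} {k : ℕ} (h : y * x * y⁻¹ = x ^ k) (j : ℕ) : y ^ j * x * (y ^ j)⁻¹ = x ^ k ^ j := by
  induction j with
  | zero => simp
  | succ j ih =>
    calc y ^ (j + 1) * x * (y ^ (j + 1))⁻¹ = y * (y ^ j * x * (y ^ j)⁻¹) * y⁻¹ := by rw [pow_succ']; group
      _ = y * (x ^ k ^ j) * y⁻¹ := by rw [ih]
      _ = (y * x * y⁻¹) ^ k ^ j := by rw [conj_pow]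
      _ = x ^ k ^ (j + 1) := by rw [h, ← pow_mul, ← pow_succ']

theorem eleven [Finite G] [IsSimpleGroup G] (hG : Nat.card G = 7920) {x : G} (hx : orderOf x = 11) :
    Nat.card (centralizer ({x} : Set G)) = 11 ∧ (∃ g : G, g * x * g⁻¹ = x ^ 3) ∧ ¬ IsConj x x⁻¹ := by
  haveI : Fact (Nat.Prime 11) := ⟨by norm_num⟩
  obtain ⟨P, hP⟩ := exists_sylow_zpowers (p := 11) (m := 720) (by rw [hG]; norm_num) (by norm_num) hx rfl
  obtain ⟨hN, hC⟩ := card_sylow_eleven hG hx P hP
  have hnorm : ∀ y ∈ normalizer ((P : Subgroup G) : Set G), ∃ k : ℕ, k < 11 ∧ y * x * y⁻¹ = x ^ k := by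
    intro y hy
    have h1 : y * x * y⁻¹ ∈ (P : Subgroup G) := (mem_normalizer_iff.mp hy x).mp (by
      show x ∈ (P : Subgroup G)
      rw [hP]; exact mem_zpowers x)
    rw [hP] at h1
    classical
    rw [(isOfFinOrder_of_finite x).mem_zpowers_iff_mem_range_orderOf, hx] at h1
    simp only [Finset.mem_image, Finset.mem_range] at h1
    obtain ⟨k, hk, hk'⟩ := h1
    exact ⟨k, hk, hk'.symm⟩
  have hpow : ∀ y ∈ normalizer ((P : Subgroup G) : Set G), ∀ k : ℕ, y * x * y⁻¹ = x ^ k → k ^ 55 % 11 = 1 := by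
    intro y hy k hk
    have h1 := conj_pow_iter hk 55
    have h2 : y ^ 55 = 1 := by
      have h3 := pow_card_eq_one' (x := (⟨y, hy⟩ : normalizer ((P : Subgroup G) : Set G)))
      rw [hN] at h3
      exact congrArg Subtype.val h3
    rw [h2] at h1
    simp only [one_mul, inv_one, mul_one] at h1
    have h3 : x ^ 1 = x ^ k ^ 55 := by rw [pow_one]; exact h1
    rw [pow_inj_mod, hx] at h3
    omega
  refine ⟨hC, ?_, ?_⟩
  · obtain ⟨y, hy, hyC⟩ : ∃ y ∈ normalizer ((P : Subgroup G) : Set G), y ∉ centralizer ({x} : Set G) := by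
      by_contra hcon
      push Not at hcon
      have h1 : normalizer ((P : Subgroup G) : Set G) ≤ centralizer ({x} : Set G) := hcon
      have := Nat.le_of_dvd (by rw [hC]; norm_num) (card_dvd_of_le h1)
      rw [hN, hC] at this
      omega
    obtain ⟨k, hk, hk'⟩ := hnorm y hy
    have h55 := hpow y hy k hk'
    have hk1 : k ≠ 1 := by
      rintro rfl
      apply hyC
      rw [mem_centralizer_singleton_iff]
      rw [pow_one] at hk'
      rw [← mul_inv_eq_iff_eq_mul]
      exact hk'
    have hj : ∃ j : ℕ, k ^ j % 11 = 3 := by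
      interval_cases k
      · norm_num at h55
      · omega
      · exact absurd h55 (by decide +kernel)
      · exact ⟨1, by norm_num⟩
      · exact ⟨4, by norm_num⟩
      · exact ⟨2, by norm_num⟩
      · exact absurd h55 (by decide +kernel)
      · exact absurd h55 (by decide +kernel)
      · exact absurd h55 (by decide +kernel)
      · exact ⟨3, by norm_num⟩
      · exact absurd h55 (by decide +kernel)
    obtain ⟨j, hj⟩ := hj
    refine ⟨y ^ j, ?_⟩
    rw [conj_pow_iter hk' j, pow_inj_mod, hx, hj]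
  · intro hc
    obtain ⟨y, hy⟩ := isConj_iff.mp hc
    have hx10 : x⁻¹ = x ^ 10 := by
      rw [inv_eq_iff_mul_eq_one, ← pow_succ', show 10 + 1 = orderOf x by rw [hx]]
      exact pow_orderOf_eq_one x
    rw [hx10] at hy
    have hyN : y ∈ normalizer ((P : Subgroup G) : Set G) := by
      rw [mem_normalizer_iff_map_conj_eq]
      apply Subgroup.eq_of_le_of_card_ge
      · rw [hP, MonoidHom.map_zpowers, zpowers_le]
        show y * x * y⁻¹ ∈ zpowers x
        rw [hy]
        exact pow_mem (mem_zpowers x) 10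
      · rw [Subgroup.card_map_of_injective (MulAut.conj y).injective]
    have h1 := hpow y hyN 10 hy
    exact absurd h1 (by decide +kernel)

end Cfsg.Agent.H67.M11
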