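import Cfsg.Agent.H67.M11.Three

set_option autoImplicit false

/-!
# Simple groups of order 7920: centralizers of elements of order three (helper67)
-/

namespace Cfsg.Agent.H67.M11

open Subgroup Cfsg Cfsg.Agent.CharBase
open scoped ComplexConjugate

universe u

variable {G : Type u} [Group G] [Finite G]

theorem not_dvd_of_cent {p q : ℕ} (hp : p.Prime) {z s : G} (hq : orderOf s = q)
    (h : ∀ y : G, orderOf y = p → ¬ q ∣ Nat.card (centralizer ({y} : Set G))) :
    ¬ p ∣ Nat.card (centralizer ({s} : Set G)) := by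
  intro hd
  haveI : Fact p.Prime := ⟨hp⟩
  obtain ⟨y, hy⟩ := exists_prime_orderOf_dvd_card' (G := centralizer ({s} : Set G)) p hd
  apply h y (by rw [Subgroup.orderOf_coe, hy])
  have hsC : s ∈ centralizer ({(y : G)} : Set G) := by
    rw [mem_centralizer_singleton_iff]
    exact ((mem_centralizer_singleton_iff.mp y.2)).symm
  have := orderOf_dvd_natCard (⟨s, hsC⟩ : centralizer ({(y : G)} : Set G))
  rwa [Subgroup.orderOf_mk, hq] at this

/-- a central involution of a Sylow 2-subgroup of `C(s)` -/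
theorem exists_central_invol {s : G} {N k m : ℕ} (hN : Nat.card (centralizer ({s} : Set G)) = 2 ^ k * m)
    (hm : ¬ 2 ∣ m) (hk : k ≠ 0) : ∃ (Q : Subgroup G) (t : G), Nat.card Q = 2 ^ k ∧ orderOf t = 2 ∧ t ∈ Q ∧
      (∀ z ∈ Q, z * s = s * z) ∧ ∀ z ∈ Q, z * t = t * z := by
  haveI : Fact (Nat.Prime 2) := ⟨by norm_num⟩
  obtain ⟨Q⟩ : Nonempty (Sylow 2 (centralizer ({s} : Set G))) := inferInstance
  have hQ := H17.card_sylow_eq Q hN hm
  have hQ' : Nat.card (Q : Subgroup (centralizer ({s} : Set G))) = 2 ^ k := hQ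
  have hnt : Nontrivial (Q : Subgroup (centralizer ({s} : Set G))) := by
    rw [← Finite.one_lt_card_iff_nontrivial, hQ']
    exact Nat.one_lt_two_pow hk
  have hZ := IsPGroup.center_nontrivial Q.isPGroup'
  obtain ⟨n, hn⟩ := IsPGroup.iff_card.mp (Q.isPGroup'.to_subgroup (center (Q : Subgroup (centralizer ({s} : Set G)))))
  have h2 : 2 ∣ Nat.card (center (Q : Subgroup (centralizer ({s} : Set G)))) := by
    have h1 := Finite.one_lt_card_iff_nontrivial.mpr hZ
    rw [hn] at h1 ⊢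
    have : n ≠ 0 := by rintro rfl; simp at h1
    exact dvd_pow_self 2 this
  obtain ⟨t, ht⟩ := exists_prime_orderOf_dvd_card' (G := center (Q : Subgroup (centralizer ({s} : Set G)))) 2 h2
  refine ⟨(Q : Subgroup (centralizer ({s} : Set G))).map (centralizer ({s} : Set G)).subtype, ((t : Q) : centralizer ({s} : Set G)),
    ?_, ?_, ?_, ?_, ?_⟩
  · rw [Subgroup.card_map_of_injective (centralizer ({s} : Set G)).subtype_injective, hQ']
  · rw [Subgroup.orderOf_coe, Subgroup.orderOf_coe, Subgroup.orderOf_coe, ht]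
  · exact ⟨_, (t : Q).2, rfl⟩
  · rintro _ ⟨z, hz, rfl⟩
    exact mem_centralizer_singleton_iff.mp z.2
  · rintro _ ⟨z, hz, rfl⟩
    have h3 := mem_center_iff.mp t.2 (⟨z, hz⟩ : (Q : Subgroup (centralizer ({s} : Set G))))
    have h4 := congrArg (fun w : (Q : Subgroup (centralizer ({s} : Set G))) => ((w : centralizer ({s} : Set G)) : G)) h3
    exact h4

theorem pow_mul_six {s t : G} (hs : orderOf s = 3) (ht : orderOf t = 2) (hts : t * s = s * t) :
    (t * s) ^ 4 = s ∧ (t * s) ^ 3 = t ∧ orderOf (t * s) = 6 := by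
  have hc : Commute t s := hts
  have hs3 : s ^ 3 = 1 := by rw [← hs, pow_orderOf_eq_one]
  have ht2 : t ^ 2 = 1 := by rw [← ht, pow_orderOf_eq_one]
  refine ⟨?_, ?_, ?_⟩
  · rw [hc.mul_pow, show t ^ 4 = (t ^ 2) ^ 2 by rw [← pow_mul], ht2, one_pow, one_mul, pow_succ, hs3, one_mul]
  · rw [hc.mul_pow, hs3, mul_one, pow_succ, ht2, one_mul]
  · rw [hc.orderOf_mul_eq_mul_orderOf_of_coprime (by rw [hs, ht]; norm_num), hs, ht]

theorem card_six {s t : G} {Q : Subgroup G} (hs : orderOf s = 3) (ht : orderOf t = 2) (hts : t * s = s * t)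
    (h1 : ∀ z ∈ Q, z * s = s * z) (h2 : ∀ z ∈ Q, z * t = t * z) :
    Nat.card (centralizer ({t * s} : Set G)) ∣ Nat.card (centralizer ({s} : Set G)) ∧
    Nat.card (centralizer ({t * s} : Set G)) ∣ Nat.card (centralizer ({t} : Set G)) ∧
    Nat.card Q ∣ Nat.card (centralizer ({t * s} : Set G)) ∧ 3 ∣ Nat.card (centralizer ({t * s} : Set G)) := by
  obtain ⟨e1, e2, -⟩ := pow_mul_six hs ht hts
  refine ⟨card_dvd_of_le ?_, card_dvd_of_le ?_, card_dvd_of_le ?_, ?_⟩
  · intro z hz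
    rw [mem_centralizer_singleton_iff] at hz ⊢
    have : Commute z ((t * s) ^ 4) := Commute.pow_right hz 4
    rw [e1] at this
    exact this
  · intro z hz
    rw [mem_centralizer_singleton_iff] at hz ⊢
    have : Commute z ((t * s) ^ 3) := Commute.pow_right hz 3
    rw [e2] at this
    exact this
  · intro z hz
    rw [mem_centralizer_singleton_iff]
    have c1 : Commute z s := h1 z hz
    have c2 : Commute z t := h2 z hz
    exact c2.mul_right c1
  · have hsC : s ∈ centralizer ({t * s} : Set G) := by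
      rw [mem_centralizer_singleton_iff, ← mul_assoc, ← hts, mul_assoc]
    have := orderOf_dvd_natCard (⟨s, hsC⟩ : centralizer ({t * s} : Set G))
    rwa [Subgroup.orderOf_mk, hs] at this

theorem not_isConj_of_orderOf_ne {a b : G} (h : orderOf a ≠ orderOf b) : ¬ IsConj a b := by
  intro hc
  obtain ⟨c, hc⟩ := isConj_iff.mp hc
  apply h
  rw [← hc]
  exact (orderOf_injective (MulAut.conj c).toMonoidHom (MulAut.conj c).injective a).symm

theorem six_false [Fintype (IrrCharacter G)] [IsSimpleGroup G] (hG : Nat.card G = 7920) {L : Fin 10 → IrrCharacter G}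
    (T : T10' L) {s t : G} (hs : orderOf s = 3) (ht : orderOf t = 2) (hts : t * s = s * t) {v : IrrCharacter G → ℤ}
    (hv : ∀ χ : IrrCharacter G, (χ : G → ℂ) s = v χ) (h45 : (v (L 4) = -2 ∧ v (L 5) = 4) ∨ (v (L 4) = 4 ∧ v (L 5) = -2))
    (h6 : v (L 6) = 0) (h8 : v (L 8) = 1 + 2 * v (L 2) + v (L 7)) (h9 : v (L 9) = -(1 + 2 * v (L 2) + v (L 7)))
    (hc : (Nat.card (centralizer ({t * s} : Set G)) = 12 ∧ v (L 3) = 1 ∧ v (L 7) = 2 ∧ v (L 8) = -1) ∨
      (Nat.card (centralizer ({t * s} : Set G)) = 12 ∧ v (L 3) = -2 ∧ v (L 7) = -1 ∧ v (L 8) = 2) ∨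
      (Nat.card (centralizer ({t * s} : Set G)) = 48 ∧ v (L 3) = 4 ∧ v (L 7) = 5 ∧ v (L 8) = -4) ∨
      (Nat.card (centralizer ({t * s} : Set G)) = 48 ∧ v (L 3) = -5 ∧ v (L 7) = -4 ∧ v (L 8) = 5)) : False := by
  obtain ⟨-, -, ho⟩ := pow_mul_six hs ht hts
  set g := t * s with hg
  have hg1 : g ≠ 1 := by intro h; rw [h, orderOf_one] at ho; omega
  have z6 := dz 3 2 (by norm_num) (by rw [hG]; norm_num) (L 6) (by rw [T.deg]; decide) g (by rw [ho]; norm_num)
  have z2 := dz 2 4 (by norm_num) (by rw [hG]; norm_num) (L 2) (by rw [T.deg]; decide) g (by rw [ho]; norm_num)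
  have z1 : (L 1 : G → ℂ) g = 0 := by
    rw [T.r1 g hg1 (by rw [ho]; norm_num) (by rw [ho]; norm_num), z2]
  have q2 := T.r2 g hg1 (by rw [ho]; norm_num) (by rw [ho]; norm_num)
  have q3 := T.r3 g hg1 (by rw [ho]; norm_num) (by rw [ho]; norm_num)
  have q4 := T.r4 g hg1 (by rw [ho]; norm_num) (by rw [ho]; norm_num)
  obtain ⟨R, hR⟩ := T.int_seven ht g
  have z0 : (L 0 : G → ℂ) g = 1 := by rw [T.one, oneIrr_apply]
  rw [z6, z2] at q2
  rw [z2, hR] at q3
  rw [z6, z2, hR] at q4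
  have o1 := column_orthogonality_of_not_isConj (not_isConj_of_orderOf_ne (a := g) (b := t) (by rw [ho, ht]; norm_num))
  have o2 := column_orthogonality_of_not_isConj (not_isConj_of_orderOf_ne (a := g) (b := s) (by rw [ho, hs]; norm_num))
  have o3 := column_orthogonality_of_isConj (IsConj.refl g)
  rw [sum10 T.bij] at o1 o2 o3
  obtain ⟨-, i1, i2, i6, i7, -⟩ := T.inv t ht
  obtain ⟨i0, i8, i9⟩ := T.inv89 ht
  obtain ⟨i3, i4, i5⟩ := T.inv' t ht
  rw [z0, z1, z2, z6, hR, q3, q4, i0, i1, i2, i3, i4, i5, i6, i7, i8, i9] at o1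
  simp only [map_one, map_neg, map_ofNat, map_zero] at o1
  have hv0 : v (L 0) = 1 := by
    have := hv (L 0); rw [T.one, oneIrr_apply] at this; rw [T.one]; exact_mod_cast this.symm
  simp only [hv, map_intCast] at o2
  rw [z0, z1, z2, z6, hR, q3, q4, hv0, h6, h9] at o2
  rw [z0, z1, z2, z6, hR, q3, q4] at o3
  simp only [map_one, map_neg, map_add, map_mul, map_intCast, map_ofNat, map_zero] at o3
  have p1 : (L 3 : G → ℂ) g = -1 - 2 * R := by
    linear_combination (1 / 4) * o1 - (1 / 2) * q2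
  have p2 : (L 4 : G → ℂ) g + (L 5 : G → ℂ) g = 2 + 2 * R := by
    linear_combination -q2 - p1
  have hK' : 1 + (L 3 : G → ℂ) g * conj ((L 3 : G → ℂ) g) + (L 4 : G → ℂ) g * conj ((L 4 : G → ℂ) g) +
      (L 5 : G → ℂ) g * conj ((L 5 : G → ℂ) g) + R * R + 2 * (1 + R) * (1 + R) =
      (((Nat.card (centralizer ({g} : Set G)) : ℕ) : ℤ) : ℂ) := by
    push_cast
    linear_combination o3
  have h8' : (v (L 8) : ℂ) = 1 + 2 * v (L 2) + v (L 7) := by rw [h8]; push_cast; ring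
  have p3 : 1 + (v (L 3) : ℂ) * (L 3 : G → ℂ) g + (v (L 4) : ℂ) * (L 4 : G → ℂ) g + (v (L 5) : ℂ) * (L 5 : G → ℂ) g +
      (v (L 7) : ℂ) * R + 2 * (v (L 8) : ℂ) * (1 + R) = 0 := by
    push_cast at o2
    rw [h8']
    rw [h8'] at o2
    linear_combination o2
  have hc' : (((Nat.card (centralizer ({g} : Set G)) : ℕ) : ℤ) = 12 ∧ v (L 3) = 1 ∧ v (L 7) = 2 ∧ v (L 8) = -1) ∨
      (((Nat.card (centralizer ({g} : Set G)) : ℕ) : ℤ) = 12 ∧ v (L 3) = -2 ∧ v (L 7) = -1 ∧ v (L 8) = 2) ∨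
      (((Nat.card (centralizer ({g} : Set G)) : ℕ) : ℤ) = 48 ∧ v (L 3) = 4 ∧ v (L 7) = 5 ∧ v (L 8) = -4) ∨
      (((Nat.card (centralizer ({g} : Set G)) : ℕ) : ℤ) = 48 ∧ v (L 3) = -5 ∧ v (L 7) = -4 ∧ v (L 8) = 5) := by
    exact_mod_cast hc
  rcases h45 with ⟨a2, a3⟩ | ⟨a2, a3⟩
  · exact arith6 p1 p2 p3 hK' a2 a3 hc'
  · refine arith6 (B2 := (L 5 : G → ℂ) g) (B3 := (L 4 : G → ℂ) g) p1 (by rw [← p2]; ring) (by rw [← p3]; ring)
      (by rw [← hK']; ring) a3 a2 hc'

theorem arith_mem {e r A N : ℤ} (he : (3 : ℤ) ∣ 16 - e) (hr : (3 : ℤ) ∣ 11 - r) (hA : (3 : ℤ) ∣ 10 - A)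
    (h : 1 + 2 * (e * e) + (1 + 3 * e + 2 * r) * (1 + 3 * e + 2 * r) + A * A +
      (2 + 2 * e + 2 * r - A) * (2 + 2 * e + 2 * r - A) + r * r + 2 * ((1 + 2 * e + r) * (1 + 2 * e + r)) = N)
    (hN : N ≤ 144) : e ∈ ({-8, -5, -2, 1, 4, 7} : Finset ℤ) ∧ r ∈ ({-10, -7, -4, -1, 2, 5, 8, 11} : Finset ℤ) ∧
      A ∈ ({-11, -8, -5, -2, 1, 4, 7, 10} : Finset ℤ) := by
  have q1 := mul_self_nonneg (1 + 3 * e + 2 * r)
  have q2 := mul_self_nonneg (2 + 2 * e + 2 * r - A)
  have q3 := mul_self_nonneg (1 + 2 * e + r)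
  have q4 := mul_self_nonneg e
  have q5 := mul_self_nonneg r
  have q6 := mul_self_nonneg A
  have e1 : e * e ≤ 71 := by linarith
  have e2 : r * r ≤ 143 := by linarith
  have e3 : A * A ≤ 143 := by linarith
  have a1 : e ≤ 8 := by nlinarith
  have a2 : -8 ≤ e := by nlinarith
  have a3 : r ≤ 11 := by nlinarith
  have a4 : -11 ≤ r := by nlinarith
  have a5 : A ≤ 11 := by nlinarith
  have a6 : -11 ≤ A := by nlinarith
  clear h q1 q2 q3 q4 q5 q6 e1 e2 e3
  simp only [Finset.mem_insert, Finset.mem_singleton]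
  refine ⟨by omega, by omega, by omega⟩

theorem cent3 [Fintype (IrrCharacter G)] [IsSimpleGroup G] (hG : Nat.card G = 7920) {L : Fin 10 → IrrCharacter G}
    (T : T10' L) {s : G} (hs : orderOf s = 3) : Nat.card (centralizer ({s} : Set G)) = 18 := by
  classical
  haveI : Fact (Nat.Prime 2) := ⟨by norm_num⟩
  have hs1 : s ≠ 1 := by rintro rfl; rw [orderOf_one] at hs; omega
  have hr := real3 hG T hs
  choose v hv hv3 using fun χ : IrrCharacter G => Col.int_val_three hs hr χ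
  obtain ⟨t, ht⟩ := exists_prime_orderOf_dvd_card' (G := G) 2 (by rw [hG]; norm_num)
  have h9 := nine_dvd hG hs
  have h5 : ¬ 5 ∣ Nat.card (centralizer ({s} : Set G)) :=
    not_dvd_of_cent (z := s) (by norm_num) hs (fun y hy => by rw [T.five y hy]; norm_num)
  have h11 := eleven_not_dvd hG hs1 (by rw [hs]; norm_num)
  have hdvd : Nat.card (centralizer ({s} : Set G)) ∣ 7920 := hG ▸ card_subgroup_dvd_card _
  have hNmem : Nat.card (centralizer ({s} : Set G)) ∈ ({9, 18, 36, 72, 144} : Finset ℕ) := by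
    have key : ∀ c ∈ Nat.divisors 7920, 9 ∣ c → ¬ 5 ∣ c → ¬ 11 ∣ c → c ∈ ({9, 18, 36, 72, 144} : Finset ℕ) := by
      decide +kernel
    exact key _ (Nat.mem_divisors.mpr ⟨hdvd, by norm_num⟩) h9 h5 h11
  set N := Nat.card (centralizer ({s} : Set G)) with hN
  have hN' : (N : ℤ) ∈ ({9, 18, 36, 72, 144} : Finset ℤ) := by
    simp only [Finset.mem_insert, Finset.mem_singleton] at hNmem ⊢
    omega
  -- values
  have hv0 : v (L 0) = 1 := by
    have := hv (L 0); rw [T.one, oneIrr_apply] at this; rw [T.one]; exact_mod_cast this.symm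
  have w6 : v (L 6) = 0 := by
    have z6 := dz 3 2 (by norm_num) (by rw [hG]; norm_num) (L 6) (by rw [T.deg]; decide) s (by rw [hs])
    rw [hv] at z6
    exact_mod_cast z6
  have w1 : v (L 1) = v (L 2) := by
    have := T.r1 s hs1 (by rw [hs]; norm_num) (by rw [hs]; norm_num)
    rw [hv, hv] at this
    exact_mod_cast this
  have w2 : v (L 6) = v (L 2) + v (L 3) + v (L 4) + v (L 5) - 1 := by
    have := T.r2 s hs1 (by rw [hs]; norm_num) (by rw [hs]; norm_num)
    simp only [hv] at this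
    exact_mod_cast this
  have w8 : v (L 8) = 1 + 2 * v (L 2) + v (L 7) := by
    have := T.r3 s hs1 (by rw [hs]; norm_num) (by rw [hs]; norm_num)
    simp only [hv] at this
    exact_mod_cast this
  have w9 : v (L 9) = -(1 + v (L 6) + 2 * v (L 2) + v (L 7)) := by
    have := T.r4 s hs1 (by rw [hs]; norm_num) (by rw [hs]; norm_num)
    simp only [hv] at this
    exact_mod_cast this
  rw [w6] at w2 w9
  have w9' : v (L 9) = -(1 + 2 * v (L 2) + v (L 7)) := by linarith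
  have ot := column_orthogonality_of_not_isConj (not_isConj_of_orderOf_ne (a := s) (b := t) (by rw [hs, ht]; norm_num))
  rw [sum10 T.bij] at ot
  obtain ⟨-, i1, i2, i6, i7, -⟩ := T.inv t ht
  obtain ⟨i0, i8, i9⟩ := T.inv89 ht
  obtain ⟨i3, i4, i5⟩ := T.inv' t ht
  simp only [hv] at ot
  rw [i0, i1, i2, i3, i4, i5, i6, i7, i8, i9] at ot
  simp only [map_one, map_neg, map_ofNat, map_zero] at ot
  have ot' : v (L 0) * 1 + v (L 1) * 0 + v (L 2) * 0 + v (L 3) * 2 + v (L 4) * -2 + v (L 5) * -2 + v (L 6) * -3 +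
      v (L 7) * 3 + v (L 8) * 4 + v (L 9) * -1 = 0 := by exact_mod_cast ot
  have hsq := Col.col_int hv hv
  rw [if_pos (IsConj.refl s), sum10 T.bij] at hsq
  rw [hv0, w6, w9', w8] at ot'
  have w3 : v (L 3) = -(1 + 3 * v (L 2) + 2 * v (L 7)) := by linarith
  have w5 : v (L 5) = 2 + 2 * v (L 2) + 2 * v (L 7) - v (L 4) := by linarith
  have hNeq : 1 + 2 * (v (L 2) * v (L 2)) + (1 + 3 * v (L 2) + 2 * v (L 7)) * (1 + 3 * v (L 2) + 2 * v (L 7)) + v (L 4) * v (L 4) +
      (2 + 2 * v (L 2) + 2 * v (L 7) - v (L 4)) * (2 + 2 * v (L 2) + 2 * v (L 7) - v (L 4)) + v (L 7) * v (L 7) +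
      2 * ((1 + 2 * v (L 2) + v (L 7)) * (1 + 2 * v (L 2) + v (L 7))) = (N : ℤ) := by
    rw [← hsq, hv0, w1, w6, w9', w8, w3, w5]
    ring
  have m2 := hv3 (L 2)
  have m7 := hv3 (L 7)
  have m4 := hv3 (L 4)
  rw [T.deg] at m2 m7 m4
  simp only [Matrix.cons_val] at m2 m7 m4
  obtain ⟨k2, k7, k4⟩ := arith_mem (by exact_mod_cast m2) (by exact_mod_cast m7) (by exact_mod_cast m4) hNeq (by
    simp only [Finset.mem_insert, Finset.mem_singleton] at hN'
    omega)
  rcases arith3s _ k2 _ k7 _ k4 _ hN' hNeq with h18 | ⟨hA, hcase⟩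
  · exact_mod_cast h18
  · exfalso
    have h45 : (v (L 4) = -2 ∧ v (L 5) = 4) ∨ (v (L 4) = 4 ∧ v (L 5) = -2) := by
      rcases hA with g1 | g1
      · left; refine ⟨g1, ?_⟩; rw [w5, g1]
        rcases hcase with ⟨-, g2, g3⟩ | ⟨-, g2, g3⟩ | ⟨-, g2, g3⟩ | ⟨-, g2, g3⟩ <;> rw [g2, g3] <;> norm_num
      · right; refine ⟨g1, ?_⟩; rw [w5, g1]
        rcases hcase with ⟨-, g2, g3⟩ | ⟨-, g2, g3⟩ | ⟨-, g2, g3⟩ | ⟨-, g2, g3⟩ <;> rw [g2, g3] <;> norm_num
    have h36 : N = 36 → False := by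
      intro h
      obtain ⟨Q, t', hQ, ht', htQ, hQs, hQt⟩ := exists_central_invol (N := 0) (k := 2) (m := 9) (s := s)
        (by rw [← hN, h]; norm_num) (by norm_num) (by norm_num)
      obtain ⟨d1, d2, d3, d4⟩ := card_six hs ht' (hQs t' htQ) hQs hQt
      rw [← hN, h] at d1
      rw [(T.inv t' ht').1] at d2
      rw [hQ] at d3
      have hK : Nat.card (centralizer ({t' * s} : Set G)) = 12 := by
        have h12 : Nat.card (centralizer ({t' * s} : Set G)) ∣ 12 := by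
          have := Nat.dvd_gcd d1 d2
          norm_num at this
          exact this
        have h12' : 12 ∣ Nat.card (centralizer ({t' * s} : Set G)) :=
          Nat.Coprime.mul_dvd_of_dvd_of_dvd (m := 4) (n := 3) (by norm_num) d3 d4
        exact Nat.dvd_antisymm h12 h12'
      apply six_false hG T hs ht' (hQs t' htQ) hv h45 w6 w8 w9'
      rcases hcase with ⟨-, g2, g3⟩ | ⟨-, g2, g3⟩ | ⟨g1, -, -⟩ | ⟨g1, -, -⟩
      · left; exact ⟨hK, by rw [w3, g2, g3]; norm_num, g3, by rw [w8, g2, g3]; norm_num⟩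
      · right; left; exact ⟨hK, by rw [w3, g2, g3]; norm_num, g3, by rw [w8, g2, g3]; norm_num⟩
      · rw [h] at g1; norm_num at g1
      · rw [h] at g1; norm_num at g1
    have h144 : N = 144 → False := by
      intro h
      obtain ⟨Q, t', hQ, ht', htQ, hQs, hQt⟩ := exists_central_invol (N := 0) (k := 4) (m := 9) (s := s)
        (by rw [← hN, h]; norm_num) (by norm_num) (by norm_num)
      obtain ⟨d1, d2, d3, d4⟩ := card_six hs ht' (hQs t' htQ) hQs hQt
      rw [(T.inv t' ht').1] at d2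
      rw [hQ] at d3
      have hK : Nat.card (centralizer ({t' * s} : Set G)) = 48 := by
        have h12' : 48 ∣ Nat.card (centralizer ({t' * s} : Set G)) :=
          Nat.Coprime.mul_dvd_of_dvd_of_dvd (m := 16) (n := 3) (by norm_num) d3 d4
        exact Nat.dvd_antisymm d2 h12'
      apply six_false hG T hs ht' (hQs t' htQ) hv h45 w6 w8 w9'
      rcases hcase with ⟨g1, -, -⟩ | ⟨g1, -, -⟩ | ⟨-, g2, g3⟩ | ⟨-, g2, g3⟩
      · rw [h] at g1; norm_num at g1
      · rw [h] at g1; norm_num at g1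
      · right; right; left; exact ⟨hK, by rw [w3, g2, g3]; norm_num, g3, by rw [w8, g2, g3]; norm_num⟩
      · right; right; right; exact ⟨hK, by rw [w3, g2, g3]; norm_num, g3, by rw [w8, g2, g3]; norm_num⟩
    rcases hcase with ⟨g1, -, -⟩ | ⟨g1, -, -⟩ | ⟨g1, -, -⟩ | ⟨g1, -, -⟩
    · exact h36 (by exact_mod_cast g1)
    · exact h36 (by exact_mod_cast g1)
    · exact h144 (by exact_mod_cast g1)
    · exact h144 (by exact_mod_cast g1)

end Cfsg.Agent.H67.M11
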