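import Cfsg.Agent.H67.M11.Unique
import Cfsg.Agent.Golay.M12
import Cfsg.Prelude.Def_Spor_Mathieu

set_option autoImplicit false

/-!
# The concrete Mathieu group of degree eleven (helper67)
-/

namespace Cfsg.Agent.H67.M11

open Subgroup Cfsg MulAction
open scoped Pointwise

universe u

theorem sq_mem : Spor.squareDodecad ∈ dodecads := by
  have h : Spor.squareDodecad = Golay.d0 := by decide +kernel
  rw [h]
  exact Golay.d0_mem

theorem zero_mem_sq : (some 0 : GolayPt) ∈ Spor.squareDodecad := by decide +kernel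

/-- the two versions of the Mathieu group -/
def sporEquiv : Spor.M11 ≃* (stabilizer M24 Spor.squareDodecad ⊓ stabilizer M24 (some 0 : GolayPt) : Subgroup M24) where
  toFun g := ⟨⟨g, g.2.1.1⟩, g.2.1.2, g.2.2⟩
  invFun g := ⟨g.1, ⟨g.1.2, g.2.1⟩, g.2.2⟩
  left_inv _ := rfl
  right_inv _ := rfl
  map_mul' _ _ := rfl

theorem card_spor : Nat.card Spor.M11 = 7920 := by
  rw [Nat.card_congr sporEquiv.toEquiv]
  exact Golay.card_M11 sq_mem zero_mem_sq

theorem simple_spor : IsSimpleGroup Spor.M11 := by
  haveI := Golay.simple_M11 sq_mem zero_mem_sq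
  exact sporEquiv.isSimpleGroup

/-- simple groups of order 7920 are isomorphic to the concrete Mathieu group -/
theorem isoM11 {G : Type u} [Group G] [Finite G] [IsSimpleGroup G] (hG : Nat.card G = 7920) : Spor.IsoM11 G := by
  haveI := simple_spor
  exact unique hG card_spor

end Cfsg.Agent.H67.M11
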