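import Cfsg.Agent.H67.M11.Deg

set_option autoImplicit false

/-!
# Simple groups of order 7920: the principal 11-block (helper67)
-/

namespace Cfsg.Agent.H67.M11

open Subgroup Cfsg Cfsg.Agent.CharBase
open scoped ComplexConjugate

universe u

variable {G : Type u} [Group G] [Finite G] [Fintype (IrrCharacter G)]

theorem inj7 {ι : Type*} {c0 c1 c2 c3 c4 c5 c6 : ι} (h : [c0, c1, c2, c3, c4, c5, c6].Nodup) :
    Function.Injective (![c0, c1, c2, c3, c4, c5, c6] : Fin 7 → ι) := by
  have : [c0, c1, c2, c3, c4, c5, c6] = List.ofFn (![c0, c1, c2, c3, c4, c5, c6] : Fin 7 → ι) := by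
    simp [List.ofFn_succ]
  rw [this, List.nodup_ofFn] at h
  exact h

structure Base7 {x : G} {a b : IrrCharacter G → ℤ} (h : XCol x a b) (L : Fin 7 → IrrCharacter G) (dv : Fin 7 → ℕ)
    (av bv : Fin 7 → ℤ) : Prop where
  inj : Function.Injective L
  one : L 0 = oneIrr G
  deg : ∀ i, H75.deg (L i) = dv i
  aval : ∀ i, a (L i) = av i
  bval : ∀ i, b (L i) = bv i
  rest : ∀ χ, χ ∉ Set.range L → a χ = 0 ∧ b χ = 0 ∧ 11 ∣ H75.deg χ

/-- the characters outside of the list -/
noncomputable def restZ {n : ℕ} [DecidableEq (IrrCharacter G)] (L : Fin n → IrrCharacter G) : Finset (IrrCharacter G) :=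
  Finset.univ \ Finset.univ.image L

theorem mem_restZ {n : ℕ} [DecidableEq (IrrCharacter G)] {L : Fin n → IrrCharacter G} {χ : IrrCharacter G} :
    χ ∈ restZ L ↔ χ ∉ Set.range L := by
  unfold restZ; simp

theorem sum_restZ {n : ℕ} [DecidableEq (IrrCharacter G)] {L : Fin n → IrrCharacter G} (hL : Function.Injective L)
    {M : Type*} [AddCommMonoid M] (F : IrrCharacter G → M) : ∑ χ, F χ = ∑ i, F (L i) + ∑ χ ∈ restZ L, F χ := by
  unfold restZ
  rw [← Finset.sum_image (s := Finset.univ) (g := L) (f := F) (fun i _ j _ hij => hL hij), add_comm,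
    Finset.sum_sdiff (Finset.subset_univ _)]

theorem exists_base7 [IsSimpleGroup G] (hG : Nat.card G = 7920) {x : G}
    {a b : IrrCharacter G → ℤ} (h : XCol x a b) :
    (∃ ψ : IrrCharacter G, ψ ≠ oneIrr G ∧ H75.deg ψ = 2) ∨
    (∃ L, Base7 h L ![1, 5, 5, 12, 12, 10, 10] ![1, 0, -1, 1, 1, -1, -1] ![0, 1, -1, 0, 0, 0, 0]) ∨
    (∃ L, Base7 h L ![1, 16, 16, 10, 10, 10, 45] ![1, 0, -1, -1, -1, -1, 1] ![0, 1, -1, 0, 0, 0, 0]) := by
  classical
  obtain ⟨p, q, hpq, hpo, hqo, hbp, hbq, hap, haq, hb0, hdpq, hcl, hres⟩ := deg_cases hG h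
  have hdo : H75.deg (oneIrr G) = 1 := by exact_mod_cast (Col.deg_one (G := G))
  rcases hres with ⟨hd, h12, h45, h10, h2⟩ | ⟨hd, h12, h45, h10, h2⟩ | ⟨-, ψ, hψ, hψ'⟩
  · right; right
    obtain ⟨f, hf⟩ := Finset.card_eq_one.mp h45
    obtain ⟨c1, c2, c3, h12', h13', h23', hc⟩ := Finset.card_eq_three.mp h10
    have mf : f ∈ (restS p q).filter (fun χ => a χ = 1 ∧ H75.deg χ = 45) := by rw [hf]; simp
    have m1 : c1 ∈ (restS p q).filter (fun χ => a χ = -1 ∧ H75.deg χ = 10) := by rw [hc]; simp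
    have m2 : c2 ∈ (restS p q).filter (fun χ => a χ = -1 ∧ H75.deg χ = 10) := by rw [hc]; simp
    have m3 : c3 ∈ (restS p q).filter (fun χ => a χ = -1 ∧ H75.deg χ = 10) := by rw [hc]; simp
    simp only [Finset.mem_filter, mem_restS] at mf m1 m2 m3
    refine ⟨![oneIrr G, p, q, c1, c2, c3, f], inj7 ?_, rfl, ?_, ?_, ?_, ?_⟩
    · have n1 : f ≠ c1 := by rintro rfl; have := mf.2.2; have := m1.2.2; omega
      have n2 : f ≠ c2 := by rintro rfl; have := mf.2.2; have := m2.2.2; omega
      have n3 : f ≠ c3 := by rintro rfl; have := mf.2.2; have := m3.2.2; omega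
      simp only [List.nodup_cons, List.mem_cons, List.not_mem_nil, not_or, or_false, List.nodup_nil, not_false_eq_true, and_true]
      exact ⟨⟨hpo.symm, hqo.symm, m1.1.2.2.symm, m2.1.2.2.symm, m3.1.2.2.symm, mf.1.2.2.symm⟩,
        ⟨hpq, m1.1.2.1.symm, m2.1.2.1.symm, m3.1.2.1.symm, mf.1.2.1.symm⟩,
        ⟨m1.1.1.symm, m2.1.1.symm, m3.1.1.symm, mf.1.1.symm⟩, ⟨h12', h13', n1.symm⟩, ⟨h23', n2.symm⟩, n3.symm⟩
    · intro i; fin_cases i
      · exact hdo
      · exact hd
      · exact hdpq.symm.trans hd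
      · exact m1.2.2
      · exact m2.2.2
      · exact m3.2.2
      · exact mf.2.2
    · intro i; fin_cases i
      · exact h.one_a
      · exact hap
      · exact haq
      · exact m1.2.1
      · exact m2.2.1
      · exact m3.2.1
      · exact mf.2.1
    · intro i; fin_cases i
      · exact h.one_b
      · exact hbp
      · exact hbq
      · exact hb0 _ m1.1.2.1 m1.1.1
      · exact hb0 _ m2.1.2.1 m2.1.1
      · exact hb0 _ m3.1.2.1 m3.1.1
      · exact hb0 _ mf.1.2.1 mf.1.1
    · intro χ hχ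
      have hne : ∀ i : Fin 7, χ ≠ (![oneIrr G, p, q, c1, c2, c3, f] : Fin 7 → IrrCharacter G) i := fun i hi => hχ ⟨i, hi.symm⟩
      have e0 := hne 0
      have e1 := hne 1
      have e2 := hne 2
      have e3 := hne 3
      have e4 := hne 4
      have e5 := hne 5
      have e6 := hne 6
      have hS : χ ∈ restS p q := mem_restS.mpr ⟨e2, e1, e0⟩
      rcases hcl χ hS with g | g | g | g | g
      · exact ⟨g.1, hb0 χ e1 e2, g.2⟩
      · exact absurd g (not_of_card_filter h12 χ hS)
      · exfalso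
        have : χ ∈ (restS p q).filter (fun χ => a χ = 1 ∧ H75.deg χ = 45) := Finset.mem_filter.mpr ⟨hS, g⟩
        rw [hf, Finset.mem_singleton] at this
        exact e6 this
      · exfalso
        have : χ ∈ (restS p q).filter (fun χ => a χ = -1 ∧ H75.deg χ = 10) := Finset.mem_filter.mpr ⟨hS, g⟩
        rw [hc] at this
        simp only [Finset.mem_insert, Finset.mem_singleton] at this
        rcases this with g | g | g
        · exact e3 g
        · exact e4 g
        · exact e5 g
      · exact absurd g (not_of_card_filter h2 χ hS)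
  · right; left
    obtain ⟨s1, s2, hs12, hs⟩ := Finset.card_eq_two.mp h12
    obtain ⟨r1, r2, hr12, hr⟩ := Finset.card_eq_two.mp h10
    have m1 : s1 ∈ (restS p q).filter (fun χ => a χ = 1 ∧ H75.deg χ = 12) := by rw [hs]; simp
    have m2 : s2 ∈ (restS p q).filter (fun χ => a χ = 1 ∧ H75.deg χ = 12) := by rw [hs]; simp
    have m3 : r1 ∈ (restS p q).filter (fun χ => a χ = -1 ∧ H75.deg χ = 10) := by rw [hr]; simp
    have mf : r2 ∈ (restS p q).filter (fun χ => a χ = -1 ∧ H75.deg χ = 10) := by rw [hr]; simp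
    simp only [Finset.mem_filter, mem_restS] at mf m1 m2 m3
    refine ⟨![oneIrr G, p, q, s1, s2, r1, r2], inj7 ?_, rfl, ?_, ?_, ?_, ?_⟩
    · have n1 : s1 ≠ r1 := by rintro rfl; have := m1.2.2; have := m3.2.2; omega
      have n2 : s1 ≠ r2 := by rintro rfl; have := m1.2.2; have := mf.2.2; omega
      have n3 : s2 ≠ r1 := by rintro rfl; have := m2.2.2; have := m3.2.2; omega
      have n4 : s2 ≠ r2 := by rintro rfl; have := m2.2.2; have := mf.2.2; omega
      simp only [List.nodup_cons, List.mem_cons, List.not_mem_nil, not_or, or_false, List.nodup_nil, not_false_eq_true, and_true]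
      exact ⟨⟨hpo.symm, hqo.symm, m1.1.2.2.symm, m2.1.2.2.symm, m3.1.2.2.symm, mf.1.2.2.symm⟩,
        ⟨hpq, m1.1.2.1.symm, m2.1.2.1.symm, m3.1.2.1.symm, mf.1.2.1.symm⟩,
        ⟨m1.1.1.symm, m2.1.1.symm, m3.1.1.symm, mf.1.1.symm⟩, ⟨hs12, n1, n2⟩, ⟨n3, n4⟩, hr12⟩
    · intro i; fin_cases i
      · exact hdo
      · exact hd
      · exact hdpq.symm.trans hd
      · exact m1.2.2
      · exact m2.2.2
      · exact m3.2.2
      · exact mf.2.2
    · intro i; fin_cases i
      · exact h.one_a
      · exact hap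
      · exact haq
      · exact m1.2.1
      · exact m2.2.1
      · exact m3.2.1
      · exact mf.2.1
    · intro i; fin_cases i
      · exact h.one_b
      · exact hbp
      · exact hbq
      · exact hb0 _ m1.1.2.1 m1.1.1
      · exact hb0 _ m2.1.2.1 m2.1.1
      · exact hb0 _ m3.1.2.1 m3.1.1
      · exact hb0 _ mf.1.2.1 mf.1.1
    · intro χ hχ
      have hne : ∀ i : Fin 7, χ ≠ (![oneIrr G, p, q, s1, s2, r1, r2] : Fin 7 → IrrCharacter G) i := fun i hi => hχ ⟨i, hi.symm⟩
      have e0 := hne 0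
      have e1 := hne 1
      have e2 := hne 2
      have e3 := hne 3
      have e4 := hne 4
      have e5 := hne 5
      have e6 := hne 6
      have hS : χ ∈ restS p q := mem_restS.mpr ⟨e2, e1, e0⟩
      rcases hcl χ hS with g | g | g | g | g
      · exact ⟨g.1, hb0 χ e1 e2, g.2⟩
      · exfalso
        have : χ ∈ (restS p q).filter (fun χ => a χ = 1 ∧ H75.deg χ = 12) := Finset.mem_filter.mpr ⟨hS, g⟩
        rw [hs] at this
        simp only [Finset.mem_insert, Finset.mem_singleton] at this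
        rcases this with g | g
        · exact e3 g
        · exact e4 g
      · exact absurd g (not_of_card_filter h45 χ hS)
      · exfalso
        have : χ ∈ (restS p q).filter (fun χ => a χ = -1 ∧ H75.deg χ = 10) := Finset.mem_filter.mpr ⟨hS, g⟩
        rw [hr] at this
        simp only [Finset.mem_insert, Finset.mem_singleton] at this
        rcases this with g | g
        · exact e5 g
        · exact e6 g
      · exact absurd g (not_of_card_filter h2 χ hS)
  · left
    exact ⟨ψ, (mem_restS.mp hψ).2.2, hψ'⟩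

end Cfsg.Agent.H67.M11
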