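import Cfsg.Agent.H67.M11.Inv

set_option autoImplicit false

/-!
# Simple groups of order 7920: elimination of the exceptional cases (helper67)
-/

namespace Cfsg.Agent.H67.M11

open Subgroup Cfsg Cfsg.Agent.CharBase
open scoped ComplexConjugate

universe u

variable {G : Type u} [Group G] [Finite G] [Fintype (IrrCharacter G)]

omit [Fintype (IrrCharacter G)] in
/-- characters of defect zero vanish on `p`-singular elements -/
theorem dz (p n : ℕ) (hp : p.Prime) (hn : ¬ p ^ (n + 1) ∣ Nat.card G) (χ : IrrCharacter G) (hd : p ^ n ∣ H75.deg χ)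
    (g : G) (hg : p ∣ orderOf g) : (χ : G → ℂ) g = 0 := by
  haveI := Fintype.ofFinite G
  exact Char.DZ.eq_zero_of_defect_zero p n hp hn χ.2 (H75.deg_spec χ) hd g hg

theorem arithII : ∀ c ∈ ({-3, 1} : Finset ℤ), ∀ s1 ∈ ({-8, -4, 0, 4, 8} : Finset ℤ), ∀ s2 ∈ ({-8, -4, 0, 4, 8} : Finset ℤ),
    ∀ r1 ∈ ({-6, -2, 2, 6} : Finset ℤ), ∀ r2 ∈ ({-6, -2, 2, 6} : Finset ℤ),
    1 - c + s1 + s2 - r1 - r2 = 0 → 60 - 12 * (c * c) + 5 * (s1 * s1 + s2 * s2) - 6 * (r1 * r1 + r2 * r2) = 0 →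
      s1 = 0 ∧ s2 = 0 := by decide +kernel

theorem arithI : ∀ r1 ∈ ({-6, -2, 2, 6} : Finset ℤ), ∀ r2 ∈ ({-6, -2, 2, 6} : Finset ℤ), ∀ r3 ∈ ({-6, -2, 2, 6} : Finset ℤ),
    90 - 9 * (r1 * r1 + r2 * r2 + r3 * r3) + 2 * ((r1 + r2 + r3 - 1) * (r1 + r2 + r3 - 1)) = 0 →
      r1 + r2 + r3 - 1 = -3 ∧ ((r1 = 2 ∧ r2 = -2 ∧ r3 = -2) ∨ (r1 = -2 ∧ r2 = 2 ∧ r3 = -2) ∨
        (r1 = -2 ∧ r2 = -2 ∧ r3 = 2)) := by decide +kernel

theorem caseTwo {x : G} {a b : IrrCharacter G → ℤ} {h : XCol x a b} {t : G} {v : IrrCharacter G → ℤ}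
    (C : ICol h t v) {ψ : IrrCharacter G} (h1 : ψ ≠ oneIrr G) (h2 : H75.deg ψ = 2) : False := by
  have h3 := C.cong ψ
  have h4 := C.lt ψ h1
  rw [h2] at h3 h4
  rw [abs_lt] at h4
  obtain ⟨h5, h6⟩ := h4
  push_cast at *
  omega

theorem r_mem {v : ℤ} (h1 : (4 : ℤ) ∣ (10 : ℤ) - v) (h2 : |v| < 10) : v ∈ ({-6, -2, 2, 6} : Finset ℤ) := by
  rw [abs_lt] at h2
  simp only [Finset.mem_insert, Finset.mem_singleton]
  omega

theorem s_mem {v : ℤ} (h1 : (4 : ℤ) ∣ (12 : ℤ) - v) (h2 : |v| < 12) : v ∈ ({-8, -4, 0, 4, 8} : Finset ℤ) := by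
  rw [abs_lt] at h2
  simp only [Finset.mem_insert, Finset.mem_singleton]
  omega

theorem c_mem {v : ℤ} (h1 : (4 : ℤ) ∣ (5 : ℤ) - v) (h2 : |v| < 5) : v ∈ ({-3, 1} : Finset ℤ) := by
  rw [abs_lt] at h2
  simp only [Finset.mem_insert, Finset.mem_singleton]
  omega

theorem caseII_vals {x : G} {a b : IrrCharacter G → ℤ} {h : XCol x a b} {t : G} {v : IrrCharacter G → ℤ}
    (C : ICol h t v) {L : Fin 7 → IrrCharacter G}
    (B : Base7 h L ![1, 5, 5, 12, 12, 10, 10] ![1, 0, -1, 1, 1, -1, -1] ![0, 1, -1, 0, 0, 0, 0]) :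
    v (L 3) = 0 ∧ v (L 4) = 0 := by
  obtain ⟨e1, e2, e3⟩ := C.seven B
  have hne : ∀ i : Fin 7, i ≠ 0 → L i ≠ oneIrr G := fun i hi h => hi (B.inj (h.trans B.one.symm))
  have hv0 : v (L 0) = 1 := by rw [B.one]; exact C.one
  have hc := c_mem (v := v (L 2)) (by have := C.cong (L 2); rw [B.deg] at this; exact_mod_cast this)
    (by have := C.lt (L 2) (hne 2 (by decide)); rw [B.deg] at this; exact_mod_cast this)
  have h3 := s_mem (v := v (L 3)) (by have := C.cong (L 3); rw [B.deg] at this; exact_mod_cast this)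
    (by have := C.lt (L 3) (hne 3 (by decide)); rw [B.deg] at this; exact_mod_cast this)
  have h4 := s_mem (v := v (L 4)) (by have := C.cong (L 4); rw [B.deg] at this; exact_mod_cast this)
    (by have := C.lt (L 4) (hne 4 (by decide)); rw [B.deg] at this; exact_mod_cast this)
  have h5 := r_mem (v := v (L 5)) (by have := C.cong (L 5); rw [B.deg] at this; exact_mod_cast this)
    (by have := C.lt (L 5) (hne 5 (by decide)); rw [B.deg] at this; exact_mod_cast this)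
  have h6 := r_mem (v := v (L 6)) (by have := C.cong (L 6); rw [B.deg] at this; exact_mod_cast this)
    (by have := C.lt (L 6) (hne 6 (by decide)); rw [B.deg] at this; exact_mod_cast this)
  rw [Fin.sum_univ_seven] at e1 e2 e3
  simp only [Matrix.cons_val, hv0] at e1 e2 e3
  apply arithII (v (L 2)) hc (v (L 3)) h3 (v (L 4)) h4 (v (L 5)) h5 (v (L 6)) h6
  · linarith
  · have e4 : (60 - 12 * ((v (L 2) : ℚ) * v (L 2)) + 5 * ((v (L 3) : ℚ) * v (L 3) + v (L 4) * v (L 4)) -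
      6 * ((v (L 5) : ℚ) * v (L 5) + v (L 6) * v (L 6))) = 0 := by
      push_cast at e3
      linear_combination 60 * e3
    exact_mod_cast e4

theorem caseI_vals {x : G} {a b : IrrCharacter G → ℤ} {h : XCol x a b} {t : G} {v : IrrCharacter G → ℤ}
    (C : ICol h t v) (hG : Nat.card G = 7920) (ht : orderOf t = 2) {L : Fin 7 → IrrCharacter G}
    (B : Base7 h L ![1, 16, 16, 10, 10, 10, 45] ![1, 0, -1, -1, -1, -1, 1] ![0, 1, -1, 0, 0, 0, 0]) :
    v (L 1) = 0 ∧ v (L 2) = 0 ∧ v (L 6) = -3 ∧ ((v (L 3) = 2 ∧ v (L 4) = -2 ∧ v (L 5) = -2) ∨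
      (v (L 3) = -2 ∧ v (L 4) = 2 ∧ v (L 5) = -2) ∨ (v (L 3) = -2 ∧ v (L 4) = -2 ∧ v (L 5) = 2)) := by
  obtain ⟨e1, e2, e3⟩ := C.seven B
  have hne : ∀ i : Fin 7, i ≠ 0 → L i ≠ oneIrr G := fun i hi h => hi (B.inj (h.trans B.one.symm))
  have hv0 : v (L 0) = 1 := by rw [B.one]; exact C.one
  have hd0 : ∀ i : Fin 7, H75.deg (L i) = 16 → v (L i) = 0 := by
    intro i hi
    have h1 := dz 2 4 (by norm_num) (by rw [hG]; norm_num) (L i)
      (by rw [hi]; norm_num) t (by rw [ht])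
    have h2 := C.val (L i)
    rw [h1] at h2
    exact_mod_cast h2.symm
  have hv1 := hd0 1 (B.deg 1)
  have hv2 := hd0 2 (B.deg 2)
  have h3 := r_mem (v := v (L 3)) (by have := C.cong (L 3); rw [B.deg] at this; exact_mod_cast this)
    (by have := C.lt (L 3) (hne 3 (by decide)); rw [B.deg] at this; exact_mod_cast this)
  have h4 := r_mem (v := v (L 4)) (by have := C.cong (L 4); rw [B.deg] at this; exact_mod_cast this)
    (by have := C.lt (L 4) (hne 4 (by decide)); rw [B.deg] at this; exact_mod_cast this)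
  have h5 := r_mem (v := v (L 5)) (by have := C.cong (L 5); rw [B.deg] at this; exact_mod_cast this)
    (by have := C.lt (L 5) (hne 5 (by decide)); rw [B.deg] at this; exact_mod_cast this)
  rw [Fin.sum_univ_seven] at e1 e2 e3
  simp only [Matrix.cons_val, hv0, hv1, hv2] at e1 e2 e3
  have h6 : v (L 6) = v (L 3) + v (L 4) + v (L 5) - 1 := by linarith
  have := arithI (v (L 3)) h3 (v (L 4)) h4 (v (L 5)) h5 (by
    have e4 : (90 - 9 * ((v (L 3) : ℚ) * v (L 3) + v (L 4) * v (L 4) + v (L 5) * v (L 5)) +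
      2 * ((v (L 6) : ℚ) * v (L 6))) = 0 := by
      push_cast at e3
      linear_combination 90 * e3
    rw [← h6]
    exact_mod_cast e4)
  rw [← h6] at this
  exact ⟨hv1, hv2, this.1, this.2⟩

theorem caseI_five {x : G} {a b : IrrCharacter G → ℤ} {h : XCol x a b} (hx : orderOf x = 11) (hG : Nat.card G = 7920)
    {L : Fin 7 → IrrCharacter G}
    (B : Base7 h L ![1, 16, 16, 10, 10, 10, 45] ![1, 0, -1, -1, -1, -1, 1] ![0, 1, -1, 0, 0, 0, 0])
    {g : G} (hg : 5 ∣ orderOf g) (hg' : orderOf g ≠ 11) :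
    (L 1 : G → ℂ) g = 1 ∧ (L 2 : G → ℂ) g = 1 ∧ (L 3 : G → ℂ) g = 0 ∧ (L 4 : G → ℂ) g = 0 ∧ (L 5 : G → ℂ) g = 0 ∧
      (L 6 : G → ℂ) g = 0 := by
  obtain ⟨n1, n2⟩ := not_isConj_of_order hx hg'
  obtain ⟨e1, e2⟩ := orth7 B n1 n2
  have hd0 : ∀ i : Fin 7, 5 ∣ H75.deg (L i) → (L i : G → ℂ) g = 0 := by
    intro i hi
    exact dz 5 1 (by norm_num) (by rw [hG]; norm_num) (L i) (by simpa using hi) g hg
  have h3 := hd0 3 (by rw [B.deg]; decide)
  have h4 := hd0 4 (by rw [B.deg]; decide)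
  have h5 := hd0 5 (by rw [B.deg]; decide)
  have h6 := hd0 6 (by rw [B.deg]; decide)
  have h0 : (L 0 : G → ℂ) g = 1 := by rw [B.one, oneIrr_apply]
  rw [Fin.sum_univ_seven] at e1 e2
  simp only [Matrix.cons_val, h0, h3, h4, h5, h6] at e1 e2
  push_cast at e1 e2
  refine ⟨?_, ?_, h3, h4, h5, h6⟩
  · linear_combination e2 - e1
  · linear_combination -e1

theorem caseII_five {x : G} {a b : IrrCharacter G → ℤ} {h : XCol x a b} (hx : orderOf x = 11) (hG : Nat.card G = 7920)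
    {L : Fin 7 → IrrCharacter G}
    (B : Base7 h L ![1, 5, 5, 12, 12, 10, 10] ![1, 0, -1, 1, 1, -1, -1] ![0, 1, -1, 0, 0, 0, 0])
    {g : G} (hg : 5 ∣ orderOf g) (hg' : orderOf g ≠ 11) :
    (L 3 : G → ℂ) g + (L 4 : G → ℂ) g = -1 := by
  obtain ⟨n1, n2⟩ := not_isConj_of_order hx hg'
  obtain ⟨e1, e2⟩ := orth7 B n1 n2
  have hd0 : ∀ i : Fin 7, 5 ∣ H75.deg (L i) → (L i : G → ℂ) g = 0 := by
    intro i hi
    exact dz 5 1 (by norm_num) (by rw [hG]; norm_num) (L i) (by simpa using hi) g hg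
  have h1 := hd0 1 (by rw [B.deg]; decide)
  have h2 := hd0 2 (by rw [B.deg]; decide)
  have h5 := hd0 5 (by rw [B.deg]; decide)
  have h6 := hd0 6 (by rw [B.deg]; decide)
  have h0 : (L 0 : G → ℂ) g = 1 := by rw [B.one, oneIrr_apply]
  rw [Fin.sum_univ_seven] at e1 e2
  simp only [Matrix.cons_val, h0, h1, h2, h5, h6] at e1 e2
  push_cast at e1 e2
  linear_combination e1

theorem order_ten {y t : G} (hy : orderOf y = 5) (ht : orderOf t = 2) (hty : t * y = y * t) :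
    orderOf (t * y) = 10 := by
  have h1 : Commute t y := hty
  rw [h1.orderOf_mul_eq_mul_orderOf_of_coprime (by rw [hy, ht]; norm_num), hy, ht]

theorem two_dvd_of_not {y : G} (h : 2 ∣ Nat.card (centralizer ({y} : Set G))) : ∃ t : G, orderOf t = 2 ∧ t * y = y * t := by
  haveI : Fact (Nat.Prime 2) := ⟨by norm_num⟩
  obtain ⟨t, ht⟩ := exists_prime_orderOf_dvd_card' (G := centralizer ({y} : Set G)) 2 h
  refine ⟨t, by rw [Subgroup.orderOf_coe, ht], ?_⟩
  exact mem_centralizer_singleton_iff.mp t.2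

theorem caseI_odd {x : G} {a b : IrrCharacter G → ℤ} {h : XCol x a b} (hx : orderOf x = 11) (hG : Nat.card G = 7920)
    {L : Fin 7 → IrrCharacter G}
    (B : Base7 h L ![1, 16, 16, 10, 10, 10, 45] ![1, 0, -1, -1, -1, -1, 1] ![0, 1, -1, 0, 0, 0, 0])
    {y : G} (hy : orderOf y = 5) : ¬ 2 ∣ Nat.card (centralizer ({y} : Set G)) := by
  intro h2
  obtain ⟨t, ht, hty⟩ := two_dvd_of_not h2
  have h10 := order_ten hy ht hty
  have h3 := (caseI_five hx hG B (g := t * y) (by rw [h10]; norm_num) (by rw [h10]; norm_num)).1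
  have h4 := dz 2 4 (by norm_num) (by rw [hG]; norm_num) (L 1)
      (by rw [B.deg]; decide) (t * y) (by rw [h10]; norm_num)
  rw [h4] at h3
  norm_num at h3

theorem caseII_odd [IsSimpleGroup G] {x : G} {a b : IrrCharacter G → ℤ} {h : XCol x a b} (hx : orderOf x = 11)
    (hinv : ¬ IsConj x x⁻¹) (hG : Nat.card G = 7920)
    {L : Fin 7 → IrrCharacter G}
    (B : Base7 h L ![1, 5, 5, 12, 12, 10, 10] ![1, 0, -1, 1, 1, -1, -1] ![0, 1, -1, 0, 0, 0, 0])
    {y : G} (hy : orderOf y = 5) : ¬ 2 ∣ Nat.card (centralizer ({y} : Set G)) := by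
  intro h2
  obtain ⟨t, ht, hty⟩ := two_dvd_of_not h2
  have h10 := order_ten hy ht hty
  have ht2 : t * t = 1 := by rw [← pow_two, ← ht, pow_orderOf_eq_one]
  have ht1 : t ≠ 1 := by rintro rfl; rw [orderOf_one] at ht; omega
  obtain ⟨v, C⟩ := exists_icol hG hx hinv h ht2 ht1
  obtain ⟨v3, v4⟩ := caseII_vals C B
  have hz10 : (t * y) ^ 10 = 1 := by rw [← h10, pow_orderOf_eq_one]
  obtain ⟨m3, hm3⟩ := fourier (irr_isCharacter (L 3)) (n := 10) (by norm_num) hz10 (z := 1) (by norm_num)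
  obtain ⟨m4, hm4⟩ := fourier (irr_isCharacter (L 4)) (n := 10) (by norm_num) hz10 (z := 1) (by norm_num)
  have hz5 : (t * y) ^ 5 = t := by
    have hc : Commute t y := hty
    rw [hc.mul_pow]
    have h5 : y ^ 5 = 1 := by rw [← hy, pow_orderOf_eq_one]
    have h4 : t ^ 5 = (t * t) * (t * t) * t := by simp only [pow_succ, pow_zero, one_mul, mul_assoc]
    rw [h5, mul_one, h4, ht2]; simp
  have hk : ∀ k : ℕ, k ∈ ({1, 2, 3, 4, 6, 7, 8, 9} : Finset ℕ) → (L 3 : G → ℂ) ((t * y) ^ k) + (L 4 : G → ℂ) ((t * y) ^ k) = -1 := by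
    intro k hk
    have ho := orderOf_pow (n := k) (t * y)
    rw [h10] at ho
    apply caseII_five hx hG B
    · rw [ho]
      clear ho
      revert k
      decide
    · rw [ho]
      clear ho
      revert k
      decide
  have d3 : (L 3 : G → ℂ) 1 = 12 := by rw [H75.deg_spec, B.deg]; simp
  have d4 : (L 4 : G → ℂ) 1 = 12 := by rw [H75.deg_spec, B.deg]; simp
  have t3 : (L 3 : G → ℂ) t = 0 := by rw [C.val, v3]; norm_num
  have t4 : (L 4 : G → ℂ) t = 0 := by rw [C.val, v4]; norm_num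
  simp only [Finset.sum_range_succ, Finset.sum_range_zero, inv_one, one_pow, mul_one, zero_add, pow_zero, hz5, d3, d4,
    t3, t4] at hm3 hm4
  have k1 := hk 1 (by decide)
  have k2 := hk 2 (by decide)
  have k3 := hk 3 (by decide)
  have k4 := hk 4 (by decide)
  have k6 := hk 6 (by decide)
  have k7 := hk 7 (by decide)
  have k8 := hk 8 (by decide)
  have k9 := hk 9 (by decide)
  have hfin : (16 : ℂ) = 10 * m3 + 10 * m4 := by
    push_cast at hm3 hm4
    linear_combination hm3 + hm4 - k1 - k2 - k3 - k4 - k6 - k7 - k8 - k9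
  have hfin' : (16 : ℕ) = 10 * m3 + 10 * m4 := by exact_mod_cast hfin
  omega

theorem caseII_false [IsSimpleGroup G] {x : G} {a b : IrrCharacter G → ℤ} {h : XCol x a b} (hx : orderOf x = 11)
    (hinv : ¬ IsConj x x⁻¹) (hG : Nat.card G = 7920)
    {L : Fin 7 → IrrCharacter G}
    (B : Base7 h L ![1, 5, 5, 12, 12, 10, 10] ![1, 0, -1, 1, 1, -1, -1] ![0, 1, -1, 0, 0, 0, 0]) : False := by
  classical
  haveI : Fact (Nat.Prime 5) := ⟨by norm_num⟩
  obtain ⟨y, hy⟩ := exists_prime_orderOf_dvd_card' (G := G) 5 (by rw [hG]; norm_num)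
  obtain ⟨hC, hrat⟩ := five hG hy (caseII_odd hx hinv hG B hy)
  choose w hw hw' using fun χ : IrrCharacter G => val_five hy hrat χ
  have hsq := Col.col_int hw hw
  rw [if_pos (IsConj.refl y), hC] at hsq
  have h34 := caseII_five hx hG B (g := y) (by rw [hy]) (by rw [hy]; norm_num)
  rw [hw, hw] at h34
  have h34' : w (L 3) + w (L 4) = -1 := by exact_mod_cast h34
  have hle : w (L 3) * w (L 3) + w (L 4) * w (L 4) ≤ 5 := by
    have h1 := Finset.sum_pair (f := fun χ : IrrCharacter G => w χ * w χ) (fun h => absurd (B.inj h) (by decide) : L 3 ≠ L 4)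
    rw [← h1]
    have h2 : ∑ χ ∈ ({L 3, L 4} : Finset (IrrCharacter G)), w χ * w χ ≤ ∑ χ, w χ * w χ :=
      Finset.sum_le_sum_of_subset_of_nonneg (Finset.subset_univ _) (fun χ _ _ => mul_self_nonneg _)
    rw [hsq] at h2
    exact_mod_cast h2
  have hc3 := hw' (L 3)
  rw [B.deg] at hc3
  simp only [Matrix.cons_val] at hc3
  have h3 : w (L 3) ≤ 2 := by nlinarith
  have h3' : -2 ≤ w (L 3) := by nlinarith
  have h5 : w (L 3) = 2 := by push_cast at hc3; omega
  have h6 : w (L 4) = -3 := by omega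
  rw [h5, h6] at hle
  omega

end Cfsg.Agent.H67.M11
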