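import Cfsg.Agent.H67.M11.Norm2

set_option autoImplicit false

/-!
# Simple groups of order 7920: one class of elements of order three, values (helper67)
-/

namespace Cfsg.Agent.H67.M11

open Subgroup Cfsg Cfsg.Agent.CharBase
open scoped ComplexConjugate

universe u

variable {G : Type u} [Group G] [Finite G]

/-- the normalizer of a Sylow 3-subgroup is transitive on its nonidentity elements -/
theorem Loc.isConj_of_mem [IsSimpleGroup G] (hL : Loc G) (P : Sylow 3 G) {s z : G} (hs : s ∈ (P : Subgroup G)) (hs1 : s ≠ 1)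
    (hz : z ∈ (P : Subgroup G)) (hz1 : z ≠ 1) :
    ∃ n ∈ normalizer ((P : Subgroup G) : Set G), n * s * n⁻¹ = z := by
  classical
  haveI := Fintype.ofFinite G
  set N := normalizer ((P : Subgroup G) : Set G) with hN
  have hN144 : Nat.card N = 144 := hL.norm_card P
  have hs3 := hL.orderOf_three P hs hs1
  letI : MulAction N (P : Subgroup G) := MulAction.compHom (P : Subgroup G) ((P : Subgroup G).normalizerMonoidHom)
  have hsmul : ∀ (n : N) (w : (P : Subgroup G)), ((n • w : (P : Subgroup G)) : G) = n * w * (n : G)⁻¹ := fun n w => rfl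
  have hstab : Nat.card (MulAction.stabilizer N (⟨s, hs⟩ : (P : Subgroup G))) = 18 := by
    rw [← hL.c3 s hs3]
    apply Nat.card_congr
    refine ⟨fun n => ⟨(n : N), ?_⟩, fun c => ⟨⟨c, hL.cent_le P hs hs3 c.2⟩, ?_⟩, fun n => rfl, fun c => rfl⟩
    · rw [mem_centralizer_singleton_iff]
      have h1 := congrArg Subtype.val (MulAction.mem_stabilizer_iff.mp n.2)
      rw [hsmul] at h1
      exact mul_inv_eq_iff_eq_mul.mp h1
    · rw [MulAction.mem_stabilizer_iff]
      apply Subtype.ext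
      rw [hsmul]
      exact mul_inv_eq_iff_eq_mul.mpr (mem_centralizer_singleton_iff.mp c.2)
  have horb : Nat.card (MulAction.orbit N (⟨s, hs⟩ : (P : Subgroup G))) = 8 := by
    have h1 := MulAction.card_orbit_mul_card_stabilizer_eq_card_group N (⟨s, hs⟩ : (P : Subgroup G))
    rw [← Nat.card_eq_fintype_card, ← Nat.card_eq_fintype_card, ← Nat.card_eq_fintype_card, hstab, hN144] at h1
    omega
  have hsub : MulAction.orbit N (⟨s, hs⟩ : (P : Subgroup G)) = {w | w ≠ 1} := by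
    apply Set.eq_of_subset_of_ncard_le
    · rintro _ ⟨n, rfl⟩ h1
      have h2 := congrArg Subtype.val h1
      have h3 : (n : G) * s * (n : G)⁻¹ = 1 := h2
      apply hs1
      have h4 : s = (n : G)⁻¹ * ((n : G) * s * (n : G)⁻¹) * n := by group
      rw [h4, h3]; group
    · rw [← Nat.card_coe_set_eq (MulAction.orbit N _), horb]
      have h1 : ({w : (P : Subgroup G) | w ≠ 1} : Set (P : Subgroup G)) = {1}ᶜ := rfl
      rw [h1, Set.ncard_compl, Set.ncard_singleton, hL.sylow_card P]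
    · exact Set.toFinite _
  have hz' : (⟨z, hz⟩ : (P : Subgroup G)) ∈ MulAction.orbit N (⟨s, hs⟩ : (P : Subgroup G)) := by
    rw [hsub]
    intro h
    exact hz1 (congrArg Subtype.val h)
  obtain ⟨n, hn⟩ := hz'
  exact ⟨n, n.2, congrArg Subtype.val hn⟩

/-- character values at elements of order three -/
theorem vals3 [Fintype (IrrCharacter G)] [IsSimpleGroup G] (hG : Nat.card G = 7920) {L : Fin 10 → IrrCharacter G}
    (T : T10' L) (hL : Loc G) {s : G} (hs : orderOf s = 3) :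
    (L 2 : G → ℂ) s = -2 ∧ (L 7 : G → ℂ) s = 2 ∧ (L 3 : G → ℂ) s = 1 ∧ (L 4 : G → ℂ) s + (L 5 : G → ℂ) s = 2 ∧
      (L 6 : G → ℂ) s = 0 := by
  classical
  haveI : Fact (Nat.Prime 2) := ⟨by norm_num⟩
  haveI : Fact (Nat.Prime 3) := ⟨by norm_num⟩
  have hs1 : s ≠ 1 := by rintro rfl; rw [orderOf_one] at hs; omega
  have hr := real3 hG T hs
  choose v hv hv3 using fun χ : IrrCharacter G => Col.int_val_three hs hr χ
  obtain ⟨t, ht⟩ := exists_prime_orderOf_dvd_card' (G := G) 2 (by rw [hG]; norm_num)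
  have hv0 : v (L 0) = 1 := by
    have := hv (L 0); rw [T.one, oneIrr_apply] at this; rw [T.one]; exact_mod_cast this.symm
  have w6 : v (L 6) = 0 := by
    have z6 := dz 3 2 (by norm_num) (by rw [hG]; norm_num) (L 6) (by rw [T.deg]; decide) s (by rw [hs])
    rw [hv] at z6
    exact_mod_cast z6
  have w1 : v (L 1) = v (L 2) := by
    have := T.r1 s hs1 (by rw [hs]; norm_num) (by rw [hs]; norm_num)
    rw [hv, hv] at this
    exact_mod_cast this
  have w2 : v (L 6) = v (L 2) + v (L 3) + v (L 4) + v (L 5) - 1 := by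
    have := T.r2 s hs1 (by rw [hs]; norm_num) (by rw [hs]; norm_num)
    simp only [hv] at this
    exact_mod_cast this
  have w8 : v (L 8) = 1 + 2 * v (L 2) + v (L 7) := by
    have := T.r3 s hs1 (by rw [hs]; norm_num) (by rw [hs]; norm_num)
    simp only [hv] at this
    exact_mod_cast this
  have w9 : v (L 9) = -(1 + v (L 6) + 2 * v (L 2) + v (L 7)) := by
    have := T.r4 s hs1 (by rw [hs]; norm_num) (by rw [hs]; norm_num)
    simp only [hv] at this
    exact_mod_cast this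
  rw [w6] at w2 w9
  have w9' : v (L 9) = -(1 + 2 * v (L 2) + v (L 7)) := by linarith
  have ot := column_orthogonality_of_not_isConj (not_isConj_of_orderOf_ne (a := s) (b := t) (by rw [hs, ht]; norm_num))
  rw [sum10 T.bij] at ot
  obtain ⟨-, i1, i2, i6, i7, -⟩ := T.inv t ht
  obtain ⟨i0, i8, i9⟩ := T.inv89 ht
  obtain ⟨i3, i4, i5⟩ := T.inv' t ht
  simp only [hv] at ot
  rw [i0, i1, i2, i3, i4, i5, i6, i7, i8, i9] at ot
  simp only [map_one, map_neg, map_ofNat, map_zero] at ot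
  have ot' : v (L 0) * 1 + v (L 1) * 0 + v (L 2) * 0 + v (L 3) * 2 + v (L 4) * -2 + v (L 5) * -2 + v (L 6) * -3 +
      v (L 7) * 3 + v (L 8) * 4 + v (L 9) * -1 = 0 := by exact_mod_cast ot
  have hsq := Col.col_int hv hv
  rw [if_pos (IsConj.refl s), sum10 T.bij, hL.c3 s hs] at hsq
  rw [hv0, w6, w9', w8] at ot'
  have w3 : v (L 3) = -(1 + 3 * v (L 2) + 2 * v (L 7)) := by linarith
  have w5 : v (L 5) = 2 + 2 * v (L 2) + 2 * v (L 7) - v (L 4) := by linarith
  have hNeq : 1 + 2 * (v (L 2) * v (L 2)) + (1 + 3 * v (L 2) + 2 * v (L 7)) * (1 + 3 * v (L 2) + 2 * v (L 7)) + v (L 4) * v (L 4) +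
      (2 + 2 * v (L 2) + 2 * v (L 7) - v (L 4)) * (2 + 2 * v (L 2) + 2 * v (L 7) - v (L 4)) + v (L 7) * v (L 7) +
      2 * ((1 + 2 * v (L 2) + v (L 7)) * (1 + 2 * v (L 2) + v (L 7))) = 18 := by
    have : 1 + 2 * (v (L 2) * v (L 2)) + (1 + 3 * v (L 2) + 2 * v (L 7)) * (1 + 3 * v (L 2) + 2 * v (L 7)) + v (L 4) * v (L 4) +
      (2 + 2 * v (L 2) + 2 * v (L 7) - v (L 4)) * (2 + 2 * v (L 2) + 2 * v (L 7) - v (L 4)) + v (L 7) * v (L 7) +
      2 * ((1 + 2 * v (L 2) + v (L 7)) * (1 + 2 * v (L 2) + v (L 7))) = ((18 : ℕ) : ℤ) := by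
      rw [← hsq, hv0, w1, w6, w9', w8, w3, w5]
      ring
    exact_mod_cast this
  have m2 := hv3 (L 2)
  have m7 := hv3 (L 7)
  have m4 := hv3 (L 4)
  rw [T.deg] at m2 m7 m4
  simp only [Matrix.cons_val] at m2 m7 m4
  obtain ⟨k2, k7, k4⟩ := arith_mem (by exact_mod_cast m2) (by exact_mod_cast m7) (by exact_mod_cast m4) hNeq (by norm_num)
  have key : ∀ e ∈ ({-8, -5, -2, 1, 4, 7} : Finset ℤ), ∀ r ∈ ({-10, -7, -4, -1, 2, 5, 8, 11} : Finset ℤ),
      ∀ A ∈ ({-11, -8, -5, -2, 1, 4, 7, 10} : Finset ℤ),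
      1 + 2 * (e * e) + (1 + 3 * e + 2 * r) * (1 + 3 * e + 2 * r) + A * A +
      (2 + 2 * e + 2 * r - A) * (2 + 2 * e + 2 * r - A) + r * r + 2 * ((1 + 2 * e + r) * (1 + 2 * e + r)) = 18 →
      (9 : ℤ) ∣ 16 - e → e = -2 ∧ r = 2 := by decide +kernel
  -- congruence modulo nine
  have h1 : IsPGroup 3 (zpowers s) := IsPGroup.of_card (n := 1) (by rw [Nat.card_zpowers, hs, pow_one])
  obtain ⟨P, hP⟩ := h1.exists_le_sylow
  have hsP : s ∈ (P : Subgroup G) := hP (mem_zpowers s)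
  obtain ⟨a, ha, ha'⟩ := H33.int_val_of_const (P : Subgroup G) (x := s) (by rw [hL.sylow_card P]; norm_num)
    (irr_isCharacter (L 2)) (H75.deg_spec (L 2)) (by
      intro z hz hz1
      obtain ⟨n, -, hn⟩ := hL.isConj_of_mem P hsP hs1 hz hz1
      exact (classFun_eq_of_isConj (irr_isClassFunction (L 2)) (isConj_iff.mpr ⟨n, hn⟩)).symm)
  have ha2 : a = v (L 2) := by
    rw [hv] at ha; exact_mod_cast ha.symm
  rw [hL.sylow_card P, T.deg, ha2] at ha'
  obtain ⟨r1, r2⟩ := key _ k2 _ k7 _ k4 hNeq (by simpa using ha')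
  refine ⟨by rw [hv, r1]; norm_num, by rw [hv, r2]; norm_num, ?_, ?_, by rw [hv, w6]; norm_num⟩
  · rw [hv, w3, r1, r2]; norm_num
  · rw [hv, hv, w5, r1, r2]; push_cast; ring

end Cfsg.Agent.H67.M11
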