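import Cfsg.Agent.H67.M11.Crit
import Cfsg.Agent.H17.Orbits

set_option autoImplicit false

/-!
# Element counts in simple groups of order 7920 (helper67)
-/

namespace Cfsg.Agent.H67.M11

open Subgroup Cfsg

universe u v

variable {G : Type u} [Group G] [Finite G]

/-- if all elements of order `n` have centralizers of order dividing `c` then `|G|/c` divides their number -/
theorem dvd_count {n c d : ℕ} (hcd : c * d = Nat.card G)
    (h : ∀ g : G, orderOf g = n → Nat.card (centralizer ({g} : Set G)) ∣ c) : d ∣ Nat.card {g : G // orderOf g = n} := by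
  letI : MulAction G {g : G // orderOf g = n} :=
    { smul := fun a g => ⟨a * g * a⁻¹,
        (orderOf_injective (MulAut.conj a).toMonoidHom (MulAut.conj a).injective (g : G)).trans g.2⟩
      one_smul := fun g => Subtype.ext (show (1 : G) * g * 1⁻¹ = g by group)
      mul_smul := fun a b g => Subtype.ext (show a * b * g * (a * b)⁻¹ = a * (b * g * b⁻¹) * a⁻¹ by group) }
  have hsm : ∀ (a : G) (g : {g : G // orderOf g = n}), ((a • g : {g : G // orderOf g = n}) : G) = a * g * a⁻¹ := fun a g => rfl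
  apply H17.dvd_card_of_forall_dvd_index (K := G) (X := {g : G // orderOf g = n}) d
  intro g
  have h1 : MulAction.stabilizer G g = centralizer ({(g : G)} : Set G) := by
    ext a
    rw [MulAction.mem_stabilizer_iff, mem_centralizer_singleton_iff, ← mul_inv_eq_iff_eq_mul, ← hsm]
    exact ⟨fun h => congrArg Subtype.val h, fun h => Subtype.ext h⟩
  rw [h1]
  obtain ⟨k, hk⟩ := h g g.2
  have h2 := Subgroup.card_mul_index (centralizer ({(g : G)} : Set G))
  rw [← hcd, hk, mul_assoc] at h2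
  exact ⟨k, by
    have := Nat.eq_of_mul_eq_mul_left Nat.card_pos h2
    rw [this, mul_comm]⟩

theorem centralizer_dvd_of_dvd {g : G} {n p c : ℕ} (hp : p.Prime) (hg : orderOf g = n) (hpn : p ∣ n)
    (h : ∀ t : G, orderOf t = p → Nat.card (centralizer ({t} : Set G)) = c) :
    Nat.card (centralizer ({g} : Set G)) ∣ c := by
  obtain ⟨m, hm⟩ := hpn
  have hm0 : m ≠ 0 := by
    rintro rfl
    have := orderOf_pos g
    omega
  have h7 : orderOf (g ^ m) = p := by
    rw [orderOf_pow, hg, hm, Nat.gcd_mul_left_left, Nat.mul_div_cancel _ (Nat.pos_of_ne_zero hm0)]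
  rw [← h _ h7]
  apply card_dvd_of_le
  intro z hz
  rw [mem_centralizer_singleton_iff] at hz ⊢
  exact Commute.pow_right hz m

theorem Loc.count_cases (hL : Loc G) (n : ℕ) : Nat.card {g : G // orderOf g = n} = 0 ∨ Nat.card {g : G // orderOf g = n} = 1 ∨
    165 ∣ Nat.card {g : G // orderOf g = n} ∨ 440 ∣ Nat.card {g : G // orderOf g = n} ∨
    1584 ∣ Nat.card {g : G // orderOf g = n} ∨ 720 ∣ Nat.card {g : G // orderOf g = n} := by
  by_cases hn1 : n = 1
  · right; left
    subst hn1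
    rw [Nat.card_eq_one_iff_unique]
    refine ⟨⟨fun a b => Subtype.ext ?_⟩, ⟨1, orderOf_one⟩⟩
    rw [orderOf_eq_one_iff.mp a.2, orderOf_eq_one_iff.mp b.2]
  by_cases he : IsEmpty {g : G // orderOf g = n}
  · left
    exact Nat.card_of_isEmpty
  · right; right
    rw [not_isEmpty_iff] at he
    obtain ⟨g, hg⟩ := he
    obtain ⟨p, hp, hpn⟩ := Nat.exists_prime_and_dvd hn1
    have hp' : p ∣ 7920 := hpn.trans (hg ▸ hL.card ▸ orderOf_dvd_natCard g)
    have h2 : p ∈ Nat.primeFactors 7920 := Nat.mem_primeFactors.mpr ⟨hp, hp', by norm_num⟩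
    rw [show Nat.primeFactors 7920 = {2, 3, 5, 11} by decide +kernel] at h2
    simp only [Finset.mem_insert, Finset.mem_singleton] at h2
    rcases h2 with rfl | rfl | rfl | rfl
    · left
      exact dvd_count (c := 48) (by rw [hL.card]) (fun g hg => centralizer_dvd_of_dvd hp hg hpn hL.c2)
    · right; left
      exact dvd_count (c := 18) (by rw [hL.card]) (fun g hg => centralizer_dvd_of_dvd hp hg hpn hL.c3)
    · right; right; left
      exact dvd_count (c := 5) (by rw [hL.card]) (fun g hg => centralizer_dvd_of_dvd hp hg hpn hL.c5)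
    · right; right; right
      exact dvd_count (c := 11) (by rw [hL.card]) (fun g hg => centralizer_dvd_of_dvd hp hg hpn hL.c11)

theorem count_mul {p m : ℕ} [hp : Fact p.Prime] (hG : Nat.card G = p * m) (hm : ¬ p ∣ m) :
    Nat.card {g : G // orderOf g = p} ∣ (p - 1) * Nat.card G ∧ p ∣ Nat.card {g : G // orderOf g = p} + 1 := by
  have hdvd : p ∣ Nat.card G := by rw [hG]; exact dvd_mul_right _ _
  obtain ⟨x, hx⟩ := exists_prime_orderOf_dvd_card' (G := G) p hdvd
  have hp2 : ¬ p ^ 2 ∣ Nat.card G := by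
    rw [hG, pow_two]
    intro h
    exact hm (Nat.dvd_of_mul_dvd_mul_left hp.out.pos h)
  exact ⟨⟨_, (H10.PrimeClass.card_order_mul hp2 hx).symm⟩, H10.PrimeClass.dvd_card_order_add_one hdvd⟩

theorem count11_of {s : ℕ} (h0 : 0 < s) (hs : s ∣ (11 - 1) * 7920) (h1 : 11 ∣ s + 1)
    (hc : s = 0 ∨ s = 1 ∨ 165 ∣ s ∨ 440 ∣ s ∨ 1584 ∣ s ∨ 720 ∣ s) : s = 1440 := by
  rcases hc with h | h | h | h | h | h
  · omega
  · omega
  · exfalso
    obtain ⟨m, rfl⟩ := h
    omega
  · exfalso
    obtain ⟨m, rfl⟩ := h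
    omega
  · exfalso
    obtain ⟨m, rfl⟩ := h
    omega
  · obtain ⟨m, rfl⟩ := h
    have h2 : m ∣ 110 := by
      rw [show (11 - 1) * 7920 = 720 * 110 by norm_num] at hs
      exact Nat.dvd_of_mul_dvd_mul_left (by norm_num) hs
    have key : ∀ d ∈ Nat.divisors 110, 11 ∣ 720 * d + 1 → d = 2 := by decide +kernel
    rw [key m (Nat.mem_divisors.mpr ⟨h2, by norm_num⟩) h1]

theorem count5_of {s : ℕ} (h0 : 0 < s) (hs : s ∣ (5 - 1) * 7920) (h1 : 5 ∣ s + 1)
    (hc : s = 0 ∨ s = 1 ∨ 165 ∣ s ∨ 440 ∣ s ∨ 1584 ∣ s ∨ 720 ∣ s) : s = 1584 := by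
  rcases hc with h | h | h | h | h | h
  · omega
  · omega
  · exfalso
    obtain ⟨m, rfl⟩ := h
    omega
  · exfalso
    obtain ⟨m, rfl⟩ := h
    omega
  · obtain ⟨m, rfl⟩ := h
    have h2 : m ∣ 20 := by
      rw [show (5 - 1) * 7920 = 1584 * 20 by norm_num] at hs
      exact Nat.dvd_of_mul_dvd_mul_left (by norm_num) hs
    have key : ∀ d ∈ Nat.divisors 20, 5 ∣ 1584 * d + 1 → d = 1 := by decide +kernel
    rw [key m (Nat.mem_divisors.mpr ⟨h2, by norm_num⟩) h1]
  · omega

theorem count_pos {p : ℕ} [hp : Fact p.Prime] (h : p ∣ Nat.card G) : 0 < Nat.card {g : G // orderOf g = p} := by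
  obtain ⟨x, hx⟩ := exists_prime_orderOf_dvd_card' (G := G) p h
  haveI : Nonempty {g : G // orderOf g = p} := ⟨⟨x, hx⟩⟩
  exact Nat.card_pos

/-- a group of order 7920 whose counts of elements of order 5 and 11 satisfy the divisibility conditions is simple -/
theorem simple_of_count_cases (hG : Nat.card G = 7920)
    (hc : ∀ n, n = 5 ∨ n = 11 → Nat.card {g : G // orderOf g = n} = 0 ∨ Nat.card {g : G // orderOf g = n} = 1 ∨
    165 ∣ Nat.card {g : G // orderOf g = n} ∨ 440 ∣ Nat.card {g : G // orderOf g = n} ∨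
    1584 ∣ Nat.card {g : G // orderOf g = n} ∨ 720 ∣ Nat.card {g : G // orderOf g = n}) : IsSimpleGroup G := by
  haveI : Fact (Nat.Prime 11) := ⟨by norm_num⟩
  haveI : Fact (Nat.Prime 5) := ⟨by norm_num⟩
  obtain ⟨a1, a2⟩ := count_mul (G := G) (p := 11) (m := 720) (by rw [hG]) (by norm_num)
  obtain ⟨b1, b2⟩ := count_mul (G := G) (p := 5) (m := 1584) (by rw [hG]) (by norm_num)
  rw [hG] at a1 b1
  exact simple_of_counts hG (count11_of (count_pos (by rw [hG]; norm_num)) a1 a2 (hc 11 (Or.inr rfl)))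
    (count5_of (count_pos (by rw [hG]; norm_num)) b1 b2 (hc 5 (Or.inl rfl)))

theorem Loc.count11 (hL : Loc G) : Nat.card {g : G // orderOf g = 11} = 1440 := by
  haveI : Fact (Nat.Prime 11) := ⟨by norm_num⟩
  obtain ⟨a1, a2⟩ := count_mul (G := G) (p := 11) (m := 720) (by rw [hL.card]) (by norm_num)
  rw [hL.card] at a1
  exact count11_of (count_pos (by rw [hL.card]; norm_num)) a1 a2 (hL.count_cases 11)

theorem Loc.count5 (hL : Loc G) : Nat.card {g : G // orderOf g = 5} = 1584 := by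
  haveI : Fact (Nat.Prime 5) := ⟨by norm_num⟩
  obtain ⟨b1, b2⟩ := count_mul (G := G) (p := 5) (m := 1584) (by rw [hL.card]) (by norm_num)
  rw [hL.card] at b1
  exact count5_of (count_pos (by rw [hL.card]; norm_num)) b1 b2 (hL.count_cases 5)

end Cfsg.Agent.H67.M11
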