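import Cfsg.Agent.H67.M11.SporM11
import Cfsg.Agent.Cop.Basic

set_option autoImplicit false

/-!
# Simplicity of groups of order 7920 from element counts (helper67)
-/

namespace Cfsg.Agent.H67.M11

open Subgroup Cfsg

universe u

variable {G : Type u} [Group G] [Finite G]

/-- an element of order 11 normalizing a nontrivial {2,3}-group of order dividing 144 is not fixed point free -/
theorem inf_centralizer_ne_bot {x : G} (hx : orderOf x = 11) {K : Subgroup G} (hK : x ∈ normalizer (K : Set G))
    (h144 : Nat.card K ∣ 144) (h1 : Nat.card K ≠ 1) : Nat.card (K ⊓ centralizer ({x} : Set G) : Subgroup G) ≠ 1 := by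
  haveI : Fact (Nat.Prime 11) := ⟨by norm_num⟩
  obtain ⟨r, hr, hrK⟩ := Nat.exists_prime_and_dvd h1
  haveI : Fact r.Prime := ⟨hr⟩
  have hcop : (Nat.card (zpowers x)).Coprime (Nat.card K) := by
    rw [Nat.card_zpowers, hx]
    exact Nat.Coprime.coprime_dvd_right h144 (by norm_num)
  have hsol : Group.IsSolvable (zpowers x) := inferInstance
  obtain ⟨R, hR⟩ := Cop.exists_invariant_sylow (A := zpowers x) (K := K) (by rw [zpowers_le]; exact hK) hcop
    (Or.inl hsol) r
  have hxR : x ∈ normalizer (((R : Subgroup K).map K.subtype : Subgroup G) : Set G) := hR (mem_zpowers x)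
  have hmod := card_inf_centralizer_modEq hx hxR
  have hcard : Nat.card ((R : Subgroup K).map K.subtype : Subgroup G) = Nat.card (R : Subgroup K) :=
    Subgroup.card_map_of_injective K.subtype_injective
  obtain ⟨n, hn⟩ := IsPGroup.iff_card.mp R.isPGroup'
  have hRdvd : Nat.card (R : Subgroup K) ∣ 144 := (card_subgroup_dvd_card _).trans h144
  have hrR : r ∣ Nat.card (R : Subgroup K) := R.dvd_card_of_dvd_card hrK
  have hr23 : r = 2 ∨ r = 3 := by
    have h2 : r ∈ Nat.primeFactors 144 := Nat.mem_primeFactors.mpr ⟨hr, hrK.trans h144, by norm_num⟩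
    rw [show Nat.primeFactors 144 = {2, 3} by decide +kernel] at h2
    simpa using h2
  intro hcon
  have hle : ((R : Subgroup K).map K.subtype : Subgroup G) ⊓ centralizer ({x} : Set G) ≤ K ⊓ centralizer ({x} : Set G) :=
    inf_le_inf_right _ (map_subtype_le _)
  have h1' : Nat.card (((R : Subgroup K).map K.subtype : Subgroup G) ⊓ centralizer ({x} : Set G) : Subgroup G) = 1 := by
    have := card_dvd_of_le hle
    rw [hcon] at this
    exact Nat.dvd_one.mp this
  rw [h1', hcard] at hmod
  have key : ∀ d ∈ Nat.divisors 144, (d % 11 = 1 → d = 1 ∨ (2 ∣ d ∧ 3 ∣ d)) := by decide +kernel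
  rcases key _ (Nat.mem_divisors.mpr ⟨hRdvd, by norm_num⟩) hmod with h | ⟨ha, hb⟩
  · rw [h] at hrR
    exact hr.one_lt.ne' (Nat.dvd_one.mp hrR)
  · rw [hn] at ha hb
    have e2 := (Nat.prime_dvd_prime_iff_eq (by norm_num) hr).mp (Nat.Prime.dvd_of_dvd_pow (by norm_num) ha)
    have e3 := (Nat.prime_dvd_prime_iff_eq (by norm_num) hr).mp (Nat.Prime.dvd_of_dvd_pow (by norm_num) hb)
    omega

theorem card_order_subgroup {p : ℕ} [hp : Fact p.Prime] (hp2 : ¬ p ^ 2 ∣ Nat.card G) {x : G} (hx : orderOf x = p) {N : Subgroup G} [hN : N.Normal]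
    (hxN : x ∈ N) : Nat.card {g : N // orderOf g = p} = Nat.card {g : G // orderOf g = p} := by
  apply Nat.card_congr
  refine ⟨fun g => ⟨(g : N), by rw [Subgroup.orderOf_coe]; exact g.2⟩, fun g => ⟨⟨g, ?_⟩, by
    rw [Subgroup.orderOf_mk]; exact g.2⟩, fun g => rfl, fun g => rfl⟩
  obtain ⟨b, hb⟩ := H10.PrimeClass.exists_isConj_xp hp2 hx g.2
  obtain ⟨c, hc⟩ := isConj_iff.mp hb
  rw [← hc]
  exact hN.conj_mem _ (pow_mem hxN _) c

theorem simple_of_counts (hG : Nat.card G = 7920) (h11 : Nat.card {g : G // orderOf g = 11} = 1440)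
    (h5 : Nat.card {g : G // orderOf g = 5} = 1584) : IsSimpleGroup G := by
  haveI : Fact (Nat.Prime 11) := ⟨by norm_num⟩
  haveI : Fact (Nat.Prime 5) := ⟨by norm_num⟩
  have hp11 : ¬ 11 ^ 2 ∣ Nat.card G := by rw [hG]; norm_num
  have hp5 : ¬ 5 ^ 2 ∣ Nat.card G := by rw [hG]; norm_num
  obtain ⟨x, hx⟩ := exists_prime_orderOf_dvd_card' (G := G) 11 (by rw [hG]; norm_num)
  have hmulx := H10.PrimeClass.card_order_mul hp11 hx
  rw [h11, hG] at hmulx
  have hCx : Nat.card (centralizer ({x} : Set G)) ∣ 55 := ⟨Nat.card (H10.PrimeClass.autS 11 x hx), by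
    have : 1440 * (Nat.card (H10.PrimeClass.autS 11 x hx) * Nat.card (centralizer ({x} : Set G))) = 1440 * 55 := by
      rw [hmulx]
    have := Nat.eq_of_mul_eq_mul_left (by norm_num) this
    rw [← this, mul_comm]⟩
  haveI : Nontrivial G := by
    rw [← Finite.one_lt_card_iff_nontrivial, hG]; norm_num
  refine ⟨fun N hN => ?_⟩
  by_cases hx11 : 11 ∣ Nat.card N
  · right
    obtain ⟨z, hz⟩ := exists_prime_orderOf_dvd_card' (G := N) 11 hx11
    have hzG : orderOf (z : G) = 11 := by rw [Subgroup.orderOf_coe, hz]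
    have hNdvd : Nat.card N ∣ 7920 := hG ▸ card_subgroup_dvd_card N
    have hpN : ¬ 11 ^ 2 ∣ Nat.card N := fun h => hp11 (h.trans (card_subgroup_dvd_card N))
    have hmulN := H10.PrimeClass.card_order_mul hpN hz
    rw [card_order_subgroup hp11 hzG z.2, h11] at hmulN
    have hzC : 11 ∣ Nat.card (centralizer ({z} : Set N)) := by
      have h1 : z ∈ centralizer ({z} : Set N) := by rw [mem_centralizer_singleton_iff]
      have := orderOf_dvd_natCard (⟨z, h1⟩ : centralizer ({z} : Set N))
      rwa [Subgroup.orderOf_mk, hz] at this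
    obtain ⟨k, hk⟩ := hzC
    have hN1584 : 1584 ∣ Nat.card N := by
      refine ⟨Nat.card (H10.PrimeClass.autS 11 z hz) * k, ?_⟩
      rw [hk] at hmulN
      have : 10 * Nat.card N = 10 * (1584 * (Nat.card (H10.PrimeClass.autS 11 z hz) * k)) := by
        have h2 : (11 - 1) * Nat.card N = 1440 * (Nat.card (H10.PrimeClass.autS 11 z hz) * (11 * k)) := hmulN.symm
        calc 10 * Nat.card N = (11 - 1) * Nat.card N := by norm_num
          _ = 1440 * (Nat.card (H10.PrimeClass.autS 11 z hz) * (11 * k)) := h2
          _ = _ := by ring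
      exact Nat.eq_of_mul_eq_mul_left (by norm_num) this
    have hcases : Nat.card N = 1584 ∨ Nat.card N = 7920 := by
      have : ∀ d ∈ Nat.divisors 7920, 1584 ∣ d → d = 1584 ∨ d = 7920 := by decide +kernel
      exact this _ (Nat.mem_divisors.mpr ⟨hNdvd, by norm_num⟩) hN1584
    rcases hcases with h | h
    · exfalso
      -- normal complement
      rw [h] at hmulN
      have hK : Nat.card (H10.PrimeClass.autS 11 z hz) * Nat.card (centralizer ({z} : Set N)) = 11 := by
        have : 1440 * (Nat.card (H10.PrimeClass.autS 11 z hz) * Nat.card (centralizer ({z} : Set N))) = 1440 * 11 := by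
          rw [hmulN]
        exact Nat.eq_of_mul_eq_mul_left (by norm_num) this
      rw [hk] at hK
      have hk1 : k = 1 ∧ Nat.card (H10.PrimeClass.autS 11 z hz) = 1 := by
        have h3 : Nat.card (H10.PrimeClass.autS 11 z hz) * k = 1 := by
          have : 11 * (Nat.card (H10.PrimeClass.autS 11 z hz) * k) = 11 * 1 :=
            (Nat.mul_left_comm 11 _ k).trans hK
          exact Nat.eq_of_mul_eq_mul_left (by norm_num) this
        exact ⟨Nat.eq_one_of_mul_eq_one_left h3, Nat.eq_one_of_mul_eq_one_right h3⟩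
      have hCz : Nat.card (centralizer ({z} : Set N)) = 11 := by rw [hk, hk1.1]
      obtain ⟨P, hP⟩ := exists_sylow_zpowers (p := 11) (m := 144) (by rw [h]; norm_num) (by norm_num) hz rfl
      have hNC : normalizer ((P : Subgroup N) : Set N) ≤ centralizer ((P : Subgroup N) : Set N) := by
        intro g hg
        rw [hP] at hg ⊢
        rw [mem_centralizer_iff]
        have hgy : g * z * g⁻¹ = z := by
          have h3 : g * z * g⁻¹ ∈ zpowers z := (mem_normalizer_iff.mp hg z).mp (mem_zpowers z)
          have h4 : orderOf (g * z * g⁻¹) = 11 := by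
            rw [← hz]
            exact orderOf_injective (MulAut.conj g).toMonoidHom (MulAut.conj g).injective z
          obtain ⟨b, hb⟩ := H10.PrimeClass.exists_xp_of_mem hz h4 h3
          have h5 : b ∈ H10.PrimeClass.autS 11 z hz := by
            rw [H10.PrimeClass.mem_autS, ← hb]
            exact isConj_iff.mpr ⟨g, rfl⟩
          have he := hk1.2
          rw [Subgroup.card_eq_one] at he
          rw [he, Subgroup.mem_bot] at h5
          rw [hb, h5, H10.PrimeClass.xp_one hz]
        intro w hw
        obtain ⟨j, rfl⟩ := hw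
        have h6 : Commute g z := mul_inv_eq_iff_eq_mul.mp hgy
        exact (h6.zpow_right j).symm.eq
      have hcomp := MonoidHom.ker_transferSylow_isComplement' P hNC
      set K := (MonoidHom.transferSylow P hNC).ker with hKdef
      have hPc : Nat.card (P : Subgroup N) = 11 := by rw [hP, Nat.card_zpowers, hz]
      have hKc : Nat.card K = 144 := by
        have h6 := hcomp.card_mul
        rw [hPc, h] at h6
        omega
      have hzK : z ∈ normalizer (K : Set N) := by rw [Subgroup.normalizer_eq_top K]; trivial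
      apply inf_centralizer_ne_bot hz hzK (by rw [hKc]) (by rw [hKc]; norm_num)
      have d1 : Nat.card (K ⊓ centralizer ({z} : Set N) : Subgroup N) ∣ 144 := by
        rw [← hKc]; exact card_dvd_of_le inf_le_left
      have d2 : Nat.card (K ⊓ centralizer ({z} : Set N) : Subgroup N) ∣ 11 :=
        (card_dvd_of_le inf_le_right).trans (dvd_of_eq hCz)
      have := Nat.dvd_gcd d1 d2
      norm_num at this
      exact this
    · rw [← Subgroup.card_eq_iff_eq_top, h, hG]
  · left
    by_contra hbot
    have hN1 : Nat.card N ≠ 1 := fun h => hbot (Subgroup.card_eq_one.mp h)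
    have hNdvd : Nat.card N ∣ 7920 := hG ▸ card_subgroup_dvd_card N
    by_cases hN5 : 5 ∣ Nat.card N
    · obtain ⟨z, hz⟩ := exists_prime_orderOf_dvd_card' (G := N) 5 hN5
      have hzG : orderOf (z : G) = 5 := by rw [Subgroup.orderOf_coe, hz]
      have h6 := card_order_subgroup hp5 hzG z.2
      rw [h5] at h6
      have h7 : Nat.card {g : N // orderOf g = 5} ≤ Nat.card N :=
        Nat.card_le_card_of_injective Subtype.val Subtype.val_injective
      have h8 : Nat.card N ∣ 720 := by
        have h9 : (Nat.card N).Coprime 11 := by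
          rw [Nat.coprime_comm, Nat.Prime.coprime_iff_not_dvd (by norm_num)]; exact hx11
        rw [show (7920 : ℕ) = 11 * 720 by norm_num] at hNdvd
        exact h9.dvd_of_dvd_mul_left hNdvd
      have := Nat.le_of_dvd (by norm_num) h8
      omega
    · have h144 : Nat.card N ∣ 144 := by
        have h9 : (Nat.card N).Coprime 55 := by
          rw [show (55 : ℕ) = 5 * 11 by norm_num]
          apply Nat.Coprime.mul_right
          · rw [Nat.coprime_comm, Nat.Prime.coprime_iff_not_dvd (by norm_num)]; exact hN5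
          · rw [Nat.coprime_comm, Nat.Prime.coprime_iff_not_dvd (by norm_num)]; exact hx11
        rw [show (7920 : ℕ) = 55 * 144 by norm_num] at hNdvd
        exact h9.dvd_of_dvd_mul_left hNdvd
      have hxN : x ∈ normalizer (N : Set G) := by rw [Subgroup.normalizer_eq_top N]; trivial
      apply inf_centralizer_ne_bot hx hxN h144 hN1
      have d1 : Nat.card (N ⊓ centralizer ({x} : Set G) : Subgroup G) ∣ 144 :=
        (card_dvd_of_le inf_le_left).trans h144
      have d2 : Nat.card (N ⊓ centralizer ({x} : Set G) : Subgroup G) ∣ 55 :=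
        (card_dvd_of_le inf_le_right).trans hCx
      have := Nat.dvd_gcd d1 d2
      norm_num at this
      exact this

end Cfsg.Agent.H67.M11
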