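import Cfsg.Agent.H67.M11.XCol

set_option autoImplicit false

/-!
# Simple groups of order 7920: degrees of characters in the 11-block (helper67)
-/

namespace Cfsg.Agent.H67.M11

open Subgroup Cfsg Cfsg.Agent.CharBase
open scoped ComplexConjugate

universe u

variable {G : Type u} [Group G] [Finite G] [Fintype (IrrCharacter G)]

/-- The set of nontrivial irreducible characters different from the two exceptional ones. -/
noncomputable def restS [DecidableEq (IrrCharacter G)] (p q : IrrCharacter G) : Finset (IrrCharacter G) :=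
  ((Finset.univ.erase (oneIrr G)).erase p).erase q

theorem sum_restS [DecidableEq (IrrCharacter G)] {p q : IrrCharacter G} (hp : p ≠ oneIrr G) (hq : q ≠ oneIrr G)
    (hpq : p ≠ q) {M : Type*} [AddCommMonoid M] (F : IrrCharacter G → M) :
    ∑ χ, F χ = F (oneIrr G) + (F p + (F q + ∑ χ ∈ restS p q, F χ)) := by
  unfold restS
  rw [Finset.add_sum_erase _ F (by simp [hpq.symm, hq]), Finset.add_sum_erase _ F (by simp [hp]),
    Finset.add_sum_erase _ F (Finset.mem_univ _)]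

theorem arith1 (n12 n45 n10 n2 d : ℕ) (h1 : n12 + n45 + n10 + 4 * n2 = 4)
    (h2 : 1 + 12 * n12 + 45 * n45 + 4 * n2 = d + 10 * n10) (hd : d = 5 ∨ d = 16 ∨ d = 60) :
    (d = 16 ∧ n12 = 0 ∧ n45 = 1 ∧ n10 = 3 ∧ n2 = 0) ∨ (d = 5 ∧ n12 = 2 ∧ n45 = 0 ∧ n10 = 2 ∧ n2 = 0) ∨
      (d = 5 ∧ n2 = 1) ∨ (d = 60 ∧ n45 = 1) := by
  have a1 : n12 ≤ 4 := by omega
  have a2 : n45 ≤ 4 := by omega
  have a3 : n2 ≤ 1 := by omega
  interval_cases n12 <;> interval_cases n45 <;> interval_cases n2 <;> omega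

theorem arith2 {d : ℕ} (h : d ∈ ({2, 3, 4, 5, 6, 8, 9, 10, 11, 12, 15, 16, 18, 20, 22, 24, 30, 33, 36, 40, 44, 45,
    48, 55, 60, 66, 72, 80, 88} : Finset ℕ)) :
    ((11 : ℤ) ∣ d - 0 - 5 * 1 → d = 5 ∨ d = 16 ∨ d = 60) ∧ ((11 : ℤ) ∣ d - 1 - 5 * 1 → d = 6 ∨ d = 72) := by
  simp only [Finset.mem_insert, Finset.mem_singleton] at h
  constructor <;> intro h1 <;> omega

theorem arith4 : ∀ d ∈ ({2, 3, 4, 5, 6, 8, 9, 10, 11, 12, 15, 16, 18, 20, 22, 24, 30, 33, 36, 40, 44, 45,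
    48, 55, 60, 66, 72, 80, 88} : Finset ℕ), ∀ a ∈ Finset.Icc (-2 : ℤ) 2, (11 : ℤ) ∣ (d : ℤ) - a - 5 * 0 →
      (a = 0 ∧ 11 ∣ d) ∨ (a = 1 ∧ d = 12) ∨ (a = 1 ∧ d = 45) ∨
        (a = -1 ∧ d = 10) ∨ (a = 2 ∧ d = 2) ∨ (a = 2 ∧ d = 24) ∨
        (a = -2 ∧ d = 9) ∨ (a = -2 ∧ d = 20) := by decide +kernel

theorem arith3 (n12 n45 n10 n2 n24 n9 n20 : ℕ) (s : ℤ)
    (h1 : (n12 : ℤ) + n45 + n10 + 4 * n2 + 4 * n24 + 4 * n9 + 4 * n20 = 4)
    (h2 : s = 12 * n12 + 45 * n45 - 10 * n10 + 4 * n2 + 48 * n24 - 18 * n9 - 40 * n20) :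
    ((1 + s = 5 ∨ 1 + s = 16 ∨ 1 + s = 60) → n24 = 0 ∧ n9 = 0 ∧ n20 = 0) ∧ ¬ (1 + s = -6 ∨ 1 + s = -72) := by
  have a2 : n2 ≤ 1 := by omega
  have a3 : n24 ≤ 1 := by omega
  have a4 : n9 ≤ 1 := by omega
  have a5 : n20 ≤ 1 := by omega
  have a6 : n12 ≤ 4 := by omega
  constructor
  · intro h3
    interval_cases n2 <;> interval_cases n24 <;> interval_cases n9 <;> interval_cases n20 <;> omega
  · intro h3
    interval_cases n2 <;> interval_cases n24 <;> interval_cases n9 <;> interval_cases n20 <;> omega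

theorem filt_card {ι : Type*} (S : Finset ι) (P : ι → Prop) [DecidablePred P] :
    (((S.filter P).card : ℕ) : ℤ) = ∑ χ ∈ S, if P χ then (1 : ℤ) else 0 := by
  rw [Finset.card_filter]
  push_cast
  rfl

theorem sums8 {ι : Type*} (S : Finset ι) (a : ι → ℤ) (D : ι → ℕ) (F : ℤ → ℤ → ℤ) (hF : ∀ n, F 0 n = 0)
    (hcl : ∀ χ ∈ S, (a χ = 0 ∧ 11 ∣ D χ) ∨ (a χ = 1 ∧ D χ = 12) ∨ (a χ = 1 ∧ D χ = 45) ∨
        (a χ = -1 ∧ D χ = 10) ∨ (a χ = 2 ∧ D χ = 2) ∨ (a χ = 2 ∧ D χ = 24) ∨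
        (a χ = -2 ∧ D χ = 9) ∨ (a χ = -2 ∧ D χ = 20)) :
    ∑ χ ∈ S, F (a χ) (D χ) = F 1 12 * (S.filter (fun χ => a χ = 1 ∧ D χ = 12)).card +
      F 1 45 * (S.filter (fun χ => a χ = 1 ∧ D χ = 45)).card +
      F (-1) 10 * (S.filter (fun χ => a χ = -1 ∧ D χ = 10)).card +
      F 2 2 * (S.filter (fun χ => a χ = 2 ∧ D χ = 2)).card +
      F 2 24 * (S.filter (fun χ => a χ = 2 ∧ D χ = 24)).card +
      F (-2) 9 * (S.filter (fun χ => a χ = -2 ∧ D χ = 9)).card +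
      F (-2) 20 * (S.filter (fun χ => a χ = -2 ∧ D χ = 20)).card := by
  rw [filt_card, filt_card, filt_card, filt_card, filt_card, filt_card, filt_card, Finset.mul_sum, Finset.mul_sum,
    Finset.mul_sum, Finset.mul_sum, Finset.mul_sum, Finset.mul_sum, Finset.mul_sum, ← Finset.sum_add_distrib,
    ← Finset.sum_add_distrib, ← Finset.sum_add_distrib, ← Finset.sum_add_distrib, ← Finset.sum_add_distrib,
    ← Finset.sum_add_distrib]
  refine Finset.sum_congr rfl fun χ hχ => ?_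
  have h0 := hcl χ hχ
  clear hcl
  generalize a χ = α at h0 ⊢
  generalize D χ = δ at h0 ⊢
  rcases h0 with ⟨h1, h2⟩ | ⟨h1, h2⟩ | ⟨h1, h2⟩ | ⟨h1, h2⟩ | ⟨h1, h2⟩ | ⟨h1, h2⟩ | ⟨h1, h2⟩ | ⟨h1, h2⟩
  · rw [h1, hF]; norm_num
  all_goals
    subst h1; subst h2; norm_num

theorem arith5 (α A D d : ℤ) (hA : 0 ≤ A) (h1 : 1 + (α * α + ((α - 1) * (α - 1) + A)) = 6)
    (hd : 1 < d) (h2 : A = 0 → D = 0) (h3 : 1 * 1 + (α * d + ((α - 1) * d + D)) = 0) :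
    (α = 0 ∨ α = 1) ∧ A = 4 := by
  have h4 : α ≤ 2 := by nlinarith
  have h5 : -1 ≤ α := by nlinarith
  rcases (by omega : α = -1 ∨ α = 0 ∨ α = 1 ∨ α = 2) with h6 | h6 | h6 | h6
  · exfalso
    subst h6
    have h7 : A = 0 := by omega
    have := h2 h7
    omega
  · subst h6
    exact ⟨Or.inl rfl, by omega⟩
  · subst h6
    exact ⟨Or.inr rfl, by omega⟩
  · exfalso
    subst h6
    have h7 : A = 0 := by omega
    have := h2 h7
    omega

theorem not_of_card_filter {ι : Type*} {S : Finset ι} {P : ι → Prop} [DecidablePred P] (h : (S.filter P).card = 0)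
    (χ : ι) (hχ : χ ∈ S) : ¬ P χ := by
  intro hP
  rw [Finset.card_eq_zero] at h
  have : χ ∈ S.filter P := Finset.mem_filter.mpr ⟨hχ, hP⟩
  rw [h] at this
  simp at this

theorem exists_of_card_filter {ι : Type*} {S : Finset ι} {P : ι → Prop} [DecidablePred P] (h : (S.filter P).card ≠ 0) :
    ∃ χ ∈ S, P χ := by
  rw [Finset.card_ne_zero] at h
  obtain ⟨χ, hχ⟩ := h
  rw [Finset.mem_filter] at hχ
  exact ⟨χ, hχ⟩

/-- purely arithmetical classification -/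
theorem deg_arith {ι : Type*} (S : Finset ι) (a : ι → ℤ) (D : ι → ℕ) (d : ℕ) (α : ℤ)
    (hD : ∀ χ ∈ S, D χ ∈ ({2, 3, 4, 5, 6, 8, 9, 10, 11, 12, 15, 16, 18, 20, 22, 24, 30, 33, 36, 40, 44, 45,
      48, 55, 60, 66, 72, 80, 88} : Finset ℕ))
    (hd : d ∈ ({2, 3, 4, 5, 6, 8, 9, 10, 11, 12, 15, 16, 18, 20, 22, 24, 30, 33, 36, 40, 44, 45,
      48, 55, 60, 66, 72, 80, 88} : Finset ℕ))
    (hc : ∀ χ ∈ S, (11 : ℤ) ∣ (D χ : ℤ) - a χ - 5 * 0) (hcp : (11 : ℤ) ∣ d - α - 5 * 1)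
    (h1 : 1 + (α * α + ((α - 1) * (α - 1) + ∑ χ ∈ S, a χ * a χ)) = 6)
    (h2 : 1 * 1 + (α * d + ((α - 1) * d + ∑ χ ∈ S, a χ * (D χ : ℤ))) = 0) :
    α = 0 ∧ (∀ χ ∈ S, (a χ = 0 ∧ 11 ∣ D χ) ∨ (a χ = 1 ∧ D χ = 12) ∨ (a χ = 1 ∧ D χ = 45) ∨
        (a χ = -1 ∧ D χ = 10) ∨ (a χ = 2 ∧ D χ = 2)) ∧
      ((d = 16 ∧ (S.filter (fun χ => a χ = 1 ∧ D χ = 12)).card = 0 ∧
        (S.filter (fun χ => a χ = 1 ∧ D χ = 45)).card = 1 ∧
        (S.filter (fun χ => a χ = -1 ∧ D χ = 10)).card = 3 ∧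
        (S.filter (fun χ => a χ = 2 ∧ D χ = 2)).card = 0) ∨
       (d = 5 ∧ (S.filter (fun χ => a χ = 1 ∧ D χ = 12)).card = 2 ∧
        (S.filter (fun χ => a χ = 1 ∧ D χ = 45)).card = 0 ∧
        (S.filter (fun χ => a χ = -1 ∧ D χ = 10)).card = 2 ∧
        (S.filter (fun χ => a χ = 2 ∧ D χ = 2)).card = 0) ∨
       (d = 5 ∧ (S.filter (fun χ => a χ = 2 ∧ D χ = 2)).card = 1) ∨
       (d = 60 ∧ (S.filter (fun χ => a χ = 1 ∧ D χ = 45)).card = 1)) := by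
  have hd1 : (1 : ℤ) < d := by
    have : ∀ d ∈ ({2, 3, 4, 5, 6, 8, 9, 10, 11, 12, 15, 16, 18, 20, 22, 24, 30, 33, 36, 40, 44, 45,
      48, 55, 60, 66, 72, 80, 88} : Finset ℕ), 1 < d := by decide +kernel
    exact_mod_cast this d hd
  have h5 := arith5 α (∑ χ ∈ S, a χ * a χ) (∑ χ ∈ S, a χ * (D χ : ℤ)) d
    (Finset.sum_nonneg fun χ _ => mul_self_nonneg _) h1 hd1 (by
      intro h0
      apply Finset.sum_eq_zero
      intro χ hχ
      have := (Finset.sum_eq_zero_iff_of_nonneg (fun χ _ => mul_self_nonneg (a χ))).mp h0 χ hχ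
      rw [mul_self_eq_zero.mp this, zero_mul]) h2
  obtain ⟨hα, h4⟩ := h5
  have hcl : ∀ χ ∈ S, (a χ = 0 ∧ 11 ∣ D χ) ∨ (a χ = 1 ∧ D χ = 12) ∨ (a χ = 1 ∧ D χ = 45) ∨
        (a χ = -1 ∧ D χ = 10) ∨ (a χ = 2 ∧ D χ = 2) ∨ (a χ = 2 ∧ D χ = 24) ∨
        (a χ = -2 ∧ D χ = 9) ∨ (a χ = -2 ∧ D χ = 20) := by
    intro χ hχ
    have h3 : a χ * a χ ≤ 4 := by
      rw [← h4]
      exact Finset.single_le_sum (f := fun χ => a χ * a χ) (fun χ _ => mul_self_nonneg _) hχ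
    have h6 : a χ ≤ 2 := by nlinarith
    have h7 : -2 ≤ a χ := by nlinarith
    exact arith4 _ (hD χ hχ) _ (Finset.mem_Icc.mpr ⟨h7, h6⟩) (hc χ hχ)
  have e1 := sums8 S a D (fun α _ => α * α) (by intro n; ring) hcl
  have e2 := sums8 S a D (fun α δ => α * δ) (by intro n; ring) hcl
  try beta_reduce at e1 e2
  rw [h4] at e1
  rw [e2] at h2
  clear e2 h1 hc h4 hD
  have hx24 := @not_of_card_filter _ S (fun χ => a χ = 2 ∧ D χ = 24) _
  have hx9 := @not_of_card_filter _ S (fun χ => a χ = -2 ∧ D χ = 9) _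
  have hx20 := @not_of_card_filter _ S (fun χ => a χ = -2 ∧ D χ = 20) _
  generalize (S.filter (fun χ => a χ = 1 ∧ D χ = 12)).card = n12 at *
  generalize (S.filter (fun χ => a χ = 1 ∧ D χ = 45)).card = n45 at *
  generalize (S.filter (fun χ => a χ = -1 ∧ D χ = 10)).card = n10 at *
  generalize (S.filter (fun χ => a χ = 2 ∧ D χ = 2)).card = n2 at *
  generalize (S.filter (fun χ => a χ = 2 ∧ D χ = 24)).card = n24 at *
  generalize (S.filter (fun χ => a χ = -2 ∧ D χ = 9)).card = n9 at *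
  generalize (S.filter (fun χ => a χ = -2 ∧ D χ = 20)).card = n20 at *
  have har := arith2 hd
  have e1' : (n12 : ℤ) + n45 + n10 + 4 * n2 + 4 * n24 + 4 * n9 + 4 * n20 = 4 := by linarith
  have har3 := arith3 n12 n45 n10 n2 n24 n9 n20 _ e1' rfl
  have hα0 : α = 0 := by
    rcases hα with h3 | h3
    · exact h3
    · exfalso
      subst h3
      have h3 := har.2 hcp
      apply har3.2
      rcases h3 with h3 | h3
      · left; rw [h3] at h2; push_cast at h2; linarith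
      · right; rw [h3] at h2; push_cast at h2; linarith
  subst hα0
  have hd3 := har.1 hcp
  have hz := har3.1 (by
    rcases hd3 with h3 | h3 | h3
    · left; rw [h3] at h2; push_cast at h2; linarith
    · right; left; rw [h3] at h2; push_cast at h2; linarith
    · right; right; rw [h3] at h2; push_cast at h2; linarith)
  obtain ⟨h24, h9, h20⟩ := hz
  refine ⟨rfl, ?_, ?_⟩
  · intro χ hχ
    have g1 := hx24 h24 χ hχ
    have g2 := hx9 h9 χ hχ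
    have g3 := hx20 h20 χ hχ
    rcases hcl χ hχ with h | h | h | h | h | h | h | h
    · exact Or.inl h
    · exact Or.inr (Or.inl h)
    · exact Or.inr (Or.inr (Or.inl h))
    · exact Or.inr (Or.inr (Or.inr (Or.inl h)))
    · exact Or.inr (Or.inr (Or.inr (Or.inr h)))
    · exact absurd h g1
    · exact absurd h g2
    · exact absurd h g3
  · clear hcl hx24 hx9 hx20 har har3
    subst h24; subst h9; subst h20
    apply arith1 n12 n45 n10 n2 d _ _ hd3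
    · push_cast at e1'; omega
    · push_cast at h2; omega

theorem col_base {x : G} {a b : IrrCharacter G → ℤ} [DecidableEq (IrrCharacter G)] (h : XCol x a b) :
    ∃ p q : IrrCharacter G, p ≠ q ∧ p ≠ oneIrr G ∧ q ≠ oneIrr G ∧ b p = 1 ∧ b q = -1 ∧ a q = a p - 1 ∧
      (∀ χ, χ ≠ p → χ ≠ q → b χ = 0) ∧ H75.deg p = H75.deg q ∧
      1 + (a p * a p + ((a p - 1) * (a p - 1) + ∑ χ ∈ restS p q, a χ * a χ)) = 6 ∧
      1 * 1 + (a p * (H75.deg p : ℤ) + ((a p - 1) * (H75.deg p : ℤ) + ∑ χ ∈ restS p q, a χ * (H75.deg χ : ℤ))) = 0 := by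
  obtain ⟨p, q, hpq, hbp, hbq, hb0, hdpq⟩ := Col.exc_vec (fun χ : IrrCharacter G => (H75.deg χ : ℤ)) b
    (fun χ => by exact_mod_cast H75.deg_pos χ) (by simp only [pow_two]; exact h.sq_b) h.deg_b
  have hdpq' : H75.deg p = H75.deg q := by exact_mod_cast hdpq
  have hpo : p ≠ oneIrr G := by rintro rfl; rw [h.one_b] at hbp; omega
  have hqo : q ≠ oneIrr G := by rintro rfl; rw [h.one_b] at hbq; omega
  have hab := h.ab
  rw [sum_restS hpo hqo hpq] at hab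
  have hab0 : ∑ χ ∈ restS p q, a χ * b χ = 0 := Finset.sum_eq_zero fun χ hχ => by
    have hχ' : χ ≠ q ∧ χ ≠ p := by
      unfold restS at hχ; simp only [Finset.mem_erase] at hχ; exact ⟨hχ.1, hχ.2.1⟩
    rw [hb0 χ hχ'.2 hχ'.1, mul_zero]
  rw [hab0, h.one_b, hbp, hbq] at hab
  have haq : a q = a p - 1 := by linarith
  have haa := h.sq_a
  rw [sum_restS hpo hqo hpq, h.one_a, haq] at haa
  have hda := h.deg_a
  rw [sum_restS hpo hqo hpq, h.one_a, ← hdpq', Col.deg_one, haq] at hda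
  refine ⟨p, q, hpq, hpo, hqo, hbp, hbq, haq, hb0, hdpq', ?_, ?_⟩
  · linarith
  · linarith

theorem mem_restS [DecidableEq (IrrCharacter G)] {p q χ : IrrCharacter G} :
    χ ∈ restS p q ↔ χ ≠ q ∧ χ ≠ p ∧ χ ≠ oneIrr G := by
  unfold restS; simp

/-- coarse classification of the column of an element of order 11 -/
theorem deg_cases [IsSimpleGroup G] [DecidableEq (IrrCharacter G)] (hG : Nat.card G = 7920) {x : G}
    {a b : IrrCharacter G → ℤ} (h : XCol x a b) :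
    ∃ p q : IrrCharacter G, p ≠ q ∧ p ≠ oneIrr G ∧ q ≠ oneIrr G ∧ b p = 1 ∧ b q = -1 ∧ a p = 0 ∧ a q = -1 ∧
      (∀ χ, χ ≠ p → χ ≠ q → b χ = 0) ∧ H75.deg p = H75.deg q ∧
      (∀ χ ∈ restS p q, (a χ = 0 ∧ 11 ∣ H75.deg χ) ∨ (a χ = 1 ∧ H75.deg χ = 12) ∨ (a χ = 1 ∧ H75.deg χ = 45) ∨
        (a χ = -1 ∧ H75.deg χ = 10) ∨ (a χ = 2 ∧ H75.deg χ = 2)) ∧
      ((H75.deg p = 16 ∧ ((restS p q).filter (fun χ => a χ = 1 ∧ H75.deg χ = 12)).card = 0 ∧
        ((restS p q).filter (fun χ => a χ = 1 ∧ H75.deg χ = 45)).card = 1 ∧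
        ((restS p q).filter (fun χ => a χ = -1 ∧ H75.deg χ = 10)).card = 3 ∧
        ((restS p q).filter (fun χ => a χ = 2 ∧ H75.deg χ = 2)).card = 0) ∨
       (H75.deg p = 5 ∧ ((restS p q).filter (fun χ => a χ = 1 ∧ H75.deg χ = 12)).card = 2 ∧
        ((restS p q).filter (fun χ => a χ = 1 ∧ H75.deg χ = 45)).card = 0 ∧
        ((restS p q).filter (fun χ => a χ = -1 ∧ H75.deg χ = 10)).card = 2 ∧
        ((restS p q).filter (fun χ => a χ = 2 ∧ H75.deg χ = 2)).card = 0) ∨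
       (H75.deg p = 5 ∧ ∃ ψ ∈ restS p q, H75.deg ψ = 2)) := by
  obtain ⟨p, q, hpq, hpo, hqo, hbp, hbq, haq, hb0, hdpq, haa, hda⟩ := col_base h
  have hcp := h.cong p
  rw [hbp] at hcp
  have hD : ∀ χ ∈ restS p q, H75.deg χ ∈ ({2, 3, 4, 5, 6, 8, 9, 10, 11, 12, 15, 16, 18, 20, 22, 24, 30, 33, 36, 40, 44, 45,
      48, 55, 60, 66, 72, 80, 88} : Finset ℕ) := fun χ hχ => deg_facts hG χ (mem_restS.mp hχ).2.2
  have hc : ∀ χ ∈ restS p q, (11 : ℤ) ∣ (H75.deg χ : ℤ) - a χ - 5 * 0 := fun χ hχ => by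
    have h1 := h.cong χ
    rw [hb0 χ (mem_restS.mp hχ).2.1 (mem_restS.mp hχ).1] at h1
    exact h1
  obtain ⟨hap, hcl, hres⟩ := deg_arith (restS p q) a (fun χ => H75.deg χ) (H75.deg p) (a p) hD (deg_facts hG p hpo)
    hc hcp haa hda
  rw [hap] at haq
  refine ⟨p, q, hpq, hpo, hqo, hbp, hbq, hap, by rw [haq]; norm_num, hb0, hdpq, hcl, ?_⟩
  rcases hres with h1 | h1 | h1 | h1
  · exact Or.inl h1
  · exact Or.inr (Or.inl h1)
  · right; right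
    refine ⟨h1.1, ?_⟩
    have h2 := h1.2
    obtain ⟨ψ, hψ, hψ'⟩ := exists_of_card_filter (by rw [h2]; omega)
    exact ⟨ψ, hψ, hψ'.2⟩
  · exfalso
    have h2 := h1.2
    obtain ⟨ψ, hψ, hψ'⟩ := exists_of_card_filter (by rw [h2]; omega)
    have h3 := H75.sum_deg_sq (G := G)
    rw [hG, sum_restS hpo hqo hpq, ← hdpq, h1.1] at h3
    have h4 : H75.deg ψ ^ 2 ≤ ∑ χ ∈ restS p q, H75.deg χ ^ 2 :=
      Finset.single_le_sum (f := fun χ => H75.deg χ ^ 2) (fun χ _ => Nat.zero_le _) hψ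
    rw [hψ'.2] at h4
    clear hcl hc hD hda haa hcp
    generalize ∑ χ ∈ restS p q, H75.deg χ ^ 2 = A at *
    generalize H75.deg (oneIrr G) ^ 2 = B at *
    clear h2 h1 h
    omega

end Cfsg.Agent.H67.M11
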