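import Cfsg.Agent.H17.Basic
import Cfsg.Agent.H17.Orbits

set_option autoImplicit false

/-!
# Simple groups of order 7920: Sylow 11-subgroups (helper67)
-/

namespace Cfsg.Agent.H67.M11

open Subgroup

universe u v

variable {G : Type u} [Group G]

/-- Involutions of a perfect group act evenly. -/
theorem fixed_modEq_four (hG : commutator G = ⊤) {Ω : Type v} [MulAction G Ω] [Finite Ω] {t : G}
    (ht : t * t = 1) : Nat.card (MulAction.fixedBy Ω t) ≡ Nat.card Ω [MOD 4] := by
  classical
  haveI := Fintype.ofFinite Ω
  set σ := MulAction.toPermHom G Ω t with hσ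
  have h2 : σ ^ 2 = 1 := by rw [hσ, ← map_pow, pow_two, ht, map_one]
  have hs := H17.sign_eq_one_of_perfect hG (MulAction.toPermHom G Ω) t
  rw [← hσ] at hs
  haveI : Fact (Nat.Prime 2) := ⟨Nat.prime_two⟩
  have hc := (Equiv.Perm.pow_prime_eq_one_iff (p := 2)).mp h2
  have hrep : σ.cycleType = Multiset.replicate (Multiset.card σ.cycleType) 2 :=
    Multiset.eq_replicate_card.mpr hc
  set m := Multiset.card σ.cycleType with hm
  have hsum := Equiv.Perm.sum_cycleType σ
  rw [hrep, Multiset.sum_replicate, smul_eq_mul] at hsum
  have hsign := Equiv.Perm.sign_of_cycleType σ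
  rw [hs, hrep, Multiset.sum_replicate, Multiset.card_replicate, smul_eq_mul] at hsign
  have hme : Even m := by
    have h3 : ((-1 : ℤˣ)) ^ (m * 2 + m) = (-1) ^ m := by
      rw [pow_add, mul_comm m 2, pow_mul]; simp
    rw [h3] at hsign
    by_contra hodd
    rw [Nat.not_even_iff_odd] at hodd
    rw [hodd.neg_one_pow] at hsign
    exact absurd hsign (by decide)
  have hfix : Nat.card (MulAction.fixedBy Ω t) + σ.support.card = Nat.card Ω := by
    rw [Nat.card_eq_fintype_card, Nat.card_eq_fintype_card, Fintype.card_subtype,
      ← Finset.card_compl_add_card σ.support]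
    congr 1
    congr 1
    ext ω
    simp only [Finset.mem_filter, Finset.mem_univ, true_and, Finset.mem_compl, Equiv.Perm.mem_support,
      not_not, MulAction.mem_fixedBy]
    rfl
  obtain ⟨k, hk⟩ := hme
  rw [← hfix, ← hsum, hk]
  have : (k + k) * 2 = 4 * k := by ring
  rw [this]
  exact (Nat.modEq_iff_dvd' (by omega)).mpr ⟨k, by omega⟩

/-- fixed points of commuting elements -/
theorem fixed_mod_prime [Finite G] {p : ℕ} [hp : Fact p.Prime] {Ω : Type v} [MulAction G Ω] [Finite Ω] {x z : G}
    (hx : orderOf x = p) (hc : x * z = z * x) (h1 : ∀ ω : Ω, x • ω = ω → z • ω = ω) :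
    Nat.card (MulAction.fixedBy Ω z) ≡ Nat.card (MulAction.fixedBy Ω x) [MOD p] := by
  have hcz : ∀ g ∈ zpowers x, g * z = z * g := by
    intro g hg
    obtain ⟨i, rfl⟩ := mem_zpowers_iff.mp hg
    exact ((show Commute x z from hc).zpow_left i)
  letI : MulAction (zpowers x) (MulAction.fixedBy Ω z) :=
    { smul := fun g ω => ⟨(g : G) • (ω : Ω), by
        have hω := ω.2
        rw [MulAction.mem_fixedBy] at hω ⊢
        rw [← mul_smul, ← hcz g g.2, mul_smul, hω]⟩
      one_smul := fun ω => Subtype.ext (one_smul G (ω : Ω))
      mul_smul := fun a b ω => Subtype.ext (mul_smul (a : G) (b : G) (ω : Ω)) }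
  have hpg : IsPGroup p (zpowers x) := IsPGroup.of_card (n := 1) (by rw [Nat.card_zpowers, hx, pow_one])
  have h2 := hpg.card_modEq_card_fixedPoints (MulAction.fixedBy Ω z)
  refine h2.trans ?_
  have h3 : Nat.card (MulAction.fixedPoints (zpowers x) (MulAction.fixedBy Ω z)) =
      Nat.card (MulAction.fixedBy Ω x) := by
    refine Nat.card_congr
      { toFun := fun ω => ⟨((ω : MulAction.fixedBy Ω z) : Ω), ?_⟩
        invFun := fun ω => ⟨⟨(ω : Ω), h1 _ ω.2⟩, ?_⟩
        left_inv := fun ω => rfl
        right_inv := fun ω => rfl }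
    · have := ω.2
      rw [MulAction.mem_fixedPoints] at this
      exact congrArg Subtype.val (this ⟨x, mem_zpowers x⟩)
    · rw [MulAction.mem_fixedPoints]
      intro g
      apply Subtype.ext
      have hω : x • (ω : Ω) = ω := ω.2
      have hle : zpowers x ≤ MulAction.stabilizer G (ω : Ω) := by
        rw [zpowers_le]; exact hω
      exact hle g.2
  rw [h3]

theorem not_comm [Finite G] [IsSimpleGroup G] (hG : Nat.card G = 7920) : ¬ IsMulCommutative G := by
  apply H17.not_comm_of_not_prime
  rw [hG]; norm_num

/-- a Sylow subgroup of prime order fixes only itself -/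
theorem smul_sylow_iff [Finite G] {p : ℕ} [hp : Fact p.Prime] (P Q : Sylow p G) {x : G} (hP : (P : Subgroup G) = zpowers x)
    (hx : orderOf x = p) : x • Q = Q ↔ Q = P := by
  constructor
  · intro h
    rw [Sylow.smul_eq_iff_mem_normalizer] at h
    have hx' : IsPGroup p (zpowers x) := IsPGroup.of_card (n := 1) (by rw [Nat.card_zpowers, hx, pow_one])
    have h1 : zpowers x ≤ normalizer ((Q : Subgroup G) : Set G) := by rw [zpowers_le]; exact h
    have h2 : zpowers x ≤ Q := by
      have h3 : zpowers x ⊓ normalizer ((Q : Subgroup G) : Set G) = zpowers x ⊓ Q := hx'.inf_normalizer_sylow Q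
      rw [inf_eq_left.mpr h1] at h3
      rw [h3]
      exact inf_le_right
    apply Sylow.ext
    symm
    rw [hP]
    apply Subgroup.eq_of_le_of_card_ge h2
    have : Nat.card Q = Nat.card P := by rw [Q.card_eq_multiplicity, P.card_eq_multiplicity]
    rw [this]
    have h5 : Nat.card P = Nat.card (zpowers x) := by rw [← hP]
    exact h5.le
  · rintro rfl
    rw [Sylow.smul_eq_iff_mem_normalizer]
    exact le_normalizer (by rw [hP]; exact mem_zpowers x)

theorem sylow_kernel [Finite G] [IsSimpleGroup G] (hG : ¬ IsMulCommutative G) {p : ℕ} [hp : Fact p.Prime]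
    (hdvd : p ∣ Nat.card G) {z : G} (hz : ∀ Q : Sylow p G, z • Q = Q) : z = 1 := by
  obtain ⟨P⟩ : Nonempty (Sylow p G) := inferInstance
  have h1 := H17.card_sylow_ne_one hG hdvd
  have hinj : Function.Injective (MulAction.toPermHom G (Sylow p G)) := by
    rw [← MonoidHom.ker_eq_bot_iff]
    rcases (inferInstance : (MulAction.toPermHom G (Sylow p G)).ker.Normal).eq_bot_or_eq_top with h | h
    · exact h
    · exfalso
      apply h1
      rw [Nat.card_eq_one_iff_unique]
      refine ⟨⟨fun Q R => ?_⟩, ⟨P⟩⟩
      obtain ⟨g, hg⟩ := MulAction.exists_smul_eq G Q R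
      have : g ∈ (MulAction.toPermHom G (Sylow p G)).ker := by rw [h]; trivial
      rw [MonoidHom.mem_ker] at this
      have h2 := congrArg (fun σ : Equiv.Perm (Sylow p G) => σ Q) this
      simp only [MulAction.toPermHom_apply, MulAction.toPerm_apply, Equiv.Perm.coe_one, id_eq] at h2
      rw [← hg, h2]
  apply hinj
  rw [map_one]
  ext Q : 1
  exact hz Q

section Main

variable [Finite G] [IsSimpleGroup G]

theorem card_sylow_eleven (hG : Nat.card G = 7920) {x : G} (hx : orderOf x = 11) (P : Sylow 11 G)
    (hP : (P : Subgroup G) = zpowers x) :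
    Nat.card (normalizer ((P : Subgroup G) : Set G)) = 55 ∧ Nat.card (centralizer ({x} : Set G)) = 11 := by
  haveI : Fact (Nat.Prime 11) := ⟨by norm_num⟩
  have hGc := not_comm hG
  have hperf := H17.commutator_eq_top hGc
  have hdvd : 11 ∣ Nat.card G := by rw [hG]; norm_num
  have hmem := H17.card_sylow_mem (p := 11) (G := G) (k := 1) (m := 720) (by rw [hG]; norm_num) (by norm_num)
  have hne := H17.card_sylow_ne_one (p := 11) hGc hdvd
  have hmul := H17.card_normalizer_mul P
  rw [hG] at hmul
  set n := Nat.card (Sylow 11 G) with hn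
  have hcases : n = 12 ∨ n = 45 ∨ n = 144 := by
    rw [Finset.mem_filter] at hmem
    have h1 := hmem.1
    rw [show Nat.divisors 720 = {1, 2, 3, 4, 5, 6, 8, 9, 10, 12, 15, 16, 18, 20, 24, 30, 36, 40, 45, 48, 60, 72,
      80, 90, 120, 144, 180, 240, 360, 720} by decide +kernel] at h1
    simp only [Finset.mem_insert, Finset.mem_singleton] at h1
    have h2 := hmem.2
    omega
  have hPc : Nat.card P = 11 := by
    have h5 : Nat.card P = Nat.card (zpowers x) := by rw [← hP]
    rw [h5, Nat.card_zpowers, hx]
  have hcc : centralizer ((P : Subgroup G) : Set G) = centralizer ({x} : Set G) := by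
    rw [hP]
    ext y
    rw [mem_centralizer_singleton_iff, mem_centralizer_iff]
    constructor
    · intro h
      exact (h x (mem_zpowers x)).symm
    · rintro h g hg
      obtain ⟨k, rfl⟩ := mem_zpowers_iff.mp hg
      exact ((show Commute y x from h).zpow_right k).symm
  have hrel1 := H17.relIndex_dvd_of_card_prime (p := 11) (by norm_num) (P : Subgroup G) hPc
  have hrelne := H17.relIndex_ne_one hGc hdvd P
  have hle : centralizer ((P : Subgroup G) : Set G) ≤ normalizer ((P : Subgroup G) : Set G) :=
    centralizer_le_normalizer _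
  have hrel3 := H17.relIndex_mul_card_of_le hle
  have hcycP : IsCyclic P := isCyclic_of_prime_card (p := 11) hPc
  have hcommP : IsMulCommutative (P : Subgroup G) := hcycP.isMulCommutative
  have hrel2 := H17.relIndex_centralizer_dvd (P : Subgroup G) hcommP
  have hrel4 := H17.relIndex_mul_card_of_le (le_normalizer (H := (P : Subgroup G)))
  rw [show Nat.card (P : Subgroup G) = 11 from hPc] at hrel4
  rw [hcc] at hrel3
  set N := Nat.card (normalizer ((P : Subgroup G) : Set G)) with hN
  set r := (centralizer ((P : Subgroup G) : Set G)).relIndex (normalizer ((P : Subgroup G) : Set G)) with hr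
  rw [hcc] at hr
  rw [← hr] at hrel3
  have hxp : IsPGroup 11 (zpowers x) := IsPGroup.of_card (n := 1) (by rw [Nat.card_zpowers, hx, pow_one])
  rcases hcases with h | h | h
  · exfalso
    rw [h] at hmul
    have hN660 : N = 660 := by omega
    have hC : centralizer ({x} : Set G) ≤ zpowers x := by
      intro y hy
      rw [mem_centralizer_singleton_iff] at hy
      obtain ⟨Q, hQ⟩ : ∃ Q : Sylow 11 G, Q ≠ P := by
        by_contra hcon
        push Not at hcon
        apply hne
        rw [Nat.card_eq_one_iff_unique]
        exact ⟨⟨fun a b => by rw [hcon a, hcon b]⟩, ⟨P⟩⟩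
      -- the orbit of Q under x is everything but P
      have horb : ∀ R : Sylow 11 G, R ≠ P → ∃ j ∈ zpowers x, j • Q = R := by
        have h1 : Nat.card (MulAction.orbit (zpowers x) Q) = 11 := by
          have h2 := hxp.card_orbit Q
          obtain ⟨k, hk⟩ := h2
          have h3 : Nat.card (MulAction.orbit (zpowers x) Q) ∣ 11 := by
            have := Subgroup.index_dvd_card (MulAction.stabilizer (zpowers x) Q)
            rwa [Nat.card_zpowers, hx, MulAction.index_stabilizer] at this
          rcases (Nat.dvd_prime (by norm_num)).mp h3 with h4 | h4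
          · exfalso
            apply hQ
            rw [← smul_sylow_iff P Q hP hx]
            have h5 : MulAction.orbit (zpowers x) Q = {Q} := by
              have : (MulAction.orbit (zpowers x) Q).ncard = 1 := h4
              rw [Set.ncard_eq_one] at this
              obtain ⟨a, ha⟩ := this
              have h6 : Q ∈ MulAction.orbit (zpowers x) Q := MulAction.mem_orbit_self Q
              rw [ha] at h6 ⊢
              rw [Set.mem_singleton_iff.mp h6]
            have h6 : (⟨x, mem_zpowers x⟩ : zpowers x) • Q ∈ MulAction.orbit (zpowers x) Q :=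
              MulAction.mem_orbit _ _
            rw [h5, Set.mem_singleton_iff] at h6
            exact h6
          · exact h4
        have h2 : MulAction.orbit (zpowers x) Q = {P}ᶜ := by
          apply Set.eq_of_subset_of_ncard_le
          · rintro R ⟨g, hg⟩
            rw [Set.mem_compl_iff, Set.mem_singleton_iff]
            intro hRP
            apply hQ
            have h7 : (g : G) • Q = P := by rw [← hRP, ← hg]; rfl
            have h8 : (g : G)⁻¹ • P = P := by
              have hg' : (g : G)⁻¹ ∈ (P : Subgroup G) := by rw [hP]; exact inv_mem g.2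
              rw [Sylow.smul_eq_iff_mem_normalizer]
              exact le_normalizer hg'
            rw [← h8, ← h7, inv_smul_smul]
          · have h3 : (({P} : Set (Sylow 11 G))ᶜ).ncard = 11 := by
              rw [Set.ncard_compl, Set.ncard_singleton, ← hn, h]
            rw [h3]
            exact h1.ge
          · exact Set.toFinite _
        intro R hR
        have h3 : R ∈ MulAction.orbit (zpowers x) Q := by
          rw [h2]; exact hR
        obtain ⟨g, hg⟩ := h3
        exact ⟨g, g.2, hg⟩
      have hyP : y • P = P := by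
        rw [Sylow.smul_eq_iff_mem_normalizer]
        apply hle
        rw [hcc, mem_centralizer_singleton_iff]
        exact hy
      have hyQ : y • Q ≠ P := by
        intro h1
        apply hQ
        rw [← hyP] at h1
        exact smul_left_cancel y h1
      obtain ⟨j, hj, hjQ⟩ := horb _ hyQ
      have hcomm : ∀ i ∈ zpowers x, i * y = y * i := by
        intro i hi
        obtain ⟨k, rfl⟩ := mem_zpowers_iff.mp hi
        exact (show Commute x y from hy.symm).zpow_left k
      have hz1 : j⁻¹ * y = 1 := by
        apply sylow_kernel hGc hdvd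
        intro R
        by_cases hR : R = P
        · rw [hR, mul_smul, hyP, Sylow.smul_eq_iff_mem_normalizer]
          exact le_normalizer (by rw [hP]; exact inv_mem hj)
        · obtain ⟨i, hi, hiR⟩ := horb R hR
          rw [← hiR, ← mul_smul]
          have e1 : j⁻¹ * y * i = i * (j⁻¹ * y) := by
            have e2 := hcomm i hi
            obtain ⟨a, rfl⟩ := mem_zpowers_iff.mp hi
            obtain ⟨b, rfl⟩ := mem_zpowers_iff.mp hj
            rw [mul_assoc, ← e2, ← mul_assoc, ← mul_assoc]
            congr 1
            rw [← zpow_neg, ← zpow_add, ← zpow_add, add_comm]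
          rw [e1, mul_smul, mul_smul, ← hjQ, inv_smul_smul]
      rw [inv_mul_eq_one] at hz1
      rw [← hz1]; exact hj
    have hCc : Nat.card (centralizer ({x} : Set G)) ≤ 11 := by
      have := Nat.le_of_dvd (by rw [Nat.card_zpowers, hx]; norm_num) (card_dvd_of_le hC)
      rwa [Nat.card_zpowers, hx] at this
    have hr10 : r ≤ 10 := Nat.le_of_dvd (by norm_num) hrel1
    nlinarith
  · exfalso
    rw [h] at hmul
    have hN176 : N = 176 := by omega
    rw [hN176] at hrel4 hrel3
    have hrel16 : (P : Subgroup G).relIndex (normalizer ((P : Subgroup G) : Set G)) = 16 := by omega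
    rw [hrel16] at hrel2
    have hr2 : r ∣ 2 := by
      have := Nat.dvd_gcd hrel1 hrel2
      simpa using this
    have hr2' : r = 2 := by
      rcases (Nat.dvd_prime Nat.prime_two).mp hr2 with h1 | h1
      · exact absurd h1 hrelne
      · exact h1
    have hC88 : Nat.card (centralizer ({x} : Set G)) = 88 := by
      rw [hr2'] at hrel3; omega
    obtain ⟨Q, hQ⟩ : ∃ Q : Sylow 11 G, Q ≠ P := by
      by_contra hcon
      push Not at hcon
      apply hne
      rw [Nat.card_eq_one_iff_unique]
      exact ⟨⟨fun a b => by rw [hcon a, hcon b]⟩, ⟨P⟩⟩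
    set S₀ := MulAction.stabilizer (centralizer ({x} : Set G)) Q with hS₀
    have hidx : S₀.index ≤ 44 := by
      rw [hS₀, MulAction.index_stabilizer]
      have h1 : MulAction.orbit (centralizer ({x} : Set G)) Q ⊆ {P}ᶜ := by
        rintro R ⟨g, hg⟩
        rw [Set.mem_compl_iff, Set.mem_singleton_iff]
        intro hRP
        apply hQ
        have h7 : (g : G) • Q = P := by rw [← hRP, ← hg]; rfl
        have h8 : (g : G)⁻¹ • P = P := by
          rw [Sylow.smul_eq_iff_mem_normalizer]
          apply hle
          rw [hcc]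
          exact inv_mem g.2
        rw [← h8, ← h7, inv_smul_smul]
      have h2 := Set.ncard_le_ncard h1 (Set.toFinite _)
      rw [Set.ncard_compl, Set.ncard_singleton, ← hn, h] at h2
      exact h2
    have hS₀c := S₀.card_mul_index
    rw [hC88] at hS₀c
    have hS₀2 : 2 ≤ Nat.card S₀ := by
      by_contra hcon
      have : Nat.card S₀ ≤ 1 := by omega
      nlinarith
    have h11 : ¬ 11 ∣ Nat.card S₀ := by
      intro h11
      obtain ⟨g, hg⟩ := exists_prime_orderOf_dvd_card' 11 h11
      have hg' : orderOf ((g : centralizer ({x} : Set G)) : G) = 11 := by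
        rw [orderOf_coe, orderOf_coe, hg]
      have hgP : ((g : centralizer ({x} : Set G)) : G) ∈ (P : Subgroup G) := by
        have hgN : ((g : centralizer ({x} : Set G)) : G) ∈ normalizer ((P : Subgroup G) : Set G) := by
          apply hle; rw [hcc]; exact (g : centralizer ({x} : Set G)).2
        have h1 : zpowers ((g : centralizer ({x} : Set G)) : G) ≤ normalizer ((P : Subgroup G) : Set G) := by
          rw [zpowers_le]; exact hgN
        have hx' : IsPGroup 11 (zpowers ((g : centralizer ({x} : Set G)) : G)) :=
          IsPGroup.of_card (n := 1) (by rw [Nat.card_zpowers, hg', pow_one])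
        have h3 : zpowers ((g : centralizer ({x} : Set G)) : G) ⊓ normalizer ((P : Subgroup G) : Set G) =
          zpowers ((g : centralizer ({x} : Set G)) : G) ⊓ P := hx'.inf_normalizer_sylow P
        rw [inf_eq_left.mpr h1] at h3
        have h4 : zpowers ((g : centralizer ({x} : Set G)) : G) ≤ P := by rw [h3]; exact inf_le_right
        exact h4 (mem_zpowers _)
      have hPg : zpowers ((g : centralizer ({x} : Set G)) : G) = zpowers x := by
        apply Subgroup.eq_of_le_of_card_ge
        · rw [zpowers_le, ← hP]; exact hgP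
        · rw [Nat.card_zpowers, Nat.card_zpowers, hx, hg']
      apply hQ
      rw [← smul_sylow_iff P Q hP hx]
      have hxg : x ∈ zpowers ((g : centralizer ({x} : Set G)) : G) := by rw [hPg]; exact mem_zpowers x
      have hst : zpowers ((g : centralizer ({x} : Set G)) : G) ≤ MulAction.stabilizer G Q := by
        rw [zpowers_le]
        exact g.2
      exact hst hxg
    have h2 : 2 ∣ Nat.card S₀ := by
      have hd : Nat.card S₀ ∣ 88 := ⟨_, hS₀c.symm⟩
      have hd8 : Nat.card S₀ ∣ 8 := by
        have hcop : Nat.Coprime (Nat.card S₀) 11 :=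
          (Nat.Prime.coprime_iff_not_dvd (by norm_num)).mpr h11 |>.symm
        exact hcop.dvd_of_dvd_mul_right (by simpa using hd)
      have : Nat.card S₀ ∈ Nat.divisors 8 := by rw [Nat.mem_divisors]; exact ⟨hd8, by norm_num⟩
      rw [show Nat.divisors 8 = {1, 2, 4, 8} by decide +kernel] at this
      simp only [Finset.mem_insert, Finset.mem_singleton] at this
      omega
    obtain ⟨z, hz⟩ := exists_prime_orderOf_dvd_card' 2 h2
    set z' : G := ((z : centralizer ({x} : Set G)) : G) with hz'
    have hzo : orderOf z' = 2 := by rw [hz', orderOf_coe, orderOf_coe, hz]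
    have hzz : z' * z' = 1 := by rw [← pow_two, ← hzo, pow_orderOf_eq_one]
    have hzx : x * z' = z' * x := (mem_centralizer_singleton_iff.mp (z : centralizer ({x} : Set G)).2).symm
    have hf4 := fixed_modEq_four hperf (Ω := Sylow 11 G) hzz
    have hfixx : Nat.card (MulAction.fixedBy (Sylow 11 G) x) = 1 := by
      rw [Nat.card_eq_one_iff_unique]
      refine ⟨⟨fun a b => ?_⟩, ⟨⟨P, ?_⟩⟩⟩
      · apply Subtype.ext
        have ha := (smul_sylow_iff P _ hP hx).mp a.2
        have hb := (smul_sylow_iff P _ hP hx).mp b.2
        rw [ha, hb]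
      · rw [MulAction.mem_fixedBy, smul_sylow_iff P P hP hx]
    have hzP : z' • P = P := by
      rw [Sylow.smul_eq_iff_mem_normalizer]
      apply hle; rw [hcc]; exact (z : centralizer ({x} : Set G)).2
    have hf11 := fixed_mod_prime (p := 11) (Ω := Sylow 11 G) hx hzx (fun ω hω => by
      rw [smul_sylow_iff P ω hP hx] at hω
      rw [hω, hzP])
    rw [hfixx] at hf11
    have hle45 : Nat.card (MulAction.fixedBy (Sylow 11 G) z') ≤ 45 := by
      have := Nat.card_le_card_of_injective (fun ω : MulAction.fixedBy (Sylow 11 G) z' => (ω : Sylow 11 G))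
        Subtype.val_injective
      rwa [← hn, h] at this
    have hge2 : Nat.card (MulAction.fixedBy (Sylow 11 G) z') ≠ 1 := by
      intro h1
      rw [Nat.card_eq_one_iff_unique] at h1
      obtain ⟨⟨hs⟩, -⟩ := h1
      have hzQ : z' • Q = Q := z.2
      exact hQ (congrArg Subtype.val (hs ⟨Q, hzQ⟩ ⟨P, hzP⟩))
    have h45 : Nat.card (MulAction.fixedBy (Sylow 11 G) z') = 45 := by
      have e1 : Nat.card (MulAction.fixedBy (Sylow 11 G) z') % 4 = 1 := by
        have := hf4; rw [← hn, h] at this; exact this
      have e2 : Nat.card (MulAction.fixedBy (Sylow 11 G) z') % 11 = 1 := hf11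
      omega
    have hall : ∀ R : Sylow 11 G, z' • R = R := by
      have h1 : MulAction.fixedBy (Sylow 11 G) z' = Set.univ := by
        apply Set.eq_of_subset_of_ncard_le (Set.subset_univ _) _ (Set.toFinite _)
        rw [Set.ncard_univ, ← hn, h]
        exact h45.ge
      intro R
      have : R ∈ MulAction.fixedBy (Sylow 11 G) z' := by rw [h1]; trivial
      exact this
    have := sylow_kernel hGc hdvd hall
    rw [this, orderOf_one] at hzo
    omega
  · rw [h] at hmul
    have hN55 : N = 55 := by omega
    refine ⟨hN55, ?_⟩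
    rw [hN55] at hrel4 hrel3
    have hrel5 : (P : Subgroup G).relIndex (normalizer ((P : Subgroup G) : Set G)) = 5 := by omega
    rw [hrel5] at hrel2
    rcases (Nat.dvd_prime (by norm_num)).mp hrel2 with h1 | h1
    · exact absurd h1 hrelne
    · rw [h1] at hrel3; omega

end Main

end Cfsg.Agent.H67.M11
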