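import Cfsg.Agent.CharBase.Column
import Cfsg.Agent.Char.Galois
import Cfsg.Agent.H75.Tools

set_option autoImplicit false

/-!
# Character values on elements of order 11 whose third power is conjugate (helper67)
-/

namespace Cfsg.Agent.H67.M11

open Subgroup Cfsg Cfsg.Agent.CharBase
open scoped ComplexConjugate

universe u

variable {G : Type u} [Group G]

theorem geom_root {n : ℕ} {ξ : ℂ} (h : ξ ^ n = 1) : ∑ k ∈ Finset.range n, ξ ^ k = if ξ = 1 then (n : ℂ) else 0 := by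
  split_ifs with h1
  · subst h1; simp
  · have := geom_sum_mul ξ n
    rw [h, sub_self] at this
    exact (mul_eq_zero.mp this).resolve_right (sub_ne_zero.mpr h1)

/-- multiplicities of eigenvalues -/
theorem fourier [Finite G] {χ : G → ℂ} (hχ : IsCharacter G χ) {x : G} {n : ℕ} (hn : n ≠ 0) (hx : x ^ n = 1)
    {z : ℂ} (hz : z ^ n = 1) : ∃ m : ℕ, ∑ k ∈ Finset.range n, χ (x ^ k) * (z⁻¹) ^ k = n * m := by
  classical
  obtain ⟨s, -, hs2, hs3⟩ := Char.exists_roots_pow hχ x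
  have hs : ∀ ω ∈ s, ω ^ n = 1 := by
    intro ω hω
    obtain ⟨c, hc⟩ := orderOf_dvd_of_pow_eq_one hx
    rw [hc, pow_mul, hs2 ω hω, one_pow]
  have hz0 : z ≠ 0 := by
    rintro rfl
    rw [zero_pow hn] at hz
    exact zero_ne_one hz
  refine ⟨s.count z, ?_⟩
  have h1 : ∀ k, χ (x ^ k) * (z⁻¹) ^ k = (s.map (fun ω => (ω * z⁻¹) ^ k)).sum := by
    intro k
    rw [hs3 k, ← Multiset.sum_map_mul_right]
    congr 1
    exact Multiset.map_congr rfl fun ω _ => (mul_pow _ _ _).symm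
  simp only [h1]
  have h2 : ∑ k ∈ Finset.range n, (s.map (fun ω => (ω * z⁻¹) ^ k)).sum =
      (s.map (fun ω => ∑ k ∈ Finset.range n, (ω * z⁻¹) ^ k)).sum := by
    rw [Multiset.sum_map_sum]
  rw [h2]
  have h3 : s.map (fun ω => ∑ k ∈ Finset.range n, (ω * z⁻¹) ^ k) = s.map (fun ω => if ω = z then (n : ℂ) else 0) := by
    refine Multiset.map_congr rfl fun ω hω => ?_
    rw [geom_root (by rw [mul_pow, hs ω hω, inv_pow, hz]; simp)]
    congr 1
    rw [eq_iff_iff]
    exact mul_inv_eq_one₀ hz0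
  rw [h3]
  clear h1 h2 h3 hs hs2 hs3
  induction s using Multiset.induction_on with
  | empty => simp
  | cons ω s ih =>
    rw [Multiset.map_cons, Multiset.sum_cons, ih, Multiset.count_cons]
    by_cases h : ω = z
    · subst h; simp; ring
    · rw [if_neg h, if_neg (fun h' => h h'.symm)]; simp

/-- primitive 11th root of unity -/
noncomputable def ze : ℂ := Complex.exp (2 * Real.pi * Complex.I / 11)

theorem ze_prim : IsPrimitiveRoot ze 11 := by
  have := Complex.isPrimitiveRoot_exp 11 (by norm_num)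
  rw [Nat.cast_ofNat] at this
  exact this

theorem ze_pow : ze ^ 11 = 1 := ze_prim.pow_eq_one

theorem ze_sum : 1 + ze + ze ^ 2 + ze ^ 3 + ze ^ 4 + ze ^ 5 + ze ^ 6 + ze ^ 7 + ze ^ 8 + ze ^ 9 + ze ^ 10 = 0 := by
  have := geom_root ze_pow
  rw [if_neg (ze_prim.ne_one (by norm_num))] at this
  simp only [Finset.sum_range_succ, Finset.sum_range_zero] at this
  linear_combination this

noncomputable def eta : ℂ := ze + ze ^ 3 + ze ^ 4 + ze ^ 5 + ze ^ 9

theorem ze_inv : ze⁻¹ = ze ^ 10 := by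
  rw [inv_eq_iff_eq_inv, eq_comm, inv_eq_of_mul_eq_one_left]
  rw [← pow_succ', ze_pow]

theorem eta_conj : conj eta = -1 - eta := by
  have h1 : conj ze = ze ^ 10 := by
    rw [← ze_inv, Complex.inv_def]
    have h2 : Complex.normSq ze = 1 := by
      rw [Complex.normSq_eq_norm_sq, Complex.norm_eq_one_of_pow_eq_one ze_pow (by norm_num)]; norm_num
    rw [h2]; simp
  unfold eta
  simp only [map_add, map_pow, h1]
  have h3 := ze_pow
  have h4 := ze_sum
  have e3 : (ze ^ 10) ^ 3 = ze ^ 8 := by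
    calc (ze ^ 10) ^ 3 = (ze ^ 11) ^ 2 * ze ^ 8 := by ring
      _ = _ := by rw [h3]; ring
  have e4 : (ze ^ 10) ^ 4 = ze ^ 7 := by
    calc (ze ^ 10) ^ 4 = (ze ^ 11) ^ 3 * ze ^ 7 := by ring
      _ = _ := by rw [h3]; ring
  have e5 : (ze ^ 10) ^ 5 = ze ^ 6 := by
    calc (ze ^ 10) ^ 5 = (ze ^ 11) ^ 4 * ze ^ 6 := by ring
      _ = _ := by rw [h3]; ring
  have e9 : (ze ^ 10) ^ 9 = ze ^ 2 := by
    calc (ze ^ 10) ^ 9 = (ze ^ 11) ^ 8 * ze ^ 2 := by ring
      _ = _ := by rw [h3]; ring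
  rw [e3, e4, e5, e9]
  linear_combination h4

theorem eta_sq : eta ^ 2 = -eta - 3 := by
  have h3 := ze_pow
  have h4 := ze_sum
  unfold eta
  linear_combination (2 * ze + 2 * ze ^ 2 + 2 * ze ^ 3 + ze ^ 7) * h3 + 3 * h4

theorem eta_im : eta.im ≠ 0 := by
  intro h
  have h1 : conj eta = eta := Complex.conj_eq_iff_im.mpr h
  rw [eta_conj] at h1
  have h2 := eta_sq
  have h3 : eta = -1 / 2 := by linear_combination (-1 / 2) * h1
  rw [h3] at h2
  norm_num at h2

/-- independence of `1` and `eta` -/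
theorem eta_indep {a b : ℤ} (h : (a : ℂ) + b * eta = 0) : a = 0 ∧ b = 0 := by
  have h1 := congrArg Complex.im h
  simp only [Complex.add_im, Complex.intCast_im, Complex.mul_im, Complex.intCast_re, zero_mul, add_zero,
    Complex.zero_im, zero_add] at h1
  have hb : (b : ℝ) = 0 := by
    rcases mul_eq_zero.mp h1 with h2 | h2
    · exact h2
    · exact absurd h2 eta_im
  have hb' : b = 0 := by exact_mod_cast hb
  subst hb'
  simp only [Int.cast_zero, zero_mul, add_zero] at h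
  exact ⟨by exact_mod_cast h, rfl⟩

theorem eta_val [Finite G] {χ : G → ℂ} (hχ : IsCharacter G χ) {x g : G} (hx : x ^ 11 = 1) (hg : g * x * g⁻¹ = x ^ 3) :
    ∃ a b c : ℤ, χ x = a + b * eta ∧ χ 1 = a + 5 * b + 11 * c := by
  have hcl := isClassFunction_of_isCharacter hχ
  have h3 : ∀ k, χ (x ^ k) = χ (x ^ (3 * k)) := by
    intro k
    apply classFun_eq_of_isConj hcl
    rw [isConj_iff]
    exact ⟨g, by rw [← conj_pow, hg, ← pow_mul]⟩
  have hred : ∀ k, χ (x ^ (k + 11)) = χ (x ^ k) := by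
    intro k; rw [pow_add, hx, mul_one]
  set n := χ 1 with hn
  set α := χ x with hα
  set β := χ (x ^ 2) with hβ
  have c0 : χ (x ^ 0) = n := by rw [pow_zero]
  have c1 : χ (x ^ 1) = α := by rw [pow_one]
  have c3 : χ (x ^ 3) = α := by rw [← c1, h3 1]
  have c9 : χ (x ^ 9) = α := by rw [← c3, h3 3]
  have c5 : χ (x ^ 5) = α := by
    have := h3 9; rw [c9] at this
    rw [this, show 3 * 9 = 5 + 11 + 11 by norm_num, hred, hred]
  have c4 : χ (x ^ 4) = α := by
    have := h3 5; rw [c5] at this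
    rw [this, show 3 * 5 = 4 + 11 by norm_num, hred]
  have c6 : χ (x ^ 6) = β := by rw [hβ, h3 2]
  have c7 : χ (x ^ 7) = β := by
    have := h3 6; rw [c6] at this
    rw [this, show 3 * 6 = 7 + 11 by norm_num, hred]
  have c10 : χ (x ^ 10) = β := by
    have := h3 7; rw [c7] at this
    rw [this, show 3 * 7 = 10 + 11 by norm_num, hred]
  have c8 : χ (x ^ 8) = β := by
    have := h3 10; rw [c10] at this
    rw [this, show 3 * 10 = 8 + 11 + 11 by norm_num, hred, hred]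
  have hz := ze_pow
  have hs := ze_sum
  obtain ⟨m0, h0⟩ := fourier hχ (by norm_num : (11 : ℕ) ≠ 0) hx (z := 1) (one_pow _)
  obtain ⟨m1, h1⟩ := fourier hχ (by norm_num : (11 : ℕ) ≠ 0) hx (z := ze) hz
  obtain ⟨m2, h2⟩ := fourier hχ (by norm_num : (11 : ℕ) ≠ 0) hx (z := ze ^ 2) (by rw [← pow_mul, mul_comm, pow_mul, hz, one_pow])
  simp only [Finset.sum_range_succ, Finset.sum_range_zero, c0, c1, c3, c4, c5, c6, c7, c8, c9, c10, ← hβ,
    inv_one, one_pow, mul_one, zero_add, pow_zero] at h0 h1 h2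
  have hinv2 : (ze ^ 2)⁻¹ = ze ^ 9 := by
    rw [inv_eq_iff_eq_inv, eq_comm, inv_eq_of_mul_eq_one_left]
    rw [← pow_add, ze_pow]
  rw [ze_inv] at h1
  rw [hinv2] at h2
  have p : ∀ k : ℕ, ze ^ (k + 11) = ze ^ k := fun k => by rw [pow_add, hz, mul_one]
  have hec : (-1 - eta : ℂ) = ze ^ 2 + ze ^ 6 + ze ^ 7 + ze ^ 8 + ze ^ 10 := by
    unfold eta; linear_combination (-1 : ℂ) * hs
  have e1 : (11 : ℂ) * m1 = n + α * (-1 - eta) + β * eta := by
    rw [hec]
    unfold eta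
    have q : ∀ k : ℕ, (ze ^ 10) ^ k = ze ^ (10 * k) := fun k => (pow_mul _ _ _).symm
    simp only [q] at h1
    norm_num at h1
    rw [show (20 : ℕ) = 9 + 11 by norm_num, show (30 : ℕ) = 8 + 11 + 11 by norm_num, show (40 : ℕ) = 7 + 11 + 11 + 11 by norm_num,
      show (50 : ℕ) = 6 + 11 + 11 + 11 + 11 by norm_num, show (60 : ℕ) = 5 + 11 + 11 + 11 + 11 + 11 by norm_num,
      show (70 : ℕ) = 4 + 11 + 11 + 11 + 11 + 11 + 11 by norm_num,
      show (80 : ℕ) = 3 + 11 + 11 + 11 + 11 + 11 + 11 + 11 by norm_num,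
      show (90 : ℕ) = 2 + 11 + 11 + 11 + 11 + 11 + 11 + 11 + 11 by norm_num,
      show (100 : ℕ) = 1 + 11 + 11 + 11 + 11 + 11 + 11 + 11 + 11 + 11 by norm_num] at h1
    simp only [p] at h1
    linear_combination (-1 : ℂ) * h1
  have e2 : (11 : ℂ) * m2 = n + α * eta + β * (-1 - eta) := by
    rw [hec]
    unfold eta
    have q : ∀ k : ℕ, (ze ^ 9) ^ k = ze ^ (9 * k) := fun k => (pow_mul _ _ _).symm
    simp only [q] at h2
    norm_num at h2
    rw [show (18 : ℕ) = 7 + 11 by norm_num, show (27 : ℕ) = 5 + 11 + 11 by norm_num, show (36 : ℕ) = 3 + 11 + 11 + 11 by norm_num,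
      show (45 : ℕ) = 1 + 11 + 11 + 11 + 11 by norm_num, show (54 : ℕ) = 10 + 11 + 11 + 11 + 11 by norm_num,
      show (63 : ℕ) = 8 + 11 + 11 + 11 + 11 + 11 by norm_num,
      show (72 : ℕ) = 6 + 11 + 11 + 11 + 11 + 11 + 11 by norm_num,
      show (81 : ℕ) = 4 + 11 + 11 + 11 + 11 + 11 + 11 + 11 by norm_num,
      show (90 : ℕ) = 2 + 11 + 11 + 11 + 11 + 11 + 11 + 11 + 11 by norm_num] at h2
    simp only [p] at h2
    linear_combination (-1 : ℂ) * h2
  have e0 : (11 : ℂ) * m0 = n + 5 * α + 5 * β := by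
    push_cast at h0
    linear_combination (-1 : ℂ) * h0
  have hsq := eta_sq
  refine ⟨m0 - m2, m1 - m2, m2, ?_, ?_⟩
  · push_cast
    have : (11 : ℂ) * α = 11 * (m0 - m2 + (m1 - m2) * eta) := by
      linear_combination (-1 : ℂ) * e0 + e2 + (-e1 + e2) * eta + (2 * α - 2 * β) * hsq
    linear_combination (1 / 11 : ℂ) * this
  · push_cast
    linear_combination (-1 / 11 : ℂ) * e0 + (-5 / 11 : ℂ) * e1 + (-5 / 11 : ℂ) * e2

end Cfsg.Agent.H67.M11
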