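import Cfsg.Agent.H67.M11.Eleven2
import Cfsg.Agent.H10.PrimeClass
import Cfsg.Agent.H33.OneClass

set_option autoImplicit false

/-!
# Simple groups of order 7920: elements of order 5 (helper67)
-/

namespace Cfsg.Agent.H67.M11

open Subgroup Cfsg Cfsg.Agent.CharBase

universe u

variable {G : Type u} [Group G]

theorem eleven_not_dvd [Finite G] [IsSimpleGroup G] (hG : Nat.card G = 7920) {y : G} (hy1 : y ≠ 1)
    (hy : orderOf y ≠ 11) : ¬ 11 ∣ Nat.card (centralizer ({y} : Set G)) := by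
  intro h
  haveI : Fact (Nat.Prime 11) := ⟨by norm_num⟩
  obtain ⟨x, hx⟩ := exists_prime_orderOf_dvd_card' (G := centralizer ({y} : Set G)) 11 h
  have hx' : orderOf (x : G) = 11 := by rw [Subgroup.orderOf_coe, hx]
  have hyC : y ∈ centralizer ({(x : G)} : Set G) := by
    rw [mem_centralizer_singleton_iff]
    exact ((mem_centralizer_singleton_iff.mp x.2)).symm
  have h1 : orderOf y ∣ Nat.card (centralizer ({(x : G)} : Set G)) := by
    have := orderOf_dvd_natCard (⟨y, hyC⟩ : centralizer ({(x : G)} : Set G))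
    rwa [Subgroup.orderOf_mk] at this
  rw [(eleven hG hx').1] at h1
  rcases (Nat.dvd_prime (by norm_num)).mp h1 with h2 | h2
  · exact hy1 (orderOf_eq_one_iff.mp h2)
  · exact hy h2

theorem conj_zpowers_of_xp [Finite G] {p : ℕ} [hp : Fact p.Prime] {y : G} (hy : orderOf y = p)
    (h : ∀ b : (ZMod p)ˣ, IsConj y (H10.PrimeClass.xp y b)) : ∀ z ∈ zpowers y, z ≠ 1 → IsConj y z := by
  intro z hz hz1
  have hoz : orderOf z = p := by
    have h1 : orderOf z ∣ Nat.card (zpowers y) := by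
      have := orderOf_dvd_natCard (⟨z, hz⟩ : zpowers y)
      rwa [Subgroup.orderOf_mk] at this
    rw [Nat.card_zpowers, hy] at h1
    rcases (Nat.dvd_prime hp.out).mp h1 with h2 | h2
    · exact absurd (orderOf_eq_one_iff.mp h2) hz1
    · exact h2
  obtain ⟨b, hb⟩ := H10.PrimeClass.exists_xp_of_mem hy hoz hz
  rw [hb]
  exact h b

theorem five [Finite G] [IsSimpleGroup G] (hG : Nat.card G = 7920) {y : G} (hy : orderOf y = 5)
    (h2 : ¬ 2 ∣ Nat.card (centralizer ({y} : Set G))) :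
    Nat.card (centralizer ({y} : Set G)) = 5 ∧ ∀ z ∈ zpowers y, z ≠ 1 → IsConj y z := by
  haveI : Fact (Nat.Prime 5) := ⟨by norm_num⟩
  have hGc := not_comm hG
  have hy1 : y ≠ 1 := by rintro rfl; rw [orderOf_one] at hy; omega
  have h11 := eleven_not_dvd hG hy1 (by omega)
  have h5 : 5 ∣ Nat.card (centralizer ({y} : Set G)) := by
    have hyC : y ∈ centralizer ({y} : Set G) := by rw [mem_centralizer_singleton_iff]
    have := orderOf_dvd_natCard (⟨y, hyC⟩ : centralizer ({y} : Set G))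
    rwa [Subgroup.orderOf_mk, hy] at this
  have hdvd : Nat.card (centralizer ({y} : Set G)) ∣ 7920 := hG ▸ card_subgroup_dvd_card _
  obtain ⟨c, hc⟩ := h5
  have hp2 : ¬ 5 ^ 2 ∣ Nat.card G := by rw [hG]; norm_num
  have hmod := H10.PrimeClass.autS_mod hp2 hy (m := 1584) (c := c) (by rw [hG]) hc
  have hcard : Nat.card (H10.PrimeClass.autS 5 y hy) ∣ 4 := by
    have := card_subgroup_dvd_card (H10.PrimeClass.autS 5 y hy)
    rwa [Nat.card_eq_fintype_card (α := (ZMod 5)ˣ), ZMod.card_units] at this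
  rw [hc] at h2 h11 hdvd
  have hcd : c ∣ 1584 := by
    rw [show (7920 : ℕ) = 5 * 1584 by norm_num] at hdvd
    exact Nat.dvd_of_mul_dvd_mul_left (by norm_num) hdvd
  have hc9 : c = 1 ∨ c = 3 ∨ c = 9 := by
    have h3 : ∀ c ∈ Nat.divisors 1584, ¬ 2 ∣ c → ¬ 11 ∣ c → c = 1 ∨ c = 3 ∨ c = 9 := by decide +kernel
    exact h3 c (Nat.mem_divisors.mpr ⟨hcd, by norm_num⟩) (fun h => h2 (h.mul_left _)) (fun h => h11 (h.mul_left _))
  have hcard' : Nat.card (H10.PrimeClass.autS 5 y hy) = 1 ∨ Nat.card (H10.PrimeClass.autS 5 y hy) = 2 ∨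
      Nat.card (H10.PrimeClass.autS 5 y hy) = 4 := by
    have h3 : ∀ c ∈ Nat.divisors 4, c = 1 ∨ c = 2 ∨ c = 4 := by decide +kernel
    exact h3 _ (Nat.mem_divisors.mpr ⟨hcard, by norm_num⟩)
  have hne1 : Nat.card (H10.PrimeClass.autS 5 y hy) ≠ 1 := by
    intro he
    obtain ⟨P, hP⟩ := exists_sylow_zpowers (p := 5) (m := 1584) (by rw [hG]; norm_num) (by norm_num) hy rfl
    apply H17.not_normalizer_le_centralizer hGc (by rw [hG]; norm_num) P
    intro g hg
    rw [hP] at hg ⊢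
    rw [mem_centralizer_iff]
    have hgy : g * y * g⁻¹ = y := by
      have h3 : g * y * g⁻¹ ∈ zpowers y := (mem_normalizer_iff.mp hg y).mp (mem_zpowers y)
      have h4 : orderOf (g * y * g⁻¹) = 5 := by
        rw [← hy]
        exact orderOf_injective (MulAut.conj g).toMonoidHom (MulAut.conj g).injective y
      obtain ⟨b, hb⟩ := H10.PrimeClass.exists_xp_of_mem hy h4 h3
      have h5 : b ∈ H10.PrimeClass.autS 5 y hy := by
        rw [H10.PrimeClass.mem_autS, ← hb]
        exact isConj_iff.mpr ⟨g, rfl⟩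
      rw [Subgroup.card_eq_one] at he
      rw [he, Subgroup.mem_bot] at h5
      rw [hb, h5, H10.PrimeClass.xp_one hy]
    intro z hz
    obtain ⟨k, rfl⟩ := hz
    have h6 : Commute g y := by
      exact mul_inv_eq_iff_eq_mul.mp hgy
    exact (h6.zpow_right k).symm.eq
  have hfin : c = 1 ∧ Nat.card (H10.PrimeClass.autS 5 y hy) = 4 := by
    unfold Nat.ModEq at hmod
    rcases hc9 with rfl | rfl | rfl <;> rcases hcard' with h3 | h3 | h3 <;> rw [h3] at hmod hne1 ⊢ <;> omega
  refine ⟨by rw [hc, hfin.1], conj_zpowers_of_xp hy ?_⟩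
  intro b
  rw [← H10.PrimeClass.mem_autS (hx := hy)]
  have htop : H10.PrimeClass.autS 5 y hy = ⊤ := by
    rw [← Subgroup.card_eq_iff_eq_top, hfin.2, Nat.card_eq_fintype_card, ZMod.card_units]
  rw [htop]
  exact mem_top _

theorem val_five [Finite G] {y : G} (hy : orderOf y = 5) (h : ∀ z ∈ zpowers y, z ≠ 1 → IsConj y z)
    (χ : IrrCharacter G) : ∃ w : ℤ, (χ : G → ℂ) y = w ∧ (5 : ℤ) ∣ H75.deg χ - w := by
  have hcard : Nat.card (zpowers y) = 5 := by rw [Nat.card_zpowers, hy]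
  obtain ⟨a, ha, hd⟩ := H33.int_val_of_const (zpowers y) (x := y) (by rw [hcard]; norm_num)
    (irr_isCharacter χ) (H75.deg_spec χ) (fun z hz hz1 =>
      (classFun_eq_of_isConj (irr_isClassFunction χ) (h z hz hz1)).symm)
  rw [hcard] at hd
  exact ⟨a, ha, hd⟩

end Cfsg.Agent.H67.M11
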