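import Cfsg.Agent.H67.M11.Tab

set_option autoImplicit false

/-!
# Simple groups of order 7920: rationality of characters (helper67)
-/

namespace Cfsg.Agent.H67.M11

open Subgroup Cfsg Cfsg.Agent.CharBase
open scoped ComplexConjugate

universe u

variable {G : Type u} [Group G] [Finite G] [Fintype (IrrCharacter G)]

structure T10' (L : Fin 10 → IrrCharacter G) : Prop extends T10 L where
  inv' : ∀ t : G, orderOf t = 2 →
    (L 3 : G → ℂ) t = 2 ∧ (L 4 : G → ℂ) t = -2 ∧ (L 5 : G → ℂ) t = -2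

theorem T10.inv89 {L : Fin 10 → IrrCharacter G} (T : T10 L) {t : G} (ht : orderOf t = 2) :
    (L 0 : G → ℂ) t = 1 ∧ (L 8 : G → ℂ) t = 4 ∧ (L 9 : G → ℂ) t = -1 := by
  have ht1 : t ≠ 1 := by rintro rfl; rw [orderOf_one] at ht; omega
  obtain ⟨-, i1, i2, i6, i7, -⟩ := T.inv t ht
  have h8 := T.r3 t ht1 (by rw [ht]; norm_num) (by rw [ht]; norm_num)
  have h9 := T.r4 t ht1 (by rw [ht]; norm_num) (by rw [ht]; norm_num)
  rw [i2, i7] at h8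
  rw [i2, i6, i7] at h9
  refine ⟨by rw [T.one, oneIrr_apply], ?_, ?_⟩
  · rw [h8]; norm_num
  · rw [h9]; norm_num

/-- all involutions are conjugate -/
theorem T10.isConj_inv {L : Fin 10 → IrrCharacter G} (T : T10 L) {s t : G} (hs : orderOf s = 2) (ht : orderOf t = 2) :
    IsConj s t := by
  by_contra hc
  have h := column_orthogonality_of_not_isConj hc
  rw [sum10 T.bij] at h
  obtain ⟨-, i1, i2, i6, i7, i345⟩ := T.inv s hs
  obtain ⟨-, j1, j2, j6, j7, j345⟩ := T.inv t ht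
  obtain ⟨i0, i8, i9⟩ := T.inv89 hs
  obtain ⟨j0, j8, j9⟩ := T.inv89 ht
  rw [i0, i1, i2, i6, i7, i8, i9, j0, j1, j2, j6, j7, j8, j9] at h
  rcases i345 with ⟨a1, a2, a3⟩ | ⟨a1, a2, a3⟩ | ⟨a1, a2, a3⟩ <;>
    rcases j345 with ⟨b1, b2, b3⟩ | ⟨b1, b2, b3⟩ | ⟨b1, b2, b3⟩ <;>
    rw [a1, a2, a3, b1, b2, b3] at h <;>
    simp only [map_neg, map_ofNat, map_one, map_zero] at h <;> norm_num at h

theorem exists_T10' [IsSimpleGroup G] (hG : Nat.card G = 7920) : ∃ L : Fin 10 → IrrCharacter G, T10' L := by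
  obtain ⟨L, T⟩ := exists_T10 (G := G) hG
  haveI : Fact (Nat.Prime 2) := ⟨by norm_num⟩
  obtain ⟨t, ht⟩ := exists_prime_orderOf_dvd_card' (G := G) 2 (by rw [hG]; norm_num)
  have hcon : ∀ (χ : IrrCharacter G) (s : G), orderOf s = 2 → (χ : G → ℂ) s = (χ : G → ℂ) t := fun χ s hs =>
    classFun_eq_of_isConj (irr_isClassFunction χ) (T.isConj_inv hs ht)
  obtain ⟨-, -, -, -, -, i345⟩ := T.inv t ht
  rcases i345 with ⟨a1, a2, a3⟩ | ⟨a1, a2, a3⟩ | ⟨a1, a2, a3⟩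
  · exact ⟨L, T, fun s hs => by rw [hcon _ s hs, hcon _ s hs, hcon _ s hs]; exact ⟨a1, a2, a3⟩⟩
  · refine ⟨L ∘ (Equiv.swap 3 4), ⟨T.bij.comp (Equiv.bijective _), T.one, ?_, T.five, T.rat5,
      (let ⟨x, hx, h3, h4, h5⟩ := T.xval; ⟨x, hx, h4, h3, h5⟩), T.r1, ?_, T.r3, T.r4, ?_⟩, ?_⟩
    · intro i
      fin_cases i
      · exact T.deg 0
      · exact T.deg 1
      · exact T.deg 2
      · exact T.deg 4
      · exact T.deg 3
      · exact T.deg 5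
      · exact T.deg 6
      · exact T.deg 7
      · exact T.deg 8
      · exact T.deg 9
    · intro g h1 h2 h3
      have := T.r2 g h1 h2 h3
      show (L 6 : G → ℂ) g = (L 2 : G → ℂ) g + (L 4 : G → ℂ) g + (L 3 : G → ℂ) g + (L 5 : G → ℂ) g - 1
      rw [this]; ring
    · intro s hs
      obtain ⟨c, i1, i2, i6, i7, -⟩ := T.inv s hs
      refine ⟨c, i1, i2, i6, i7, Or.inl ?_⟩
      show (L 4 : G → ℂ) s = 2 ∧ (L 3 : G → ℂ) s = -2 ∧ (L 5 : G → ℂ) s = -2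
      rw [hcon _ s hs, hcon _ s hs, hcon _ s hs]; exact ⟨a2, a1, a3⟩
    · intro s hs
      show (L 4 : G → ℂ) s = 2 ∧ (L 3 : G → ℂ) s = -2 ∧ (L 5 : G → ℂ) s = -2
      rw [hcon _ s hs, hcon _ s hs, hcon _ s hs]; exact ⟨a2, a1, a3⟩
  · refine ⟨L ∘ (Equiv.swap 3 5), ⟨T.bij.comp (Equiv.bijective _), T.one, ?_, T.five, T.rat5,
      (let ⟨x, hx, h3, h4, h5⟩ := T.xval; ⟨x, hx, h5, h4, h3⟩), T.r1, ?_, T.r3, T.r4, ?_⟩, ?_⟩
    · intro i
      fin_cases i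
      · exact T.deg 0
      · exact T.deg 1
      · exact T.deg 2
      · exact T.deg 5
      · exact T.deg 4
      · exact T.deg 3
      · exact T.deg 6
      · exact T.deg 7
      · exact T.deg 8
      · exact T.deg 9
    · intro g h1 h2 h3
      have := T.r2 g h1 h2 h3
      show (L 6 : G → ℂ) g = (L 2 : G → ℂ) g + (L 5 : G → ℂ) g + (L 4 : G → ℂ) g + (L 3 : G → ℂ) g - 1
      rw [this]; ring
    · intro s hs
      obtain ⟨c, i1, i2, i6, i7, -⟩ := T.inv s hs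
      refine ⟨c, i1, i2, i6, i7, Or.inl ?_⟩
      show (L 5 : G → ℂ) s = 2 ∧ (L 4 : G → ℂ) s = -2 ∧ (L 3 : G → ℂ) s = -2
      rw [hcon _ s hs, hcon _ s hs, hcon _ s hs]; exact ⟨a3, a2, a1⟩
    · intro s hs
      show (L 5 : G → ℂ) s = 2 ∧ (L 4 : G → ℂ) s = -2 ∧ (L 3 : G → ℂ) s = -2
      rw [hcon _ s hs, hcon _ s hs, hcon _ s hs]; exact ⟨a3, a2, a1⟩

omit [Fintype (IrrCharacter G)] in
/-- Galois conjugate of an irreducible character -/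
noncomputable def gal (σ : ℂ ≃+* ℂ) (χ : IrrCharacter G) : IrrCharacter G :=
  ⟨fun g => σ ((χ : G → ℂ) g), Char.isIrrCharacter_map σ χ.2⟩

omit [Fintype (IrrCharacter G)] in
theorem gal_apply (σ : ℂ ≃+* ℂ) (χ : IrrCharacter G) (g : G) : (gal σ χ : G → ℂ) g = σ ((χ : G → ℂ) g) := rfl

omit [Fintype (IrrCharacter G)] in
theorem deg_gal (σ : ℂ ≃+* ℂ) (χ : IrrCharacter G) : H75.deg (gal σ χ) = H75.deg χ := by
  have h1 := H75.deg_spec (gal σ χ)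
  rw [gal_apply, H75.deg_spec, map_natCast] at h1
  exact_mod_cast h1.symm

theorem T10'.gal_cases {L : Fin 10 → IrrCharacter G} (T : T10' L) (σ : ℂ ≃+* ℂ) {t : G} (ht : orderOf t = 2) :
    (gal σ (L 1) = L 1 ∨ gal σ (L 1) = L 2) ∧ gal σ (L 3) = L 3 ∧
    ((gal σ (L 4) = L 4 ∧ gal σ (L 5) = L 5) ∨ (gal σ (L 4) = L 5 ∧ gal σ (L 5) = L 4)) ∧
    gal σ (L 6) = L 6 ∧ gal σ (L 7) = L 7 ∧ gal σ (L 8) = L 8 ∧ gal σ (L 9) = L 9 := by
  have hd : ∀ i : Fin 10, ∃ j, L j = gal σ (L i) ∧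
      (![1, 16, 16, 10, 10, 10, 45, 11, 44, 55] : Fin 10 → ℕ) j = (![1, 16, 16, 10, 10, 10, 45, 11, 44, 55] : Fin 10 → ℕ) i := by
    intro i
    obtain ⟨j, hj⟩ := T.bij.2 (gal σ (L i))
    refine ⟨j, hj, ?_⟩
    rw [← T.deg, ← T.deg, hj, deg_gal]
  obtain ⟨v3, v4, v5⟩ := T.inv' t ht
  have hinj : ∀ i j : Fin 10, gal σ (L i) = gal σ (L j) → i = j := by
    intro i j hij
    apply T.bij.1
    apply Subtype.ext
    funext g
    have := congrArg (fun χ : IrrCharacter G => (χ : G → ℂ) g) hij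
    simp only [gal_apply] at this
    exact σ.injective this
  have k1 : ∀ j : Fin 10, (![1, 16, 16, 10, 10, 10, 45, 11, 44, 55] : Fin 10 → ℕ) j =
      (![1, 16, 16, 10, 10, 10, 45, 11, 44, 55] : Fin 10 → ℕ) 1 → j = 1 ∨ j = 2 := by decide
  have k3 : ∀ j : Fin 10, (![1, 16, 16, 10, 10, 10, 45, 11, 44, 55] : Fin 10 → ℕ) j =
      (![1, 16, 16, 10, 10, 10, 45, 11, 44, 55] : Fin 10 → ℕ) 3 → j = 3 ∨ j = 4 ∨ j = 5 := by decide
  have k4 : ∀ j : Fin 10, (![1, 16, 16, 10, 10, 10, 45, 11, 44, 55] : Fin 10 → ℕ) j =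
      (![1, 16, 16, 10, 10, 10, 45, 11, 44, 55] : Fin 10 → ℕ) 4 → j = 3 ∨ j = 4 ∨ j = 5 := by decide
  have k5 : ∀ j : Fin 10, (![1, 16, 16, 10, 10, 10, 45, 11, 44, 55] : Fin 10 → ℕ) j =
      (![1, 16, 16, 10, 10, 10, 45, 11, 44, 55] : Fin 10 → ℕ) 5 → j = 3 ∨ j = 4 ∨ j = 5 := by decide
  have k6 : ∀ j : Fin 10, (![1, 16, 16, 10, 10, 10, 45, 11, 44, 55] : Fin 10 → ℕ) j =
      (![1, 16, 16, 10, 10, 10, 45, 11, 44, 55] : Fin 10 → ℕ) 6 → j = 6 := by decide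
  have k7 : ∀ j : Fin 10, (![1, 16, 16, 10, 10, 10, 45, 11, 44, 55] : Fin 10 → ℕ) j =
      (![1, 16, 16, 10, 10, 10, 45, 11, 44, 55] : Fin 10 → ℕ) 7 → j = 7 := by decide
  have k8 : ∀ j : Fin 10, (![1, 16, 16, 10, 10, 10, 45, 11, 44, 55] : Fin 10 → ℕ) j =
      (![1, 16, 16, 10, 10, 10, 45, 11, 44, 55] : Fin 10 → ℕ) 8 → j = 8 := by decide
  have k9 : ∀ j : Fin 10, (![1, 16, 16, 10, 10, 10, 45, 11, 44, 55] : Fin 10 → ℕ) j =
      (![1, 16, 16, 10, 10, 10, 45, 11, 44, 55] : Fin 10 → ℕ) 9 → j = 9 := by decide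
  obtain ⟨j1, hj1, hd1⟩ := hd 1
  obtain ⟨j3, hj3, hd3⟩ := hd 3
  obtain ⟨j4, hj4, hd4⟩ := hd 4
  obtain ⟨j5, hj5, hd5⟩ := hd 5
  obtain ⟨j6, hj6, hd6⟩ := hd 6
  obtain ⟨j7, hj7, hd7⟩ := hd 7
  obtain ⟨j8, hj8, hd8⟩ := hd 8
  obtain ⟨j9, hj9, hd9⟩ := hd 9
  have e3 : (L j3 : G → ℂ) t = 2 := by rw [hj3, gal_apply, v3, map_ofNat]
  have e4 : (L j4 : G → ℂ) t = -2 := by rw [hj4, gal_apply, v4, map_neg, map_ofNat]
  have e5 : (L j5 : G → ℂ) t = -2 := by rw [hj5, gal_apply, v5, map_neg, map_ofNat]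
  refine ⟨?_, ?_, ?_, ?_, ?_, ?_, ?_⟩
  · rcases k1 j1 hd1 with rfl | rfl
    · exact Or.inl hj1.symm
    · exact Or.inr hj1.symm
  · rcases k3 j3 hd3 with rfl | rfl | rfl
    · exact hj3.symm
    · rw [v4] at e3; norm_num at e3
    · rw [v5] at e3; norm_num at e3
  · rcases k4 j4 hd4 with rfl | rfl | rfl
    · rw [v3] at e4; norm_num at e4
    · left
      refine ⟨hj4.symm, ?_⟩
      rcases k5 j5 hd5 with rfl | rfl | rfl
      · rw [v3] at e5; norm_num at e5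
      · exact absurd (hinj 4 5 (hj4.symm.trans hj5)) (by decide)
      · exact hj5.symm
    · right
      refine ⟨hj4.symm, ?_⟩
      rcases k5 j5 hd5 with rfl | rfl | rfl
      · rw [v3] at e5; norm_num at e5
      · exact hj5.symm
      · exact absurd (hinj 4 5 (hj4.symm.trans hj5)) (by decide)
  · rw [← hj6, k6 j6 hd6]
  · rw [← hj7, k7 j7 hd7]
  · rw [← hj8, k8 j8 hd8]
  · rw [← hj9, k9 j9 hd9]

/-- the character of degree 11 has integral values -/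
theorem T10'.int_seven {L : Fin 10 → IrrCharacter G} (T : T10' L) {t : G} (ht : orderOf t = 2) (g : G) :
    ∃ m : ℤ, (L 7 : G → ℂ) g = m := by
  apply Char.exists_int_of_fixed (n := Nat.card G) Nat.card_pos.ne' _
    (Char.char_mem_closure (irr_isCharacter (L 7)) g dvd_rfl)
  intro k σ _ _
  have h := (T.gal_cases σ ht).2.2.2.2.1
  rw [← gal_apply, h]

end Cfsg.Agent.H67.M11
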