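import Cfsg.Agent.H67.M11.TwoThree

set_option autoImplicit false

/-!
# Simple groups of order 7920: a subgroup of index 12 (helper67)
-/

namespace Cfsg.Agent.H67.M11

open Subgroup Cfsg Cfsg.Agent.CharBase

universe u

variable {G : Type u} [Group G] [Finite G]

theorem mem_normalizer_zpowers {x n : G} (h : n * x * n⁻¹ ∈ zpowers x) :
    n ∈ normalizer ((zpowers x : Subgroup G) : Set G) := by
  rw [mem_normalizer_iff_map_conj_eq]
  apply Subgroup.eq_of_le_of_card_ge
  · rw [MonoidHom.map_zpowers, zpowers_le]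
    exact h
  · rw [Subgroup.card_map_of_injective (MulAut.conj n).injective]

theorem norm_eleven [IsSimpleGroup G] (hG : Nat.card G = 7920) {x : G} (hx : orderOf x = 11) :
    Nat.card (normalizer ((zpowers x : Subgroup G) : Set G)) = 55 := by
  haveI : Fact (Nat.Prime 11) := ⟨by norm_num⟩
  obtain ⟨P, hP⟩ := exists_sylow_zpowers (p := 11) (m := 720) (by rw [hG]; norm_num) (by norm_num) hx rfl
  rw [← hP]
  exact (card_sylow_eleven hG hx P hP).1

/-- homs from a (2,3,11)-generated group to a commutative group are trivial -/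
theorem hom_trivial_of_triple {A : Type*} [CommGroup A] {u v : G} (hu : u ^ 2 = 1) (hv : v ^ 3 = 1) (huv : (u * v) ^ 11 = 1)
    (hgen : closure ({u, v} : Set G) = ⊤) (f : G →* A) : f.ker = ⊤ := by
  have h1 : f u ^ 2 = 1 := by rw [← map_pow, hu, map_one]
  have h2 : f v ^ 3 = 1 := by rw [← map_pow, hv, map_one]
  have h3 : f u ^ 11 * f v ^ 11 = 1 := by rw [← mul_pow, ← map_mul, ← map_pow, huv, map_one]
  have h4 : f u ^ 11 = f u := by
    rw [show (11 : ℕ) = 2 * 5 + 1 by norm_num, pow_succ, pow_mul, h1, one_pow, one_mul]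
  have h5 : f v ^ 11 = f v ^ 2 := by
    rw [show (11 : ℕ) = 3 * 3 + 2 by norm_num, pow_add, pow_mul, h2, one_pow, one_mul]
  rw [h4, h5] at h3
  have h6 : f u = f v := by
    calc f u = f u * f v ^ 3 := by rw [h2, mul_one]
      _ = f u * f v ^ 2 * f v := by rw [pow_succ, mul_assoc]
      _ = f v := by rw [h3, one_mul]
  have h7 : f v = 1 := by
    have h8 : f v ^ 3 = f v := by
      rw [pow_succ, ← h6, h1, one_mul]
    rw [← h8, h2]
  rw [eq_top_iff, ← hgen, closure_le]
  intro g hg
  rcases hg with rfl | hg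
  · exact (h6.trans h7 : f _ = 1)
  · rw [Set.mem_singleton_iff] at hg
    subst hg
    exact h7

theorem card_closure_triple [IsSimpleGroup G] (hG : Nat.card G = 7920) {u v : G} (hu : orderOf u = 2)
    (hv : orderOf v = 3) (huv : orderOf (u * v) = 11) (hne : closure ({u, v} : Set G) ≠ ⊤) :
    Nat.card (closure ({u, v} : Set G)) = 660 := by
  haveI : Fact (Nat.Prime 11) := ⟨by norm_num⟩
  set H := closure ({u, v} : Set G) with hH
  have huH : u ∈ H := subset_closure (by simp)
  have hvH : v ∈ H := subset_closure (by simp)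
  have hdvd : Nat.card H ∣ 7920 := hG ▸ card_subgroup_dvd_card H
  set u' : H := ⟨u, huH⟩ with hu'
  set v' : H := ⟨v, hvH⟩ with hv'
  have hxo : orderOf (u' * v') = 11 := by
    rw [← huv, ← Subgroup.orderOf_coe]; rfl
  have huo : orderOf u' = 2 := by rw [← hu, ← Subgroup.orderOf_coe]
  have hvo : orderOf v' = 3 := by rw [← hv, ← Subgroup.orderOf_coe]
  have hgen : closure ({u', v'} : Set H) = ⊤ := by
    have h1 : (closure ({u', v'} : Set H)).map H.subtype = H := by
      rw [MonoidHom.map_closure, Set.image_pair]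
      rfl
    apply Subgroup.map_injective H.subtype_injective
    rw [h1, ← MonoidHom.range_eq_map, Subgroup.range_subtype]
  have htriv : ∀ {A : Type u} [CommGroup A] (f : H →* A), f.ker = ⊤ := fun f =>
    hom_trivial_of_triple (by rw [← huo, pow_orderOf_eq_one]) (by rw [← hvo, pow_orderOf_eq_one])
      (by rw [← hxo, pow_orderOf_eq_one]) hgen f
  have h11 : 11 ∣ Nat.card H := hxo ▸ orderOf_dvd_natCard _
  have h2 : 2 ∣ Nat.card H := huo ▸ orderOf_dvd_natCard _
  obtain ⟨m, hm⟩ := h11
  have hm720 : m ∣ 720 := by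
    rw [hm, show (7920 : ℕ) = 11 * 720 by norm_num] at hdvd
    exact Nat.dvd_of_mul_dvd_mul_left (by norm_num) hdvd
  have hm11 : ¬ 11 ∣ m := fun h => absurd (h.trans hm720) (by norm_num)
  obtain ⟨P, hP⟩ := exists_sylow_zpowers (p := 11) (m := m) (by rw [hm, pow_one]) hm11 hxo rfl
  have hPc : Nat.card (P : Subgroup H) = 11 := by rw [hP, Nat.card_zpowers, hxo]
  have hmul := H17.card_normalizer_mul P
  have hmod : Nat.card (Sylow 11 H) % 11 = 1 := H17.card_sylow_mod
  have hN55 : Nat.card (normalizer ((P : Subgroup H) : Set H)) ∣ 55 := by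
    rw [← norm_eleven hG huv, ← Subgroup.card_map_of_injective H.subtype_injective]
    apply card_dvd_of_le
    rintro _ ⟨n, hn, rfl⟩
    apply mem_normalizer_zpowers
    rw [hP] at hn
    have h3 := (mem_normalizer_iff.mp hn (u' * v')).mp (mem_zpowers _)
    obtain ⟨k, hk⟩ := h3
    refine ⟨k, ?_⟩
    exact congrArg Subtype.val hk
  have hN11 : 11 ∣ Nat.card (normalizer ((P : Subgroup H) : Set H)) := by
    exact (dvd_of_eq hPc.symm).trans (card_dvd_of_le le_normalizer)
  have hPcyc : IsCyclic (P : Subgroup H) := isCyclic_of_prime_card (p := 11) hPc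
  have hPcomm : IsMulCommutative (P : Subgroup H) := hPcyc.isMulCommutative
  have hNne : Nat.card (normalizer ((P : Subgroup H) : Set H)) ≠ 11 := by
    intro h
    have hNP : normalizer ((P : Subgroup H) : Set H) = (P : Subgroup H) := by
      symm
      apply Subgroup.eq_of_le_of_card_ge le_normalizer
      rw [h, hPc]
    have hNC : normalizer ((P : Subgroup H) : Set H) ≤ centralizer ((P : Subgroup H) : Set H) := by
      rw [hNP]
      intro z hz
      rw [mem_centralizer_iff]
      intro w hw
      exact congrArg Subtype.val (mul_comm' (⟨w, hw⟩ : (P : Subgroup H)) ⟨z, hz⟩)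
    have hcomp := MonoidHom.ker_transferSylow_isComplement' P hNC
    letI : CommGroup (P : Subgroup H) := { (inferInstance : Group (P : Subgroup H)) with mul_comm := fun a b => mul_comm' a b }
    have hker := htriv (MonoidHom.transferSylow P hNC)
    rw [hker] at hcomp
    have h4 := hcomp.disjoint
    rw [top_disjoint] at h4
    rw [h4, Subgroup.card_bot] at hPc
    omega
  have hN : Nat.card (normalizer ((P : Subgroup H) : Set H)) = 55 := by
    have : ∀ d ∈ Nat.divisors 55, 11 ∣ d → d ≠ 11 → d = 55 := by decide +kernel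
    exact this _ (Nat.mem_divisors.mpr ⟨hN55, by norm_num⟩) hN11 hNne
  rw [hN] at hmul
  have hlt : Nat.card H ≠ 7920 := by
    intro h
    apply hne
    apply (Subgroup.card_eq_iff_eq_top H).mp
    rw [h, hG]
  have hn : ∀ n ∈ Nat.divisors 144, n % 11 = 1 → n = 1 ∨ n = 12 ∨ n = 144 := by decide +kernel
  have hdn : Nat.card (Sylow 11 H) ∣ 144 := by
    rw [← hmul, show (7920 : ℕ) = 55 * 144 by norm_num] at hdvd
    exact Nat.dvd_of_mul_dvd_mul_left (by norm_num) hdvd
  rcases hn _ (Nat.mem_divisors.mpr ⟨hdn, by norm_num⟩) hmod with h | h | h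
  · rw [h] at hmul
    rw [← hmul] at h2
    norm_num at h2
  · rw [h] at hmul
    omega
  · rw [h] at hmul
    omega

theorem exists_660 [IsSimpleGroup G] (hG : Nat.card G = 7920) : ∃ H : Subgroup G, Nat.card H = 660 := by
  haveI := Fintype.ofFinite (IrrCharacter G)
  obtain ⟨L, T⟩ := exists_T10' (G := G) hG
  have hL := exists_loc (G := G) hG
  obtain ⟨u, v, hu, hv, huv⟩ := exists_triple hG T hL
  exact ⟨_, card_closure_triple hG hu hv huv (not_two_three hG T hL hu hv)⟩

end Cfsg.Agent.H67.M11
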