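import Cfsg.Agent.H67.M11.Base
import Cfsg.Agent.H67.M11.Five
import Cfsg.Agent.Char.DefectZero

set_option autoImplicit false

/-!
# Simple groups of order 7920: involutions (helper67)
-/

namespace Cfsg.Agent.H67.M11

open Subgroup Cfsg Cfsg.Agent.CharBase
open scoped ComplexConjugate

universe u

variable {G : Type u} [Group G] [Finite G] [Fintype (IrrCharacter G)]

theorem not_isConj_of_order {g x : G} (hx : orderOf x = 11) (hg : orderOf g ≠ 11) : ¬ IsConj g x ∧ ¬ IsConj g x⁻¹ := by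
  constructor
  · intro h
    obtain ⟨c, hc⟩ := isConj_iff.mp h
    apply hg
    rw [← hx, ← hc]
    exact (orderOf_injective (MulAut.conj c).toMonoidHom (MulAut.conj c).injective g).symm
  · intro h
    obtain ⟨c, hc⟩ := isConj_iff.mp h
    apply hg
    rw [← hx, ← orderOf_inv x, ← hc]
    exact (orderOf_injective (MulAut.conj c).toMonoidHom (MulAut.conj c).injective g).symm

theorem orth7 {x : G} {a b : IrrCharacter G → ℤ} {h : XCol x a b} {L : Fin 7 → IrrCharacter G} {dv : Fin 7 → ℕ}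
    {av bv : Fin 7 → ℤ} (B : Base7 h L dv av bv) {g : G} (h1 : ¬ IsConj g x) (h2 : ¬ IsConj g x⁻¹) :
    ∑ i, (L i : G → ℂ) g * av i = 0 ∧ ∑ i, (L i : G → ℂ) g * bv i = 0 := by
  classical
  have ha := h.orth_a g h1 h2
  have hb := h.orth_b g h1 h2
  rw [sum_restZ B.inj] at ha hb
  rw [Finset.sum_eq_zero (s := restZ L) (fun χ hχ => by rw [(B.rest χ (mem_restZ.mp hχ)).1]; simp), add_zero] at ha
  rw [Finset.sum_eq_zero (s := restZ L) (fun χ hχ => by rw [(B.rest χ (mem_restZ.mp hχ)).2.1]; simp), add_zero] at hb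
  simp only [B.aval] at ha
  simp only [B.bval] at hb
  exact ⟨ha, hb⟩

/-- products of two involutions are real -/
theorem count_invol_zero {x : G} (hinv : ¬ IsConj x x⁻¹) {t : G} (ht : t * t = 1) :
    ∑ χ : IrrCharacter G, (χ : G → ℂ) t * (χ : G → ℂ) t * conj ((χ : G → ℂ) x) / (χ : G → ℂ) 1 = 0 := by
  classical
  haveI := Fintype.ofFinite G
  have h := Col.count_formula t t x
  rw [show (Finset.univ.filter (fun g : G => IsConj (t * (g * t * g⁻¹)) x)) = ∅ from ?_] at h
  · simp only [Finset.card_empty, Nat.cast_zero, mul_zero] at h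
    have h2 : (Nat.card G : ℂ) ≠ 0 := by exact_mod_cast Nat.card_pos.ne'
    exact ((mul_eq_zero.mp h.symm).resolve_left h2)
  · rw [Finset.filter_eq_empty_iff]
    intro g _ hc
    apply hinv
    have hti : t⁻¹ = t := by rw [inv_eq_iff_mul_eq_one]; exact ht
    have h1 : IsConj (t * (g * t * g⁻¹)) (t * (g * t * g⁻¹))⁻¹ := by
      rw [isConj_iff]
      refine ⟨t, ?_⟩
      rw [mul_inv_rev, mul_inv_rev, mul_inv_rev, inv_inv, hti, ← mul_assoc t t, ht, one_mul]
      group
    obtain ⟨c, hc'⟩ := isConj_iff.mp hc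
    have h2 : IsConj (t * (g * t * g⁻¹))⁻¹ x⁻¹ := by
      rw [isConj_iff]
      refine ⟨c, ?_⟩
      rw [← hc']; group
    exact (hc.symm.trans h1).trans h2

structure ICol {x : G} {a b : IrrCharacter G → ℤ} (h : XCol x a b) (t : G) (v : IrrCharacter G → ℤ) : Prop where
  val : ∀ χ : IrrCharacter G, (χ : G → ℂ) t = v χ
  cong : ∀ χ : IrrCharacter G, (4 : ℤ) ∣ H75.deg χ - v χ
  lt : ∀ χ : IrrCharacter G, χ ≠ oneIrr G → |v χ| < H75.deg χ
  one : v (oneIrr G) = 1
  sa : ∑ χ, v χ * a χ = 0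
  sb : ∑ χ, v χ * b χ = 0
  sq : ∑ χ, v χ * v χ = Nat.card (centralizer ({t} : Set G))
  sd : ∑ χ, v χ * (H75.deg χ : ℤ) = 0
  count : ∑ χ, (v χ : ℚ) * v χ * a χ / H75.deg χ = 0

theorem exists_icol [IsSimpleGroup G] (hG : Nat.card G = 7920) {x : G} (hx : orderOf x = 11) (hinv : ¬ IsConj x x⁻¹)
    {a b : IrrCharacter G → ℤ} (h : XCol x a b) {t : G} (ht : t * t = 1) (ht1 : t ≠ 1) : ∃ v, ICol h t v := by
  classical
  choose v hv1 hv2 hv3 using fun χ : IrrCharacter G => invol_val (not_comm hG) ht ht1 χ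
  have hto : orderOf t ≠ 11 := by
    intro h11
    have : orderOf t ∣ 2 := orderOf_dvd_of_pow_eq_one (by rw [pow_two]; exact ht)
    rw [h11] at this
    omega
  obtain ⟨n1, n2⟩ := not_isConj_of_order hx hto
  have h0 := count_invol_zero hinv ht
  refine ⟨v, hv1, hv2, hv3, ?_, ?_, ?_, ?_, Col.col_deg ht1 hv1, ?_⟩
  · have := hv1 (oneIrr G)
    rw [oneIrr_apply] at this
    exact_mod_cast this.symm
  · have := h.orth_a t n1 n2
    simp only [hv1] at this
    exact_mod_cast this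
  · have := h.orth_b t n1 n2
    simp only [hv1] at this
    exact_mod_cast this
  · rw [Col.col_int hv1 hv1, if_pos (IsConj.refl t)]
  · have e1 : ((∑ χ, (v χ : ℚ) * v χ * a χ / H75.deg χ - ∑ χ, (v χ : ℚ) * v χ * b χ / H75.deg χ : ℚ) : ℂ) -
        ((∑ χ, (v χ : ℚ) * v χ * b χ / H75.deg χ : ℚ) : ℂ) * eta = 0 := by
      rw [← h0]
      push_cast
      rw [Finset.sum_mul, ← Finset.sum_sub_distrib, ← Finset.sum_sub_distrib]
      refine Finset.sum_congr rfl fun χ _ => ?_
      rw [hv1 χ, h.val χ, map_add, map_mul, map_intCast, map_intCast, eta_conj, H75.deg_spec]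
      ring
    have e2 := congrArg Complex.im e1
    rw [Complex.sub_im, Complex.ratCast_im, Complex.mul_im, Complex.ratCast_im, Complex.ratCast_re] at e2
    simp only [zero_mul, add_zero, zero_sub, Complex.zero_im, neg_eq_zero, mul_eq_zero] at e2
    have e3 := e2.resolve_right eta_im
    have e4 : (∑ χ, (v χ : ℚ) * v χ * b χ / H75.deg χ : ℚ) = 0 := by exact_mod_cast e3
    rw [e4] at e1
    simp only [sub_zero, Rat.cast_zero, zero_mul] at e1
    exact_mod_cast e1

theorem ICol.seven {x : G} {a b : IrrCharacter G → ℤ} {h : XCol x a b} {t : G} {v : IrrCharacter G → ℤ}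
    (C : ICol h t v) {L : Fin 7 → IrrCharacter G} {dv : Fin 7 → ℕ}
    {av bv : Fin 7 → ℤ} (B : Base7 h L dv av bv) :
    ∑ i, v (L i) * av i = 0 ∧ ∑ i, v (L i) * bv i = 0 ∧ ∑ i, (v (L i) : ℚ) * v (L i) * av i / dv i = 0 := by
  classical
  have ha := C.sa
  have hb := C.sb
  have hc := C.count
  rw [sum_restZ B.inj] at ha hb hc
  rw [Finset.sum_eq_zero (s := restZ L) (fun χ hχ => by rw [(B.rest χ (mem_restZ.mp hχ)).1]; simp), add_zero] at ha hc
  rw [Finset.sum_eq_zero (s := restZ L) (fun χ hχ => by rw [(B.rest χ (mem_restZ.mp hχ)).2.1]; simp), add_zero] at hb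
  simp only [B.aval, B.deg] at ha hc
  simp only [B.bval] at hb
  exact ⟨ha, hb, hc⟩

end Cfsg.Agent.H67.M11
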