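import Cfsg.Agent.H67.ColThree
import Cfsg.Agent.H79.Linearity

set_option autoImplicit false

/-!
# Character values at involutions of simple groups (helper67)
-/

namespace Cfsg.Agent.H67.M11

open Subgroup Cfsg Cfsg.Agent.CharBase
open scoped ComplexConjugate

universe u

variable {G : Type u} [Group G]

theorem sq_eq_one_iff_of_side_cond {ω : ℂ} (h : ω ^ 2 = 1) : ω = 1 ∨ ω = -1 := by
  have : (ω - 1) * (ω + 1) = 0 := by linear_combination h
  rcases mul_eq_zero.mp this with h | h
  · exact Or.inl (by linear_combination h)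
  · exact Or.inr (by linear_combination h)

theorem pm_one_multiset (s : Multiset ℂ) (hs : ∀ ω ∈ s, ω ^ 2 = 1) :
    ∃ k : ℕ, k ≤ Multiset.card s ∧ s.sum = (Multiset.card s : ℂ) - 2 * k ∧ s.prod = (-1) ^ k := by
  induction s using Multiset.induction_on with
  | empty => exact ⟨0, by simp, by simp, by simp⟩
  | cons ω s ih =>
    obtain ⟨k, h0, h1, h2⟩ := ih (fun z hz => hs z (Multiset.mem_cons_of_mem hz))
    have hω := hs ω (Multiset.mem_cons_self ω s)
    rcases sq_eq_one_iff_of_side_cond hω with h | h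
    · subst h
      refine ⟨k, ?_, ?_, ?_⟩
      · rw [Multiset.card_cons]; omega
      · rw [Multiset.sum_cons, h1, Multiset.card_cons]; push_cast; ring
      · rw [Multiset.prod_cons, h2, one_mul]
    · subst h
      refine ⟨k + 1, ?_, ?_, ?_⟩
      · rw [Multiset.card_cons]; omega
      · rw [Multiset.sum_cons, h1, Multiset.card_cons]; push_cast; ring
      · rw [Multiset.prod_cons, h2, pow_succ, mul_comm]

theorem invol_rep [Finite G] (hG : commutator G = ⊤) {n : ℕ} (ρ : Representation ℂ G (Fin n → ℂ)) {t : G}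
    (ht : t * t = 1) : ∃ k : ℕ, 2 * k ≤ n ∧ ρ.character t = (n : ℂ) - 4 * k := by
  set s := (LinearMap.charpoly (ρ t)).roots with hs
  have hcard : Multiset.card s = n := by
    have := (IsAlgClosed.splits (LinearMap.charpoly (ρ t))).natDegree_eq_card_roots
    rw [← this, LinearMap.charpoly_natDegree]; simp
  have hroot : ∀ ω ∈ s, ω ^ 2 = 1 := by
    intro ω hω
    apply Char.endo_pow_eq_one_of_mem_roots (f := ρ t) _ hω
    rw [pow_two, ← map_mul, ht, map_one]
  have hsum : ρ.character t = s.sum := Module.End.trace_eq_sum_roots_charpoly_of_splits (IsAlgClosed.splits _)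
  have hprod : LinearMap.det (ρ t) = s.prod :=
    Module.End.det_eq_prod_roots_charpoly_of_splits (IsAlgClosed.splits _)
  have hdet : LinearMap.det (ρ t) = 1 := by
    have h1 := H17.hom_trivial_of_perfect hG
      ((Units.map (LinearMap.det : ((Fin n → ℂ) →ₗ[ℂ] (Fin n → ℂ)) →* ℂ)).comp (MonoidHom.toHomUnits ρ)) t
    have h2 := congrArg Units.val h1
    exact h2
  obtain ⟨k, h0, h1, h2⟩ := pm_one_multiset s hroot
  rw [hprod, h2] at hdet
  have hk : Even k := by
    by_contra hodd
    rw [Nat.not_even_iff_odd] at hodd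
    rw [hodd.neg_one_pow] at hdet
    norm_num at hdet
  obtain ⟨j, hj⟩ := hk
  refine ⟨j, by omega, ?_⟩
  rw [hsum, h1, hcard, hj]
  push_cast; ring

theorem invol_val [Finite G] [IsSimpleGroup G] (hG : ¬ IsMulCommutative G) {t : G} (ht : t * t = 1) (ht1 : t ≠ 1)
    (χ : IrrCharacter G) : ∃ v : ℤ, (χ : G → ℂ) t = v ∧ (4 : ℤ) ∣ H75.deg χ - v ∧
      (χ ≠ oneIrr G → |v| < H75.deg χ) := by
  have hperf := H17.commutator_eq_top hG
  obtain ⟨n, ρ, hρ⟩ := irr_isCharacter χ
  obtain ⟨k, hk, hk'⟩ := invol_rep hperf ρ ht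
  have hdeg : H75.deg χ = n := by
    have h1 := H75.deg_spec χ
    rw [← hρ, Representation.char_one] at h1
    simp only [Module.finrank_fin_fun] at h1
    exact_mod_cast h1.symm
  have hval : (χ : G → ℂ) t = ((n - 4 * k : ℤ) : ℂ) := by
    rw [← hρ, hk']; push_cast; ring
  refine ⟨n - 4 * k, hval, ?_, ?_⟩
  · rw [hdeg]; exact ⟨k, by ring⟩
  · intro hχ
    have hle : |(n - 4 * k : ℤ)| ≤ n := by
      rw [abs_le]; constructor <;> omega
    rw [hdeg]
    apply lt_of_le_of_ne hle
    intro heq
    have hfaith : ∀ g : G, (χ : G → ℂ) g = (χ : G → ℂ) 1 → g = 1 := by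
      rcases (H75.charKer_normal (irr_isCharacter χ)).eq_bot_or_eq_top with h | h
      · intro g hg
        have : g ∈ H75.charKer (irr_isCharacter χ) := hg
        rw [h] at this
        exact this
      · exfalso
        have hall : ∀ g : G, (χ : G → ℂ) g = (χ : G → ℂ) 1 := fun g => by
          have : g ∈ H75.charKer (irr_isCharacter χ) := by rw [h]; trivial
          exact this
        haveI := Fintype.ofFinite (IrrCharacter G)
        haveI := Fintype.ofFinite G
        have h2 := classInner_irr_of_ne hχ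
        have h3 : classInner (χ : G → ℂ) (oneIrr G : G → ℂ) = (χ : G → ℂ) 1 := by
          unfold classInner
          simp only [hall, oneIrr_apply, map_one, mul_one, Finset.sum_const, nsmul_eq_mul, Finset.card_univ]
          rw [Nat.card_eq_fintype_card, ← mul_assoc, inv_mul_cancel₀, one_mul]
          exact_mod_cast Fintype.card_ne_zero
        rw [h2] at h3
        exact irr_one_ne_zero χ.2 h3.symm
    have hnorm : ‖(χ : G → ℂ) t‖ = (charDegree (χ : G → ℂ) : ℝ) := by
      rw [H75.charDegree_eq_deg, hdeg, hval, Complex.norm_intCast]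
      exact_mod_cast heq
    have := H79.mem_center_of_norm_eq χ hfaith hnorm
    rw [H17.center_eq_bot hG] at this
    exact ht1 this

end Cfsg.Agent.H67.M11
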