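import Cfsg.Agent.H67.M11.Three2

set_option autoImplicit false

/-!
# Simple groups of order 7920: Sylow 3-normalizers (helper67)
-/

namespace Cfsg.Agent.H67.M11

open Subgroup Cfsg Cfsg.Agent.CharBase

universe u

variable {G : Type u} [Group G] [Finite G]

/-- the local information obtained from characters -/
structure Loc (G : Type u) [Group G] [Finite G] : Prop where
  card : Nat.card G = 7920
  c2 : ∀ t : G, orderOf t = 2 → Nat.card (centralizer ({t} : Set G)) = 48
  c3 : ∀ t : G, orderOf t = 3 → Nat.card (centralizer ({t} : Set G)) = 18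
  c5 : ∀ t : G, orderOf t = 5 → Nat.card (centralizer ({t} : Set G)) = 5
  c11 : ∀ t : G, orderOf t = 11 → Nat.card (centralizer ({t} : Set G)) = 11
  conj2 : ∀ s t : G, orderOf s = 2 → orderOf t = 2 → IsConj s t
  rat5 : ∀ y : G, orderOf y = 5 → ∀ z ∈ zpowers y, z ≠ 1 → IsConj y z

theorem exists_loc [IsSimpleGroup G] (hG : Nat.card G = 7920) : Loc G := by
  haveI := Fintype.ofFinite (IrrCharacter G)
  obtain ⟨L, T⟩ := exists_T10' (G := G) hG
  exact ⟨hG, fun t ht => (T.inv t ht).1, fun t ht => cent3 hG T ht, T.five, fun t ht => (eleven hG ht).1,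
    fun s t hs ht => T.isConj_inv hs ht, T.rat5⟩

/-- fixed points of an automorphism of prime order on a normalized subgroup -/
theorem card_inf_centralizer_modEq {p : ℕ} [hp : Fact p.Prime] {P : Subgroup G} {y : G} (hy : orderOf y = p)
    (hN : y ∈ normalizer (P : Set G)) :
    Nat.card P ≡ Nat.card (P ⊓ centralizer ({y} : Set G) : Subgroup G) [MOD p] := by
  classical
  haveI := Fintype.ofFinite G
  let f : Function.End P := fun z => ⟨y * z * y⁻¹, (mem_normalizer_iff.mp hN z).mp z.2⟩
  have hf : ∀ (n : ℕ) (z : P), (((f ^ n : Function.End P) z : P) : G) = y ^ n * z * (y ^ n)⁻¹ := by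
    intro n
    induction n with
    | zero => intro z; simp only [pow_zero, one_mul, inv_one, mul_one]; rfl
    | succ n ih =>
      intro z
      have h1 : (f ^ (n + 1) : Function.End P) z = (f ^ n : Function.End P) (f z) := by
        rw [pow_succ]; rfl
      rw [h1, ih]
      show y ^ n * (y * z * y⁻¹) * (y ^ n)⁻¹ = _
      rw [pow_succ]; group
  have h1 : f ^ p ^ 1 = 1 := by
    funext z
    apply Subtype.ext
    rw [hf, pow_one, ← hy, pow_orderOf_eq_one]
    simp only [one_mul, inv_one, mul_one]; rfl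
  have h2 := Equiv.Perm.card_fixedPoints_modEq h1
  rw [← Nat.card_eq_fintype_card, ← Nat.card_eq_fintype_card] at h2
  have h3 : Nat.card (Function.fixedPoints f) = Nat.card (P ⊓ centralizer ({y} : Set G) : Subgroup G) := by
    apply Nat.card_congr
    refine ⟨fun z => ⟨(z : P), (z : P).2, ?_⟩, fun z => ⟨⟨z, z.2.1⟩, ?_⟩, fun z => rfl, fun z => rfl⟩
    · have := congrArg Subtype.val z.2
      have h4 : y * (z : P) * y⁻¹ = (z : P) := this
      show ((z : P) : G) ∈ centralizer ({y} : Set G)
      rw [mem_centralizer_singleton_iff]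
      exact (mul_inv_eq_iff_eq_mul.mp h4).symm
    · have h5 : (z : G) * y = y * z := mem_centralizer_singleton_iff.mp z.2.2
      apply Subtype.ext
      show y * (z : G) * y⁻¹ = z
      rw [← h5]; group
  rw [h3] at h2
  exact h2

variable [IsSimpleGroup G]

omit [IsSimpleGroup G] in
theorem Loc.sylow_card (hL : Loc G) (P : Sylow 3 G) : Nat.card (P : Subgroup G) = 9 := by
  haveI : Fact (Nat.Prime 3) := ⟨by norm_num⟩
  exact H17.card_sylow_eq (k := 2) (m := 880) P (by rw [hL.card]; norm_num) (by norm_num)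

omit [IsSimpleGroup G] in
theorem Loc.sylow_comm (hL : Loc G) (P : Sylow 3 G) {a b : G} (ha : a ∈ (P : Subgroup G)) (hb : b ∈ (P : Subgroup G)) :
    a * b = b * a := by
  haveI : Fact (Nat.Prime 3) := ⟨by norm_num⟩
  haveI := IsPGroup.isMulCommutative_of_card_eq_prime_sq (p := 3) (hL.sylow_card P)
  exact congrArg Subtype.val (mul_comm' (⟨a, ha⟩ : (P : Subgroup G)) ⟨b, hb⟩)

omit [IsSimpleGroup G] in
theorem Loc.not_nine (hL : Loc G) {y : G} (hy : orderOf y = 2 ∨ orderOf y = 5 ∨ orderOf y = 11) :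
    ¬ 9 ∣ Nat.card (centralizer ({y} : Set G)) := by
  rcases hy with h | h | h
  · rw [hL.c2 y h]; norm_num
  · rw [hL.c5 y h]; norm_num
  · rw [hL.c11 y h]; norm_num

omit [IsSimpleGroup G] in
theorem Loc.not_centralize (hL : Loc G) (P : Sylow 3 G) {y : G} (hy : orderOf y = 2 ∨ orderOf y = 5 ∨ orderOf y = 11)
    (h : ∀ z ∈ (P : Subgroup G), z * y = y * z) : False := by
  apply hL.not_nine hy
  rw [← hL.sylow_card P]
  exact card_dvd_of_le fun z hz => mem_centralizer_singleton_iff.mpr (h z hz)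

omit [IsSimpleGroup G] in
theorem Loc.centralizer_eq (hL : Loc G) (P : Sylow 3 G) : centralizer ((P : Subgroup G) : Set G) = (P : Subgroup G) := by
  symm
  have hle : (P : Subgroup G) ≤ centralizer ((P : Subgroup G) : Set G) := by
    intro z hz
    rw [mem_centralizer_iff]
    intro w hw
    exact hL.sylow_comm P hw hz
  apply Subgroup.eq_of_le_of_card_ge hle
  obtain ⟨m, hm⟩ := card_dvd_of_le hle
  rw [hL.sylow_card P] at hm ⊢
  have hdvd : Nat.card (centralizer ((P : Subgroup G) : Set G)) ∣ 7920 := hL.card ▸ card_subgroup_dvd_card _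
  rw [hm] at hdvd ⊢
  have hm880 : m ∣ 880 := by
    rw [show (7920 : ℕ) = 9 * 880 by norm_num] at hdvd
    exact Nat.dvd_of_mul_dvd_mul_left (by norm_num) hdvd
  by_cases hm1 : m = 1
  · rw [hm1]
  · exfalso
    obtain ⟨r, hr, hrm⟩ := Nat.exists_prime_and_dvd hm1
    haveI : Fact r.Prime := ⟨hr⟩
    have hr3 : r = 2 ∨ r = 5 ∨ r = 11 := by
      have h1 : r ∣ 880 := hrm.trans hm880
      have h2 : r ∈ Nat.primeFactors 880 := Nat.mem_primeFactors.mpr ⟨hr, h1, by norm_num⟩
      rw [show Nat.primeFactors 880 = {2, 5, 11} by decide +kernel] at h2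
      simpa using h2
    obtain ⟨y, hy⟩ := exists_prime_orderOf_dvd_card' (G := centralizer ((P : Subgroup G) : Set G)) r
      (by rw [hm]; exact hrm.mul_left 9)
    apply hL.not_centralize P (y := (y : G)) (by rw [Subgroup.orderOf_coe, hy]; exact hr3)
    intro z hz
    exact mem_centralizer_iff.mp y.2 z hz

omit [IsSimpleGroup G] in
theorem Loc.not_five_norm (hL : Loc G) (P : Sylow 3 G) {p : ℕ} [hp : Fact p.Prime] (hp5 : p = 5 ∨ p = 11) :
    ¬ p ∣ Nat.card (normalizer ((P : Subgroup G) : Set G)) := by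
  intro hd
  obtain ⟨y, hy⟩ := exists_prime_orderOf_dvd_card' (G := normalizer ((P : Subgroup G) : Set G)) p hd
  have hy' : orderOf (y : G) = p := by rw [Subgroup.orderOf_coe, hy]
  have h1 := card_inf_centralizer_modEq hy' y.2
  have h2 : Nat.card (((P : Subgroup G) ⊓ centralizer ({(y : G)} : Set G) : Subgroup G)) ∣ 9 := by
    rw [← hL.sylow_card P]
    exact card_dvd_of_le inf_le_left
  have h3 : Nat.card (((P : Subgroup G) ⊓ centralizer ({(y : G)} : Set G) : Subgroup G)) ∣ p := by
    have h4 : Nat.card (centralizer ({(y : G)} : Set G)) = p := by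
      rcases hp5 with rfl | rfl
      · exact hL.c5 _ hy'
      · exact hL.c11 _ hy'
    rw [← h4]
    exact card_dvd_of_le inf_le_right
  have h4 : Nat.card (((P : Subgroup G) ⊓ centralizer ({(y : G)} : Set G) : Subgroup G)) = 1 := by
    have := Nat.dvd_gcd h2 h3
    rcases hp5 with rfl | rfl <;> norm_num at this <;> exact this
  rw [h4, hL.sylow_card P] at h1
  rcases hp5 with rfl | rfl
  · exact absurd h1 (by decide)
  · exact absurd h1 (by decide)

theorem Loc.norm_cases (hL : Loc G) (P : Sylow 3 G) : Nat.card (normalizer ((P : Subgroup G) : Set G)) = 36 ∨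
    Nat.card (normalizer ((P : Subgroup G) : Set G)) = 144 := by
  haveI : Fact (Nat.Prime 3) := ⟨by norm_num⟩
  haveI : Fact (Nat.Prime 5) := ⟨by norm_num⟩
  haveI : Fact (Nat.Prime 11) := ⟨by norm_num⟩
  have h5 := hL.not_five_norm P (p := 5) (Or.inl rfl)
  have h11 := hL.not_five_norm P (p := 11) (Or.inr rfl)
  have hmul := H17.card_normalizer_mul P
  have hmod : Nat.card (Sylow 3 G) % 3 = 1 := H17.card_sylow_mod
  have h9 : 9 ∣ Nat.card (normalizer ((P : Subgroup G) : Set G)) := by
    rw [← hL.sylow_card P]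
    exact card_dvd_of_le le_normalizer
  have hne : Nat.card (normalizer ((P : Subgroup G) : Set G)) ≠ 9 := by
    intro h
    apply H17.not_normalizer_le_centralizer (not_comm hL.card) (p := 3) (by rw [hL.card]; norm_num) P
    rw [hL.centralizer_eq P]
    apply le_of_eq
    symm
    apply Subgroup.eq_of_le_of_card_ge le_normalizer
    rw [h, hL.sylow_card P]
  rw [hL.card] at hmul
  have key : ∀ c ∈ Nat.divisors 7920, 9 ∣ c → ¬ 5 ∣ c → ¬ 11 ∣ c → c ≠ 9 → (7920 / c) % 3 = 1 → c = 36 ∨ c = 144 := by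
    decide +kernel
  apply key _ (Nat.mem_divisors.mpr ⟨⟨_, hmul.symm⟩, by norm_num⟩) h9 h5 h11 hne
  rw [← hmul, Nat.mul_div_cancel_left _ Nat.card_pos]
  exact hmod

omit [IsSimpleGroup G] in
theorem Loc.cent_le (hL : Loc G) (P : Sylow 3 G) {s : G} (hs : s ∈ (P : Subgroup G)) (hs3 : orderOf s = 3) :
    centralizer ({s} : Set G) ≤ normalizer ((P : Subgroup G) : Set G) := by
  have hle : (P : Subgroup G) ≤ centralizer ({s} : Set G) := fun z hz =>
    mem_centralizer_singleton_iff.mpr (hL.sylow_comm P hz hs)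
  have h1 : (P : Subgroup G).relIndex (centralizer ({s} : Set G)) = 2 := by
    have := H17.relIndex_mul_card_of_le hle
    rw [hL.sylow_card P, hL.c3 s hs3] at this
    omega
  have h2 : ((P : Subgroup G).subgroupOf (centralizer ({s} : Set G))).Normal := Subgroup.normal_of_index_eq_two h1
  exact Subgroup.normal_subgroupOf_iff_le_normalizer hle |>.mp h2

end Cfsg.Agent.H67.M11
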