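import Cfsg.Agent.H67.M11.Norm

set_option autoImplicit false

/-!
# Simple groups of order 7920: Sylow 3-normalizers have order 144 (helper67)
-/

namespace Cfsg.Agent.H67.M11

open Subgroup

universe u

variable {G : Type u} [Group G] [Finite G]

theorem arith9 {k : ℕ} (hk : k < 9) (h1 : (3 * k) % 9 = 3 % 9) (h2 : (k ^ 2) % 9 = 1 % 9) : k = 1 := by
  interval_cases k <;> first | rfl | omega

theorem Loc.elem (hL : Loc G) (P : Sylow 3 G) {z : G} (hz : z ∈ (P : Subgroup G)) : z ^ 3 = 1 := by
  haveI : Fact (Nat.Prime 2) := ⟨by norm_num⟩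
  by_contra hne
  have hdvd : orderOf z ∣ 9 := by
    have := orderOf_dvd_natCard (⟨z, hz⟩ : (P : Subgroup G))
    rwa [Subgroup.orderOf_mk, hL.sylow_card P] at this
  have ho : orderOf z = 9 := by
    have h1 : ∀ d ∈ Nat.divisors 9, d = 1 ∨ d = 3 ∨ d = 9 := by decide +kernel
    rcases h1 _ (Nat.mem_divisors.mpr ⟨hdvd, by norm_num⟩) with h | h | h
    · exfalso; apply hne; rw [orderOf_eq_one_iff.mp h, one_pow]
    · exfalso; apply hne; rw [← h, pow_orderOf_eq_one]
    · exact h
  have hP : (P : Subgroup G) = zpowers z := by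
    symm
    apply Subgroup.eq_of_le_of_card_ge (by rw [zpowers_le]; exact hz)
    rw [Nat.card_zpowers, ho, hL.sylow_card P]
  have hs3 : orderOf (z ^ 3) = 3 := by rw [orderOf_pow, ho]; norm_num
  have hsP : z ^ 3 ∈ (P : Subgroup G) := pow_mem hz 3
  obtain ⟨t, ht⟩ := exists_prime_orderOf_dvd_card' (G := centralizer ({z ^ 3} : Set G)) 2 (by rw [hL.c3 _ hs3]; norm_num)
  have ht' : orderOf (t : G) = 2 := by rw [Subgroup.orderOf_coe, ht]
  have htN := hL.cent_le P hsP hs3 t.2
  have htz : (t : G) * z * (t : G)⁻¹ ∈ (P : Subgroup G) := (mem_normalizer_iff.mp htN z).mp hz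
  classical
  rw [hP, (isOfFinOrder_of_finite z).mem_zpowers_iff_mem_range_orderOf, ho] at htz
  simp only [Finset.mem_image, Finset.mem_range] at htz
  obtain ⟨k, hk, hk'⟩ := htz
  have h1 : z ^ (3 * k) = z ^ 3 := by
    have h2 : (t : G) * z ^ 3 * (t : G)⁻¹ = z ^ 3 := by
      rw [(mem_centralizer_singleton_iff.mp t.2)]; group
    rw [← h2, ← conj_pow, ← hk', ← pow_mul, mul_comm 3 k]
  have h2 : z ^ (k ^ 2) = z ^ 1 := by
    have h3 := conj_pow_iter hk'.symm 2
    have h4 : (t : G) ^ 2 = 1 := by rw [← ht', pow_orderOf_eq_one]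
    rw [h4] at h3
    simp only [one_mul, inv_one, mul_one] at h3
    rw [pow_one]; exact h3.symm
  rw [pow_inj_mod, ho] at h1 h2
  have hk1 := arith9 hk h1 h2
  rw [hk1, pow_one] at hk'
  apply hL.not_centralize P (y := (t : G)) (Or.inl ht')
  intro w hw
  rw [hP] at hw
  obtain ⟨j, rfl⟩ := hw
  have h5 : Commute (t : G) z := mul_inv_eq_iff_eq_mul.mp hk'.symm
  exact (h5.zpow_right j).symm.eq

theorem exists_conj_mem_sylow {H : Type u} [Group H] [Finite H] {p : ℕ} [hp : Fact p.Prime] (Q : Sylow p H) {w : H}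
    (hw : orderOf w = p) : ∃ n : H, n * w * n⁻¹ ∈ (Q : Subgroup H) := by
  have h1 : IsPGroup p (zpowers w) := IsPGroup.of_card (n := 1) (by rw [Nat.card_zpowers, hw, pow_one])
  obtain ⟨R, hR⟩ := h1.exists_le_sylow
  obtain ⟨g, hg⟩ := MulAction.exists_smul_eq H R Q
  refine ⟨g, ?_⟩
  rw [← hg, Sylow.coe_subgroup_smul, Subgroup.mem_pointwise_smul_iff_inv_smul_mem]
  have : (MulAut.conj g)⁻¹ • (g * w * g⁻¹) = w := by
    rw [← map_inv, MulAut.smul_def, MulAut.conj_apply]; group
  rw [this]
  exact hR (mem_zpowers w)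

theorem Loc.orderOf_three (hL : Loc G) (P : Sylow 3 G) {z : G} (hz : z ∈ (P : Subgroup G)) (hz1 : z ≠ 1) : orderOf z = 3 := by
  haveI : Fact (Nat.Prime 3) := ⟨by norm_num⟩
  exact orderOf_eq_prime (hL.elem P hz) hz1

theorem Loc.not_36 (hL : Loc G) (P : Sylow 3 G) (h36 : Nat.card (normalizer ((P : Subgroup G) : Set G)) = 36) : False := by
  classical
  haveI := Fintype.ofFinite G
  haveI : Fact (Nat.Prime 2) := ⟨by norm_num⟩
  haveI : Fact (Nat.Prime 3) := ⟨by norm_num⟩
  set H := normalizer ((P : Subgroup G) : Set G) with hH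
  obtain ⟨Q⟩ : Nonempty (Sylow 2 H) := inferInstance
  have hQ : Nat.card (Q : Subgroup H) = 4 := H17.card_sylow_eq (k := 2) (m := 9) Q (by rw [h36]; norm_num) (by norm_num)
  haveI := IsPGroup.isMulCommutative_of_card_eq_prime_sq (p := 2) (G := (Q : Subgroup H)) hQ
  have hPH : (P : Subgroup G) ≤ H := le_normalizer
  have hP' : Nat.card ((P : Subgroup G).subgroupOf H) = 9 := by
    rw [Nat.card_congr (Subgroup.subgroupOfEquivOfLe hPH).toEquiv, hL.sylow_card P]
  have hcompl : IsComplement' (Q : Subgroup H) ((P : Subgroup G).subgroupOf H) := by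
    apply isComplement'_of_coprime
    · rw [hQ, hP', h36]
    · rw [hQ, hP']; norm_num
  have key : ∀ s ∈ (P : Subgroup G), s ≠ 1 → ∃ w ∈ (Q : Subgroup H), w ≠ 1 ∧ (w : G) * s = s * w := by
    intro s hs hs1
    have hs3 := hL.orderOf_three P hs hs1
    obtain ⟨t, ht⟩ := exists_prime_orderOf_dvd_card' (G := centralizer ({s} : Set G)) 2 (by rw [hL.c3 _ hs3]; norm_num)
    have ht' : orderOf (t : G) = 2 := by rw [Subgroup.orderOf_coe, ht]
    have htN : (t : G) ∈ H := hL.cent_le P hs hs3 t.2
    have htH : orderOf (⟨t, htN⟩ : H) = 2 := by rw [Subgroup.orderOf_mk, ht']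
    obtain ⟨n, hn⟩ := exists_conj_mem_sylow Q htH
    obtain ⟨⟨q, p⟩, hqp, -⟩ := (isComplement_iff_existsUnique.mp hcompl) n
    have hqp' : (q : H) * (p : H) = n := hqp
    refine ⟨n * ⟨t, htN⟩ * n⁻¹, hn, ?_, ?_⟩
    · intro h1
      have h2 : (⟨t, htN⟩ : H) = 1 := by
        have := congrArg (fun z => n⁻¹ * z * n) h1
        simpa [mul_assoc] using this
      rw [h2, orderOf_one] at htH
      omega
    · have hq : (q : H)⁻¹ * (n * ⟨t, htN⟩ * n⁻¹) * q = n * ⟨t, htN⟩ * n⁻¹ := by
        have h3 := congrArg Subtype.val (mul_comm' (⟨n * ⟨t, htN⟩ * n⁻¹, hn⟩ : (Q : Subgroup H)) ⟨q, q.2⟩)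
        have h4 : n * ⟨t, htN⟩ * n⁻¹ * (q : H) = q * (n * ⟨t, htN⟩ * n⁻¹) := h3
        rw [mul_assoc, h4]; group
      have h5 : n * ⟨t, htN⟩ * n⁻¹ = (p : H) * ⟨t, htN⟩ * (p : H)⁻¹ := by
        rw [← hq]
        nth_rw 1 2 [← hqp']
        group
      rw [h5]
      have hpP : ((p : H) : G) ∈ (P : Subgroup G) := p.2
      have c1 : Commute ((p : H) : G) s := hL.sylow_comm P hpP hs
      have c2 : Commute (t : G) s := mem_centralizer_singleton_iff.mp t.2
      exact ((c1.mul_left c2).mul_left c1.inv_left).eq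
  -- counting
  have hcard8 : ((Finset.univ.filter (fun s : G => s ∈ (P : Subgroup G))).erase 1).card = 8 := by
    rw [Finset.card_erase_of_mem (by simp [one_mem])]
    have : (Finset.univ.filter (fun s : G => s ∈ (P : Subgroup G))).card = 9 := by
      rw [← hL.sylow_card P, Nat.card_eq_fintype_card, Fintype.card_subtype]
    rw [this]
  have hcard3 : ((Finset.univ.filter (fun w : H => w ∈ (Q : Subgroup H))).erase 1).card = 3 := by
    rw [Finset.card_erase_of_mem (by simp [one_mem])]
    have : (Finset.univ.filter (fun w : H => w ∈ (Q : Subgroup H))).card = 4 := by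
      rw [← hQ, Nat.card_eq_fintype_card, Fintype.card_subtype]
    rw [this]
  have hle : ((Finset.univ.filter (fun s : G => s ∈ (P : Subgroup G))).erase 1).card ≤
      ((Finset.univ.filter (fun w : H => w ∈ (Q : Subgroup H))).erase 1).card * 2 := by
    refine (Finset.card_le_card (t := ((Finset.univ.filter (fun w : H => w ∈ (Q : Subgroup H))).erase 1).biUnion
      (fun w => (Finset.univ.filter (fun s : G => s ∈ (P : Subgroup G) ⊓ centralizer ({(w : G)} : Set G))).erase 1)) ?_).trans ?_
    · intro s hs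
      rw [Finset.mem_erase, Finset.mem_filter] at hs
      obtain ⟨w, hw, hw1, hws⟩ := key s hs.2.2 hs.1
      rw [Finset.mem_biUnion]
      refine ⟨w, ?_, ?_⟩
      · rw [Finset.mem_erase, Finset.mem_filter]
        exact ⟨hw1, Finset.mem_univ _, hw⟩
      · rw [Finset.mem_erase, Finset.mem_filter]
        exact ⟨hs.1, Finset.mem_univ _, hs.2.2, mem_centralizer_singleton_iff.mpr hws.symm⟩
    · apply Finset.card_biUnion_le_card_mul
      intro w hw
      rw [Finset.mem_erase, Finset.mem_filter] at hw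
      rw [Finset.card_erase_of_mem (by simp [one_mem])]
      have h1 : (Finset.univ.filter (fun s : G => s ∈ (P : Subgroup G) ⊓ centralizer ({(w : G)} : Set G))).card =
          Nat.card ((P : Subgroup G) ⊓ centralizer ({(w : G)} : Set G) : Subgroup G) := by
        rw [Nat.card_eq_fintype_card, Fintype.card_subtype]
      rw [h1]
      have h2 : Nat.card ((P : Subgroup G) ⊓ centralizer ({(w : G)} : Set G) : Subgroup G) ∣ 9 := by
        rw [← hL.sylow_card P]
        exact card_dvd_of_le inf_le_left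
      have h3 : ∀ d ∈ Nat.divisors 9, d = 1 ∨ d = 3 ∨ d = 9 := by decide +kernel
      rcases h3 _ (Nat.mem_divisors.mpr ⟨h2, by norm_num⟩) with h | h | h
      · rw [h]; norm_num
      · rw [h]
      · exfalso
        have h4 : (P : Subgroup G) ⊓ centralizer ({(w : G)} : Set G) = (P : Subgroup G) := by
          apply Subgroup.eq_of_le_of_card_ge inf_le_left
          rw [h, hL.sylow_card P]
        have h5 : (w : G) ∈ (P : Subgroup G) := by
          rw [← hL.centralizer_eq P, mem_centralizer_iff]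
          intro z hz
          have h6 : z ∈ (P : Subgroup G) ⊓ centralizer ({(w : G)} : Set G) := by rw [h4]; exact hz
          exact mem_centralizer_singleton_iff.mp h6.2
        have h7 : orderOf (w : G) ∣ 9 := by
          have := orderOf_dvd_natCard (⟨(w : G), h5⟩ : (P : Subgroup G))
          rwa [Subgroup.orderOf_mk, hL.sylow_card P] at this
        have h8 : orderOf (w : G) ∣ 4 := by
          rw [Subgroup.orderOf_coe]
          have := orderOf_dvd_natCard (⟨w, hw.2.2⟩ : (Q : Subgroup H))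
          rwa [Subgroup.orderOf_mk, hQ] at this
        have h9 : orderOf (w : G) = 1 := by
          have h10 := Nat.dvd_gcd h7 h8
          rw [show Nat.gcd 9 4 = 1 by norm_num] at h10
          exact Nat.dvd_one.mp h10
        apply hw.1
        rw [orderOf_eq_one_iff] at h9
        exact Subtype.ext h9
  rw [hcard8, hcard3] at hle
  omega

theorem Loc.norm_card [IsSimpleGroup G] (hL : Loc G) (P : Sylow 3 G) :
    Nat.card (normalizer ((P : Subgroup G) : Set G)) = 144 :=
  (hL.norm_cases P).resolve_left (hL.not_36 P)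

end Cfsg.Agent.H67.M11
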