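import Cfsg.Agent.H67.M11.Cases

set_option autoImplicit false

/-!
# Simple groups of order 7920: the ten irreducible characters (helper67)
-/

namespace Cfsg.Agent.H67.M11

open Subgroup Cfsg Cfsg.Agent.CharBase
open scoped ComplexConjugate

universe u

theorem rest_arith {ι : Type*} [DecidableEq ι] (S : Finset ι) (D : ι → ℕ) (w : ι → ℤ)
    (hD : ∀ i ∈ S, 11 ∣ D i) (hD0 : ∀ i ∈ S, 0 < D i) (hw : ∀ i ∈ S, (5 : ℤ) ∣ D i - w i)
    (h1 : ∑ i ∈ S, w i * w i = 2) (h2 : ∑ i ∈ S, D i ^ 2 = 5082) :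
    ∃ α β γ : ι, α ≠ β ∧ α ≠ γ ∧ β ≠ γ ∧ S = {α, β, γ} ∧ D α = 11 ∧ D β = 44 ∧ D γ = 55 ∧ w α = 1 ∧ w β = -1 ∧ w γ = 0 := by
  have hcl : ∀ i ∈ S, (D i = 55 ∧ w i = 0) ∨ (D i = 11 ∧ w i = 1) ∨ (D i = 66 ∧ w i = 1) ∨ (D i = 44 ∧ w i = -1) := by
    intro i hi
    have h3 : w i * w i ≤ 2 := by
      rw [← h1]
      exact Finset.single_le_sum (f := fun i => w i * w i) (fun _ _ => mul_self_nonneg _) hi
    have h4 : D i ^ 2 ≤ 5082 := by
      rw [← h2]
      exact Finset.single_le_sum (f := fun i => D i ^ 2) (fun _ _ => Nat.zero_le _) hi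
    have h5 : w i ≤ 1 := by nlinarith
    have h6 : -1 ≤ w i := by nlinarith
    have h7 : D i ≤ 71 := by nlinarith
    have h8 := hD i hi
    have h9 := hD0 i hi
    have h10 := hw i hi
    obtain ⟨m, hm⟩ := h8
    generalize w i = ω at *
    generalize D i = δ at *
    subst hm
    have h11 : m ≤ 6 := by omega
    clear h1 h2 h3 h4 hD hD0 hw
    interval_cases ω <;> interval_cases m <;> omega
  have hS1 : ((S.filter (fun i => w i ≠ 0)).card : ℤ) = 2 := by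
    rw [← h1, ← Finset.sum_filter_add_sum_filter_not S (fun i => w i ≠ 0)]
    rw [Finset.sum_eq_zero (s := S.filter (fun i => ¬ w i ≠ 0)) (fun i hi => by
      rw [Finset.mem_filter, not_not] at hi
      rw [hi.2, mul_zero]), add_zero]
    rw [Finset.card_eq_sum_ones]
    push_cast
    refine Finset.sum_congr rfl fun i hi => ?_
    rw [Finset.mem_filter] at hi
    rcases hcl i hi.1 with h | h | h | h
    · exact absurd h.2 hi.2
    · rw [h.2]; norm_num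
    · rw [h.2]; norm_num
    · rw [h.2]; norm_num
  have hS1' : (S.filter (fun i => w i ≠ 0)).card = 2 := by exact_mod_cast hS1
  obtain ⟨α, β, hαβ, hαβS⟩ := Finset.card_eq_two.mp hS1'
  have hsum : D α ^ 2 + D β ^ 2 + 3025 * (S.filter (fun i => ¬ w i ≠ 0)).card = 5082 := by
    rw [← h2, ← Finset.sum_filter_add_sum_filter_not S (fun i => w i ≠ 0), hαβS, Finset.sum_pair hαβ]
    congr 1
    rw [Finset.sum_const_nat (m := 3025), mul_comm]
    intro i hi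
    rw [Finset.mem_filter, not_not] at hi
    rcases hcl i hi.1 with h | h | h | h
    · rw [h.1]; norm_num
    all_goals
      exfalso
      have := h.2
      omega
  have mα : α ∈ S.filter (fun i => w i ≠ 0) := by rw [hαβS]; simp
  have mβ : β ∈ S.filter (fun i => w i ≠ 0) := by rw [hαβS]; simp
  rw [Finset.mem_filter] at mα mβ
  have cα := hcl α mα.1
  have cβ := hcl β mβ.1
  have hcase : (S.filter (fun i => ¬ w i ≠ 0)).card = 1 ∧ ((D α = 11 ∧ w α = 1 ∧ D β = 44 ∧ w β = -1) ∨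
      (D β = 11 ∧ w β = 1 ∧ D α = 44 ∧ w α = -1)) := by
    have nα := mα.2
    have nβ := mβ.2
    clear hαβS hS1 hS1' hcl h1 h2 hD hD0 hw mα mβ
    generalize (S.filter (fun i => ¬ w i ≠ 0)).card = n at *
    rcases cα with ⟨g1, g2⟩ | ⟨g1, g2⟩ | ⟨g1, g2⟩ | ⟨g1, g2⟩ <;> rcases cβ with ⟨g3, g4⟩ | ⟨g3, g4⟩ | ⟨g3, g4⟩ | ⟨g3, g4⟩ <;>
      rw [g1, g3] at hsum <;> omega
  obtain ⟨hc1, hc2⟩ := hcase
  obtain ⟨γ, hγ⟩ := Finset.card_eq_one.mp hc1
  have mγ : γ ∈ S.filter (fun i => ¬ w i ≠ 0) := by rw [hγ]; simp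
  rw [Finset.mem_filter, not_not] at mγ
  have hDγ : D γ = 55 := by
    rcases hcl γ mγ.1 with h | h | h | h
    · exact h.1
    all_goals
      exfalso
      have := h.2
      have := mγ.2
      omega
  have hS : S = {α, β, γ} := by
    rw [← Finset.filter_union_filter_not_eq (fun i => w i ≠ 0) S, hαβS, hγ]
    ext i
    simp [or_assoc]
  have nαγ : α ≠ γ := by rintro rfl; exact mα.2 mγ.2
  have nβγ : β ≠ γ := by rintro rfl; exact mβ.2 mγ.2
  rcases hc2 with ⟨g1, g2, g3, g4⟩ | ⟨g1, g2, g3, g4⟩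
  · exact ⟨α, β, γ, hαβ, nαγ, nβγ, hS, g1, g3, hDγ, g2, g4, mγ.2⟩
  · refine ⟨β, α, γ, hαβ.symm, nβγ, nαγ, ?_, g1, g3, hDγ, g2, g4, mγ.2⟩
    rw [hS]
    exact Finset.insert_comm _ _ _

variable {G : Type u} [Group G] [Finite G] [Fintype (IrrCharacter G)]

structure T10 (L : Fin 10 → IrrCharacter G) : Prop where
  bij : Function.Bijective L
  one : L 0 = oneIrr G
  deg : ∀ i, H75.deg (L i) = (![1, 16, 16, 10, 10, 10, 45, 11, 44, 55] : Fin 10 → ℕ) i
  five : ∀ y : G, orderOf y = 5 → Nat.card (centralizer ({y} : Set G)) = 5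
  rat5 : ∀ y : G, orderOf y = 5 → ∀ z ∈ zpowers y, z ≠ 1 → IsConj y z
  xval : ∃ x : G, orderOf x = 11 ∧ (L 3 : G → ℂ) x = -1 ∧ (L 4 : G → ℂ) x = -1 ∧ (L 5 : G → ℂ) x = -1
  r1 : ∀ g : G, g ≠ 1 → orderOf g ≠ 5 → orderOf g ≠ 11 → (L 1 : G → ℂ) g = (L 2 : G → ℂ) g
  r2 : ∀ g : G, g ≠ 1 → orderOf g ≠ 5 → orderOf g ≠ 11 → (L 6 : G → ℂ) g =
    (L 2 : G → ℂ) g + (L 3 : G → ℂ) g + (L 4 : G → ℂ) g + (L 5 : G → ℂ) g - 1
  r3 : ∀ g : G, g ≠ 1 → orderOf g ≠ 5 → orderOf g ≠ 11 → (L 8 : G → ℂ) g =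
    1 + 2 * (L 2 : G → ℂ) g + (L 7 : G → ℂ) g
  r4 : ∀ g : G, g ≠ 1 → orderOf g ≠ 5 → orderOf g ≠ 11 → (L 9 : G → ℂ) g =
    -(1 + (L 6 : G → ℂ) g + 2 * (L 2 : G → ℂ) g + (L 7 : G → ℂ) g)
  inv : ∀ t : G, orderOf t = 2 → Nat.card (centralizer ({t} : Set G)) = 48 ∧
    (L 1 : G → ℂ) t = 0 ∧ (L 2 : G → ℂ) t = 0 ∧ (L 6 : G → ℂ) t = -3 ∧ (L 7 : G → ℂ) t = 3 ∧
    (((L 3 : G → ℂ) t = 2 ∧ (L 4 : G → ℂ) t = -2 ∧ (L 5 : G → ℂ) t = -2) ∨
     ((L 3 : G → ℂ) t = -2 ∧ (L 4 : G → ℂ) t = 2 ∧ (L 5 : G → ℂ) t = -2) ∨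
     ((L 3 : G → ℂ) t = -2 ∧ (L 4 : G → ℂ) t = -2 ∧ (L 5 : G → ℂ) t = 2))

omit [Finite G] in
theorem sum10 {L : Fin 10 → IrrCharacter G} (hL : Function.Bijective L) {M : Type*} [AddCommMonoid M]
    (F : IrrCharacter G → M) :
    ∑ χ, F χ = F (L 0) + F (L 1) + F (L 2) + F (L 3) + F (L 4) + F (L 5) + F (L 6) + F (L 7) + F (L 8) + F (L 9) := by
  rw [← hL.sum_comp F]
  simp only [Fin.sum_univ_succ, Fin.sum_univ_zero]
  simp only [add_assoc, add_zero]
  rfl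

theorem arith_inv {r N : ℤ} (h1 : (4 : ℤ) ∣ 11 - r) (h2 : |r| < 11)
    (h3 : 22 + r * r + (1 + r) * (1 + r) + (2 - r) * (2 - r) = N) (h4 : N ∣ 7920) : r = 3 ∧ N = 48 := by
  rw [abs_lt] at h2
  obtain ⟨h5, h6⟩ := h2
  subst h3
  have h7 : r = -9 ∨ r = -5 ∨ r = -1 ∨ r = 3 ∨ r = 7 := by omega
  rcases h7 with rfl | rfl | rfl | rfl | rfl
  · exact absurd h4 (by decide +kernel)
  · exact absurd h4 (by decide +kernel)
  · exact absurd h4 (by decide +kernel)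
  · exact ⟨rfl, by norm_num⟩
  · exact absurd h4 (by decide +kernel)

theorem exists_T10 [IsSimpleGroup G] (hG : Nat.card G = 7920) : ∃ L : Fin 10 → IrrCharacter G, T10 L := by
  classical
  haveI : Fact (Nat.Prime 5) := ⟨by norm_num⟩
  haveI : Fact (Nat.Prime 11) := ⟨by norm_num⟩
  haveI : Fact (Nat.Prime 2) := ⟨by norm_num⟩
  obtain ⟨x, hx⟩ := exists_prime_orderOf_dvd_card' (G := G) 11 (by rw [hG]; norm_num)
  obtain ⟨y, hy⟩ := exists_prime_orderOf_dvd_card' (G := G) 5 (by rw [hG]; norm_num)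
  obtain ⟨hCx, hx3, hinv⟩ := eleven hG hx
  obtain ⟨a, b, h⟩ := exists_xcol hx hCx hx3 hinv
  have hicol : ∀ t : G, orderOf t = 2 → ∃ v, ICol h t v := by
    intro t ht
    have ht2 : t * t = 1 := by rw [← pow_two, ← ht, pow_orderOf_eq_one]
    have ht1 : t ≠ 1 := by rintro rfl; rw [orderOf_one] at ht; omega
    exact exists_icol hG hx hinv h ht2 ht1
  rcases exists_base7 hG h with ⟨ψ, hψ, hψ'⟩ | ⟨L, B⟩ | ⟨L, B⟩
  · obtain ⟨t, ht⟩ := exists_prime_orderOf_dvd_card' (G := G) 2 (by rw [hG]; norm_num)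
    obtain ⟨v, C⟩ := hicol t ht
    exact (caseTwo C hψ hψ').elim
  · exact (caseII_false hx hinv hG B).elim
  have hfive : ∀ y : G, orderOf y = 5 → Nat.card (centralizer ({y} : Set G)) = 5 ∧
      ∀ z ∈ zpowers y, z ≠ 1 → IsConj y z := fun y hy => five hG hy (caseI_odd hx hG B hy)
  obtain ⟨hC, hrat⟩ := hfive y hy
  choose w hw hw' using fun χ : IrrCharacter G => val_five hy hrat χ
  obtain ⟨q1, q2, q3, q4, q5, q6⟩ := caseI_five hx hG B (g := y) (by rw [hy]) (by rw [hy]; norm_num)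
  have w0 : w (L 0) = 1 := by
    have := hw (L 0); rw [B.one, oneIrr_apply] at this; rw [B.one]; exact_mod_cast this.symm
  have w1 : w (L 1) = 1 := by rw [hw] at q1; exact_mod_cast q1
  have w2 : w (L 2) = 1 := by rw [hw] at q2; exact_mod_cast q2
  have w3 : w (L 3) = 0 := by rw [hw] at q3; exact_mod_cast q3
  have w4 : w (L 4) = 0 := by rw [hw] at q4; exact_mod_cast q4
  have w5 : w (L 5) = 0 := by rw [hw] at q5; exact_mod_cast q5
  have w6 : w (L 6) = 0 := by rw [hw] at q6; exact_mod_cast q6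
  have hsq := Col.col_int hw hw
  rw [if_pos (IsConj.refl y), hC, sum_restZ B.inj, Fin.sum_univ_seven, w0, w1, w2, w3, w4, w5, w6] at hsq
  have hds := H75.sum_deg_sq (G := G)
  rw [hG, sum_restZ B.inj, Fin.sum_univ_seven] at hds
  simp only [B.deg, Matrix.cons_val] at hds
  obtain ⟨α, β, γ, nαβ, nαγ, nβγ, hS, dα, dβ, dγ, wα, wβ, wγ⟩ := rest_arith (restZ L) (fun χ => H75.deg χ) w
    (fun χ hχ => (B.rest χ (mem_restZ.mp hχ)).2.2) (fun χ _ => H75.deg_pos χ) (fun χ _ => hw' χ)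
    (by push_cast at hsq; linarith) (by omega)
  have hcard : Fintype.card (IrrCharacter G) = 10 := by
    have h1 := sum_restZ B.inj (fun _ => 1)
    rw [hS, Finset.sum_const, Finset.sum_const, Finset.sum_const, Finset.card_univ, Finset.card_univ,
      Finset.card_eq_three.mpr ⟨α, β, γ, nαβ, nαγ, nβγ, rfl⟩] at h1
    simpa using h1
  set K : Fin 10 → IrrCharacter G := ![L 0, L 1, L 2, L 3, L 4, L 5, L 6, α, β, γ] with hK
  have hsurj : Function.Surjective K := by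
    intro χ
    by_cases hχ : χ ∈ Set.range L
    · obtain ⟨i, rfl⟩ := hχ
      fin_cases i
      · exact ⟨0, rfl⟩
      · exact ⟨1, rfl⟩
      · exact ⟨2, rfl⟩
      · exact ⟨3, rfl⟩
      · exact ⟨4, rfl⟩
      · exact ⟨5, rfl⟩
      · exact ⟨6, rfl⟩
    · rw [← mem_restZ, hS] at hχ
      simp only [Finset.mem_insert, Finset.mem_singleton] at hχ
      rcases hχ with rfl | rfl | rfl
      · exact ⟨7, rfl⟩
      · exact ⟨8, rfl⟩
      · exact ⟨9, rfl⟩
  have hbij : Function.Bijective K := by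
    rw [Fintype.bijective_iff_surjective_and_card]
    exact ⟨hsurj, by rw [hcard]; simp⟩
  have hall : ∀ g : G, g ≠ 1 → orderOf g ≠ 5 → orderOf g ≠ 11 →
      (L 1 : G → ℂ) g = (L 2 : G → ℂ) g ∧
      (L 6 : G → ℂ) g = (L 2 : G → ℂ) g + (L 3 : G → ℂ) g + (L 4 : G → ℂ) g + (L 5 : G → ℂ) g - 1 ∧
      (β : G → ℂ) g = 1 + 2 * (L 2 : G → ℂ) g + (α : G → ℂ) g ∧
      (γ : G → ℂ) g = -(1 + (L 6 : G → ℂ) g + 2 * (L 2 : G → ℂ) g + (α : G → ℂ) g) := by
    intro g hg1 hg5 hg11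
    obtain ⟨n1, n2⟩ := not_isConj_of_order hx hg11
    obtain ⟨e1, e2⟩ := orth7 B n1 n2
    have hgy : ¬ IsConj g y := by
      intro hc
      obtain ⟨c, hc⟩ := isConj_iff.mp hc
      apply hg5
      rw [← hy, ← hc]
      exact (orderOf_injective (MulAut.conj c).toMonoidHom (MulAut.conj c).injective g).symm
    have e3 := column_orthogonality_of_not_isConj hgy
    simp only [hw, map_intCast] at e3
    rw [sum10 hbij] at e3
    have h0 : (L 0 : G → ℂ) g = 1 := by rw [B.one, oneIrr_apply]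
    have e4 := sum_degree_mul g
    rw [if_neg hg1, sum10 hbij] at e4
    simp only [H75.deg_spec] at e4
    rw [Fin.sum_univ_seven] at e1 e2
    simp only [hK, Matrix.cons_val, h0, w0, w1, w2, w3, w4, w5, w6, wα, wβ, wγ, B.deg, dα, dβ, dγ] at e1 e2 e3 e4
    push_cast at e1 e2 e3 e4
    have f1 : (L 1 : G → ℂ) g = (L 2 : G → ℂ) g := by linear_combination e2
    have f2 : (L 6 : G → ℂ) g = (L 2 : G → ℂ) g + (L 3 : G → ℂ) g + (L 4 : G → ℂ) g + (L 5 : G → ℂ) g - 1 := by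
      linear_combination e1
    have f3 : (β : G → ℂ) g = 1 + 2 * (L 2 : G → ℂ) g + (α : G → ℂ) g := by
      linear_combination -e3 + f1
    refine ⟨f1, f2, f3, ?_⟩
    linear_combination (1 / 55) * e4 - (16 / 55) * f1 + (10 / 55) * f2 - (44 / 55) * f3
  refine ⟨K, hbij, B.one, ?_, fun y hy => (hfive y hy).1, fun y hy => (hfive y hy).2, ⟨x, hx, ?_, ?_, ?_⟩,
    fun g h1 h2 h3 => (hall g h1 h2 h3).1,
    fun g h1 h2 h3 => (hall g h1 h2 h3).2.1, fun g h1 h2 h3 => (hall g h1 h2 h3).2.2.1,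
    fun g h1 h2 h3 => (hall g h1 h2 h3).2.2.2, ?_⟩
  · intro i
    fin_cases i
    · exact B.deg 0
    · exact B.deg 1
    · exact B.deg 2
    · exact B.deg 3
    · exact B.deg 4
    · exact B.deg 5
    · exact B.deg 6
    · exact dα
    · exact dβ
    · exact dγ
  · show (L 3 : G → ℂ) x = -1
    rw [h.val, B.aval, B.bval]; simp
  · show (L 4 : G → ℂ) x = -1
    rw [h.val, B.aval, B.bval]; simp
  · show (L 5 : G → ℂ) x = -1
    rw [h.val, B.aval, B.bval]; simp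
  · intro t ht
    obtain ⟨v, C⟩ := hicol t ht
    obtain ⟨v1, v2, v6, v345⟩ := caseI_vals C hG ht B
    have ht1 : t ≠ 1 := by rintro rfl; rw [orderOf_one] at ht; omega
    obtain ⟨-, -, f3, f4⟩ := hall t ht1 (by rw [ht]; norm_num) (by rw [ht]; norm_num)
    rw [C.val, C.val, C.val, v2] at f3
    rw [C.val, C.val, C.val, C.val, v2, v6] at f4
    have f3' : v β = 1 + v α := by
      have : v β = 1 + 2 * 0 + v α := by exact_mod_cast f3
      linarith
    have f4' : v γ = 2 - v α := by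
      have : v γ = -(1 + -3 + 2 * 0 + v α) := by exact_mod_cast f4
      linarith
    have hv0 : v (L 0) = 1 := by rw [B.one]; exact C.one
    have hsq := C.sq
    rw [sum10 hbij] at hsq
    simp only [hK, Matrix.cons_val, hv0, v1, v2, v6, f3', f4'] at hsq
    have hα1 : α ≠ oneIrr G := by
      intro hc
      have h1 := H75.deg_spec (oneIrr G)
      rw [oneIrr_apply, ← hc, dα] at h1
      norm_num at h1
    have hdv : (Nat.card (centralizer ({t} : Set G)) : ℤ) ∣ 7920 := by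
      have := card_subgroup_dvd_card (centralizer ({t} : Set G))
      rw [hG] at this
      exact_mod_cast this
    have hres := arith_inv (r := v α) (N := Nat.card (centralizer ({t} : Set G)))
      (by have := C.cong α; rw [dα] at this; exact_mod_cast this)
      (by have := C.lt α hα1; rw [dα] at this; exact_mod_cast this)
      (by rcases v345 with ⟨g1, g2, g3⟩ | ⟨g1, g2, g3⟩ | ⟨g1, g2, g3⟩ <;> rw [g1, g2, g3] at hsq <;> linarith) hdv
    refine ⟨by exact_mod_cast hres.2, ?_, ?_, ?_, ?_, ?_⟩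
    · show (L 1 : G → ℂ) t = 0
      rw [C.val, v1]; norm_num
    · show (L 2 : G → ℂ) t = 0
      rw [C.val, v2]; norm_num
    · show (L 6 : G → ℂ) t = -3
      rw [C.val, v6]; norm_num
    · show (α : G → ℂ) t = 3
      rw [C.val, hres.1]; norm_num
    · show (((L 3 : G → ℂ) t = 2 ∧ (L 4 : G → ℂ) t = -2 ∧ (L 5 : G → ℂ) t = -2) ∨
        ((L 3 : G → ℂ) t = -2 ∧ (L 4 : G → ℂ) t = 2 ∧ (L 5 : G → ℂ) t = -2) ∨
        ((L 3 : G → ℂ) t = -2 ∧ (L 4 : G → ℂ) t = -2 ∧ (L 5 : G → ℂ) t = 2))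
      rw [C.val, C.val, C.val]
      rcases v345 with ⟨g1, g2, g3⟩ | ⟨g1, g2, g3⟩ | ⟨g1, g2, g3⟩
      · left; rw [g1, g2, g3]; norm_num
      · right; left; rw [g1, g2, g3]; norm_num
      · right; right; rw [g1, g2, g3]; norm_num

end Cfsg.Agent.H67.M11
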