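import Cfsg.Agent.H67.M11.Gal

set_option autoImplicit false

/-!
# Simple groups of order 7920: elements of order three (helper67)
-/

namespace Cfsg.Agent.H67.M11

open Subgroup Cfsg Cfsg.Agent.CharBase
open scoped ComplexConjugate

universe u

/-- primitive cube root of unity -/
noncomputable def om : ℂ := ⟨-1 / 2, Real.sqrt 3 / 2⟩

theorem om_sq : om ^ 2 = -1 - om := by
  have h : Real.sqrt 3 * Real.sqrt 3 = 3 := Real.mul_self_sqrt (by norm_num)
  apply Complex.ext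
  · simp only [om, pow_two, Complex.mul_re, Complex.sub_re, Complex.neg_re, Complex.one_re]
    nlinarith
  · simp only [om, pow_two, Complex.mul_im, Complex.sub_im, Complex.neg_im, Complex.one_im]
    ring

theorem om_conj : conj om = -1 - om := by
  apply Complex.ext
  · simp only [om, Complex.conj_re, Complex.sub_re, Complex.neg_re, Complex.one_re]
    norm_num
  · simp only [om, Complex.conj_im, Complex.sub_im, Complex.neg_im, Complex.one_im]
    ring

theorem cube_sum (s : Multiset ℂ) (hs : ∀ ω ∈ s, ω ^ 3 = 1) : ∃ a b : ℤ, s.sum = a + b * om := by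
  induction s using Multiset.induction_on with
  | empty => exact ⟨0, 0, by simp⟩
  | cons ω s ih =>
    obtain ⟨a, b, hab⟩ := ih (fun z hz => hs z (Multiset.mem_cons_of_mem hz))
    have hω := hs ω (Multiset.mem_cons_self ω s)
    have h1 : (ω - 1) * ((ω - om) * (ω + 1 + om)) = 0 := by
      linear_combination hω - (ω - 1) * om_sq
    rw [Multiset.sum_cons, hab]
    rcases mul_eq_zero.mp h1 with h2 | h2
    · exact ⟨a + 1, b, by push_cast; linear_combination h2⟩
    · rcases mul_eq_zero.mp h2 with h3 | h3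
      · exact ⟨a, b + 1, by push_cast; linear_combination h3⟩
      · exact ⟨a - 1, b - 1, by push_cast; linear_combination h3⟩

section Group

variable {G : Type u} [Group G] [Finite G]

theorem nine_dvd (hG : Nat.card G = 7920) {s : G} (hs : orderOf s = 3) : 9 ∣ Nat.card (centralizer ({s} : Set G)) := by
  haveI : Fact (Nat.Prime 3) := ⟨by norm_num⟩
  have h1 : IsPGroup 3 (zpowers s) := IsPGroup.of_card (n := 1) (by rw [Nat.card_zpowers, hs, pow_one])
  obtain ⟨P, hP⟩ := h1.exists_le_sylow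
  have hcP : Nat.card (P : Subgroup G) = 3 ^ 2 := H17.card_sylow_eq (k := 2) (m := 880) P (by rw [hG]; norm_num) (by norm_num)
  haveI := IsPGroup.isMulCommutative_of_card_eq_prime_sq hcP
  have h2 : (P : Subgroup G) ≤ centralizer ({s} : Set G) := by
    intro z hz
    rw [mem_centralizer_singleton_iff]
    have hsP : s ∈ (P : Subgroup G) := hP (mem_zpowers s)
    exact congrArg Subtype.val (mul_comm' (⟨z, hz⟩ : (P : Subgroup G)) ⟨s, hsP⟩)
  have := card_dvd_of_le h2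
  rw [hcP] at this
  exact this

theorem real3 [Fintype (IrrCharacter G)] [IsSimpleGroup G] (hG : Nat.card G = 7920) {L : Fin 10 → IrrCharacter G}
    (T : T10' L) {s : G} (hs : orderOf s = 3) : IsConj s s⁻¹ := by
  by_contra hn
  haveI : Fact (Nat.Prime 2) := ⟨by norm_num⟩
  obtain ⟨t, ht⟩ := exists_prime_orderOf_dvd_card' (G := G) 2 (by rw [hG]; norm_num)
  have hs1 : s ≠ 1 := by rintro rfl; rw [orderOf_one] at hs; omega
  have e1 := column_orthogonality_of_not_isConj hn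
  simp only [irr_inv, Complex.conj_conj] at e1
  have e2 := column_orthogonality_of_isConj (IsConj.refl s)
  rw [sum10 T.bij] at e1 e2
  have r1 := T.r1 s hs1 (by rw [hs]; norm_num) (by rw [hs]; norm_num)
  obtain ⟨g1, g3, g45, g6, g7, g8, g9⟩ := T.gal_cases (starRingAut : ℂ ≃+* ℂ) ht
  have hval : ∀ χ : IrrCharacter G, (gal (starRingAut : ℂ ≃+* ℂ) χ : G → ℂ) s = conj ((χ : G → ℂ) s) := fun χ => rfl
  have c0 : conj ((L 0 : G → ℂ) s) = (L 0 : G → ℂ) s := by rw [T.one, oneIrr_apply, map_one]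
  have c1 : conj ((L 1 : G → ℂ) s) = (L 1 : G → ℂ) s := by
    rw [← hval]
    rcases g1 with h | h
    · rw [h]
    · rw [h, r1]
  have c2 : conj ((L 2 : G → ℂ) s) = (L 2 : G → ℂ) s := by rw [← r1, c1]
  have c3 : conj ((L 3 : G → ℂ) s) = (L 3 : G → ℂ) s := by rw [← hval, g3]
  have c6 : conj ((L 6 : G → ℂ) s) = (L 6 : G → ℂ) s := by rw [← hval, g6]
  have c7 : conj ((L 7 : G → ℂ) s) = (L 7 : G → ℂ) s := by rw [← hval, g7]
  have c8 : conj ((L 8 : G → ℂ) s) = (L 8 : G → ℂ) s := by rw [← hval, g8]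
  have c9 : conj ((L 9 : G → ℂ) s) = (L 9 : G → ℂ) s := by rw [← hval, g9]
  rw [c0, c1, c2, c3, c6, c7, c8, c9] at e2
  have hpos : (Nat.card (centralizer ({s} : Set G)) : ℂ) ≠ 0 := by exact_mod_cast Nat.card_pos.ne'
  rcases g45 with ⟨g4, g5⟩ | ⟨g4, g5⟩
  · have c4 : conj ((L 4 : G → ℂ) s) = (L 4 : G → ℂ) s := by rw [← hval, g4]
    have c5 : conj ((L 5 : G → ℂ) s) = (L 5 : G → ℂ) s := by rw [← hval, g5]
    rw [c4, c5] at e2
    apply hpos
    rw [← e2, e1]
  · have c4 : conj ((L 4 : G → ℂ) s) = (L 5 : G → ℂ) s := by rw [← hval, g4]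
    have c5 : conj ((L 5 : G → ℂ) s) = (L 4 : G → ℂ) s := by rw [← hval, g5]
    rw [c4, c5] at e2
    obtain ⟨m, -, hm2, hm3⟩ := Char.exists_roots_pow (irr_isCharacter (L 4)) s
    have hm1 := hm3 1
    rw [pow_one] at hm1
    simp only [pow_one, Multiset.map_id'] at hm1
    obtain ⟨a, b, hab⟩ := cube_sum m (fun ω hω => by have := hm2 ω hω; rwa [hs] at this)
    rw [hab] at hm1
    have hm5 : (L 5 : G → ℂ) s = a + b * (-1 - om) := by
      rw [← c4, hm1, map_add, map_mul, map_intCast, map_intCast, om_conj]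
    have e3 : (Nat.card (centralizer ({s} : Set G)) : ℂ) = 3 * (b : ℂ) * b := by
      have h4 : (Nat.card (centralizer ({s} : Set G)) : ℂ) = -((L 4 : G → ℂ) s - (L 5 : G → ℂ) s) ^ 2 := by
        linear_combination e1 - e2
      rw [h4, hm1, hm5]
      linear_combination -4 * (b : ℂ) ^ 2 * om_sq
    have e4 : (Nat.card (centralizer ({s} : Set G)) : ℤ) = 3 * b * b := by exact_mod_cast e3
    have h9 : (9 : ℤ) ∣ 3 * b * b := by
      rw [← e4]
      exact_mod_cast nine_dvd hG hs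
    have h3b : (3 : ℤ) ∣ b := by
      have h5 : (3 : ℤ) ∣ b * b := by
        obtain ⟨c, hc⟩ := h9
        exact ⟨c, by linarith⟩
      have h6 : Prime (3 : ℤ) := Int.prime_three
      rcases h6.dvd_or_dvd h5 with h | h <;> exact h
    obtain ⟨c, hc⟩ := h3b
    have h27 : (27 : ℤ) ∣ 7920 := by
      have h7 : (27 : ℤ) ∣ Nat.card (centralizer ({s} : Set G)) := by
        rw [e4, hc]
        exact ⟨c * c, by ring⟩
      apply h7.trans
      have := card_subgroup_dvd_card (centralizer ({s} : Set G))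
      rw [hG] at this
      exact_mod_cast this
    norm_num at h27

end Group

theorem arith3s : ∀ e ∈ ({-8, -5, -2, 1, 4, 7} : Finset ℤ), ∀ r ∈ ({-10, -7, -4, -1, 2, 5, 8, 11} : Finset ℤ),
    ∀ A ∈ ({-11, -8, -5, -2, 1, 4, 7, 10} : Finset ℤ), ∀ N ∈ ({9, 18, 36, 72, 144} : Finset ℤ),
    1 + 2 * (e * e) + (1 + 3 * e + 2 * r) * (1 + 3 * e + 2 * r) + A * A +
      (2 + 2 * e + 2 * r - A) * (2 + 2 * e + 2 * r - A) + r * r + 2 * ((1 + 2 * e + r) * (1 + 2 * e + r)) = N →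
    N = 18 ∨ ((A = -2 ∨ A = 4) ∧ ((N = 36 ∧ e = -2 ∧ r = 2) ∨ (N = 36 ∧ e = 1 ∧ r = -1) ∨
      (N = 144 ∧ e = -5 ∧ r = 5) ∨ (N = 144 ∧ e = 4 ∧ r = -4))) := by decide +kernel

theorem arith6 {R K : ℤ} {B1 B2 B3 : ℂ} {A1 A2 A3 r f : ℤ} (h1 : B1 = -1 - 2 * R) (h2 : B2 + B3 = 2 + 2 * R)
    (h3 : 1 + A1 * B1 + A2 * B2 + A3 * B3 + r * R + 2 * f * (1 + R) = 0)
    (hK : 1 + B1 * conj B1 + B2 * conj B2 + B3 * conj B3 + R * R + 2 * (1 + R) * (1 + R) = (K : ℂ))
    (hA2 : A2 = -2) (hA3 : A3 = 4)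
    (hc : (K = 12 ∧ A1 = 1 ∧ r = 2 ∧ f = -1) ∨ (K = 12 ∧ A1 = -2 ∧ r = -1 ∧ f = 2) ∨
      (K = 48 ∧ A1 = 4 ∧ r = 5 ∧ f = -4) ∨ (K = 48 ∧ A1 = -5 ∧ r = -4 ∧ f = 5)) : False := by
  have key : ∀ c2 c3 : ℤ, 2 * B2 = c2 * (1 + R) → 2 * B3 = c3 * (1 + R) →
      4 + 4 * ((1 + 2 * R) * (1 + 2 * R)) + (c2 * c2 + c3 * c3) * ((1 + R) * (1 + R)) + 4 * (R * R) + 8 * ((1 + R) * (1 + R)) = 4 * K := by
    intro c2 c3 k2 k3
    have k2' := congrArg (starRingEnd ℂ) k2
    have k3' := congrArg (starRingEnd ℂ) k3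
    simp only [map_mul, map_add, map_intCast, map_ofNat, map_one] at k2' k3'
    have hB1 : conj B1 = -1 - 2 * (R : ℂ) := by
      rw [h1]; simp only [map_sub, map_neg, map_mul, map_intCast, map_ofNat, map_one]
    rw [hB1, h1] at hK
    have h4 : (((4 + 4 * ((1 + 2 * R) * (1 + 2 * R)) + (c2 * c2 + c3 * c3) * ((1 + R) * (1 + R)) + 4 * (R * R) +
        8 * ((1 + R) * (1 + R)) : ℤ)) : ℂ) = ((4 * K : ℤ) : ℂ) := by
      push_cast
      linear_combination 4 * hK - (2 * conj B2) * k2 - (2 * conj B3) * k3 - c2 * (1 + R) * k2' - c3 * (1 + R) * k3'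
    exact_mod_cast h4
  subst hA2 hA3
  rw [h1] at h3
  rcases hc with ⟨rfl, rfl, rfl, rfl⟩ | ⟨rfl, rfl, rfl, rfl⟩ | ⟨rfl, rfl, rfl, rfl⟩ | ⟨rfl, rfl, rfl, rfl⟩
  · have := key 2 2 (by push_cast at h3 ⊢; linear_combination (4 / 3) * h2 - (1 / 3) * h3)
      (by push_cast at h3 ⊢; linear_combination (2 / 3) * h2 + (1 / 3) * h3)
    have b1 : R ≤ 3 := by nlinarith
    have b2 : -4 ≤ R := by nlinarith
    interval_cases R <;> omega
  · have := key 5 (-1) (by push_cast at h3 ⊢; linear_combination (4 / 3) * h2 - (1 / 3) * h3)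
      (by push_cast at h3 ⊢; linear_combination (2 / 3) * h2 + (1 / 3) * h3)
    have b1 : R ≤ 3 := by nlinarith
    have b2 : -4 ≤ R := by nlinarith
    interval_cases R <;> omega
  · have := key (-1) 5 (by push_cast at h3 ⊢; linear_combination (4 / 3) * h2 - (1 / 3) * h3)
      (by push_cast at h3 ⊢; linear_combination (2 / 3) * h2 + (1 / 3) * h3)
    have b1 : R ≤ 3 := by nlinarith
    have b2 : -4 ≤ R := by nlinarith
    interval_cases R <;> omega
  · have := key 8 (-4) (by push_cast at h3 ⊢; linear_combination (4 / 3) * h2 - (1 / 3) * h3)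
      (by push_cast at h3 ⊢; linear_combination (2 / 3) * h2 + (1 / 3) * h3)
    have b1 : R ≤ 3 := by nlinarith
    have b2 : -4 ≤ R := by nlinarith
    interval_cases R <;> omega

end Cfsg.Agent.H67.M11
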