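import Cfsg.Agent.H67.M11.XYW

set_option autoImplicit false

/-!
# Simple groups of order 7920: the action on twelve points (helper67)
-/

namespace Cfsg.Agent.H67.M11

open Subgroup Cfsg Cfsg.Agent.CharBase

universe u v

def fX : Fin 12 → Fin 12 := ![1, 2, 3, 4, 5, 6, 7, 8, 9, 10, 0, 11]

def fY : Fin 12 → Fin 12 := ![0, 3, 6, 9, 1, 4, 7, 10, 2, 5, 8, 11]

def fN : Fin 12 → Fin 12 := ![0, 10, 9, 8, 7, 6, 5, 4, 3, 2, 1, 11]

def fW (c d : Fin 12) : Fin 12 → Fin 12 :=
  ![11, c, d, fY (fY c), fY (fY (fY c)), fY c, fY (fY d), fY (fY (fY (fY d))), fY (fY (fY d)), fY (fY (fY (fY c))), fY d, 0]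

/-- a function on twelve points which cannot come from an element of a simple group of order 7920 -/
def bad (A : Fin 12 → Fin 12) : Prop :=
  (∃ i, A^[7] i = i ∧ A i ≠ i) ∨ ((∃ i, A^[20] i = i ∧ A^[4] i ≠ i) ∧ ∃ j, A^[20] j = j ∧ A^[5] j ≠ j)

instance (A : Fin 12 → Fin 12) : Decidable (bad A) := by unfold bad; infer_instance

theorem candidates : ∀ c d : Fin 12, (c = 1 ∨ c = 2) → (∃ i j, i ≠ j ∧ fW c d i = fW c d j) ∨ (c = 2 ∧ d = 4) ∨ (c = 2 ∧ d = 5) ∨
    bad (fun i => fW c d (fY (fX i))) ∨ bad (fun i => fW c d (fX i)) ∨ bad (fun i => fW c d (fY (fY (fX i)))) ∨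
    bad (fun i => fW c d (fX (fX i))) := by decide +kernel

theorem twist_eq : ∀ c d i : Fin 12, fW c d (fY i) = fW (fY (fY c)) (fY (fY d)) i := by decide +kernel

theorem neg_eq : ∀ c d i : Fin 12, fN (fW c d (fN i)) = fW (fN (fW c d 10)) (fN (fW c d 9)) i := by decide +kernel

theorem neg_inv : ∀ i : Fin 12, fN (fN i) = i := by decide

theorem neg_X : ∀ i : Fin 12, fN (fX (fN (fX i))) = i := by decide

theorem neg_Y : ∀ i : Fin 12, fN (fY (fN i)) = fY i := by decide

theorem Y_fix : ∀ k : Fin 12, fY (fY k) = k → k = 0 ∨ k = 11 := by decide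

variable {G : Type u} [Group G] [Finite G]

theorem order_four (hL : Loc G) {y w : G} (hy : orderOf y = 5) (hw : w * y * w⁻¹ = y ^ 2) : orderOf w = 4 := by
  haveI : Fact (Nat.Prime 5) := ⟨by norm_num⟩
  have hw4 : w ^ 4 = 1 := by
    have h1 := conj_pow_iter hw 4
    have h2 : y ^ 2 ^ 4 = y ^ 1 := by rw [pow_inj_mod, hy]; norm_num
    rw [h2, pow_one] at h1
    have h3 : w ^ 4 ∈ zpowers y := eq_zpowers_of_card hy (hL.c5 y hy) (mul_inv_eq_iff_eq_mul.mp h1)
    exact pow_mem_eq_one hy (by norm_num) hw h3 (by rw [← pow_succ, ← pow_succ'])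
  have hw2 : w ^ 2 ≠ 1 := by
    intro h
    have h1 := conj_pow_iter hw 2
    rw [h, one_mul, inv_one, mul_one] at h1
    have h2 : y ^ 1 = y ^ 2 ^ 2 := by rw [pow_one]; exact h1
    rw [pow_inj_mod, hy] at h2
    norm_num at h2
  have h1 : orderOf w ∣ 4 := orderOf_dvd_of_pow_eq_one hw4
  have h2 : ¬ orderOf w ∣ 2 := fun h => hw2 (orderOf_dvd_iff_pow_eq_one.mp h)
  have h3 : ∀ d ∈ Nat.divisors 4, ¬ d ∣ 2 → d = 4 := by decide +kernel
  exact h3 _ (Nat.mem_divisors.mpr ⟨h1, by norm_num⟩) h2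

variable {Ω : Type v} [MulAction G Ω]

structure Real12 (x y w : G) (f : Fin 12 → Ω) (c d : Fin 12) : Prop where
  xyw : XYW x y w
  bij : Function.Bijective f
  fx : ∀ i, x • f i = f (fX i)
  fy : ∀ i, y • f i = f (fY i)
  fw : ∀ i, w • f i = f (fW c d i)

omit [Finite G] in
theorem iter_act {f : Fin 12 → Ω} {A : Fin 12 → Fin 12} {g : G} (h : ∀ i, g • f i = f (A i)) (n : ℕ) (i : Fin 12) :
    g ^ n • f i = f (A^[n] i) := by
  induction n generalizing i with
  | zero => simp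
  | succ n ih => rw [pow_succ, mul_smul, h, ih, Function.iterate_succ_apply]

theorem smul_of_coprime {g : G} {ω : Ω} {n : ℕ} (hn : (orderOf g).Coprime n) (h : g ^ n • ω = ω) : g • ω = ω := by
  have h1 : g ∈ zpowers (g ^ n) := by
    rw [mem_zpowers_pow_iff]
    exact hn.symm
  have h2 : zpowers (g ^ n) ≤ MulAction.stabilizer G ω := by rw [zpowers_le]; exact h
  exact h2 h1

theorem not_bad (hL : Loc G) {f : Fin 12 → Ω} (hf : Function.Injective f) {A : Fin 12 → Fin 12} {g : G}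
    (h : ∀ i, g • f i = f (A i)) : ¬ bad A := by
  have hdvd : orderOf g ∣ 7920 := hL.card ▸ orderOf_dvd_natCard g
  rintro (⟨i, h1, h2⟩ | ⟨⟨i, h1, h2⟩, ⟨j, h3, h4⟩⟩)
  · apply h2
    apply hf
    rw [← h]
    apply smul_of_coprime (n := 7)
    · rw [Nat.coprime_comm, Nat.Prime.coprime_iff_not_dvd (by norm_num)]
      intro h3
      exact absurd (h3.trans hdvd) (by norm_num)
    · rw [iter_act h, h1]
  · haveI : Fact (Nat.Prime 5) := ⟨by norm_num⟩
    have h5 : 5 ∣ orderOf g := by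
      by_contra hn
      apply h2
      apply hf
      rw [← iter_act h]
      apply smul_of_coprime (n := 5)
      · rw [Nat.coprime_comm, Nat.Prime.coprime_iff_not_dvd (by norm_num)]
        intro h5
        exact hn (h5.trans (orderOf_pow_dvd 4))
      · rw [← pow_mul, iter_act h, h1]
    have h6 : 2 ∣ orderOf g := by
      by_contra hn
      apply h4
      apply hf
      rw [← iter_act h]
      apply smul_of_coprime (n := 4)
      · rw [Nat.coprime_comm, show (4 : ℕ) = 2 ^ 2 by norm_num]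
        apply Nat.Coprime.pow_left
        rw [Nat.Prime.coprime_iff_not_dvd (by norm_num)]
        intro h5
        exact hn (h5.trans (orderOf_pow_dvd 5))
      · rw [← pow_mul, iter_act h, h3]
    obtain ⟨m, hm⟩ := h5
    have hm0 : m ≠ 0 := by
      rintro rfl
      have := orderOf_pos g
      omega
    have h7 : orderOf (g ^ m) = 5 := by
      rw [orderOf_pow, hm, Nat.gcd_mul_left_left, Nat.mul_div_cancel _ (Nat.pos_of_ne_zero hm0)]
    have h8 : g ∈ centralizer ({g ^ m} : Set G) := by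
      rw [mem_centralizer_singleton_iff, ← pow_succ, ← pow_succ']
    have h9 : orderOf g ∣ 5 := by
      have := orderOf_dvd_natCard (⟨g, h8⟩ : centralizer ({g ^ m} : Set G))
      rwa [Subgroup.orderOf_mk, hL.c5 _ h7] at this
    have := h6.trans h9
    norm_num at this

theorem XYW.twist (hL : Loc G) {x y w : G} (h : XYW x y w) : XYW x y (w * y) := by
  have h1 : (w * y) * y * (w * y)⁻¹ = y ^ 2 := by rw [← h.hwy]; group
  exact ⟨h.hx, h.hy, h.hyx, h1, order_four hL h.hy h1⟩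

theorem Real12.twist (hL : Loc G) {x y w : G} {f : Fin 12 → Ω} {c d : Fin 12} (h : Real12 x y w f c d) :
    Real12 x y (w * y) f (fY (fY c)) (fY (fY d)) :=
  ⟨h.xyw.twist hL, h.bij, h.fx, h.fy, fun i => by rw [mul_smul, h.fy, h.fw, twist_eq]⟩

theorem Real12.neg {x y w : G} {f : Fin 12 → Ω} {c d : Fin 12} (h : Real12 x y w f c d) :
    Real12 x⁻¹ y w (fun i => f (fN i)) (fN (fW c d 10)) (fN (fW c d 9)) := by
  have hNb : Function.Bijective fN := ⟨fun i j hij => by rw [← neg_inv i, hij, neg_inv], fun i => ⟨fN i, neg_inv i⟩⟩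
  refine ⟨⟨by rw [orderOf_inv]; exact h.xyw.hx, h.xyw.hy, ?_, h.xyw.hwy, h.xyw.hw⟩, h.bij.comp hNb, ?_, ?_, ?_⟩
  · rw [← conj_inv, h.xyw.hyx, inv_pow]
  · intro i
    rw [inv_smul_eq_iff, h.fx]
    congr 1
    have h1 := neg_X i
    rw [← neg_inv (fX (fN (fX i))), h1]
  · intro i
    show y • f (fN i) = f (fN (fY i))
    rw [h.fy]
    congr 1
    rw [← neg_Y, neg_inv]
  · intro i
    show w • f (fN i) = f (fN _)
    rw [h.fw]
    congr 1
    rw [← neg_eq, neg_inv]

end Cfsg.Agent.H67.M11
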