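import Cfsg.Agent.H67.M11.Twelve

set_option autoImplicit false

/-!
# Simple groups of order 7920: identification on twelve points (helper67)
-/

namespace Cfsg.Agent.H67.M11

open Subgroup Cfsg Cfsg.Agent.CharBase

universe u v

variable {G : Type u} [Group G] [Finite G] {Ω : Type v} [MulAction G Ω]

theorem card_fixedBy_mod [Finite Ω] {p : ℕ} [hp : Fact p.Prime] {x : G} (hx : orderOf x = p) :
    Nat.card Ω ≡ Nat.card (MulAction.fixedBy Ω x) [MOD p] := by
  have h := fixed_mod_prime (Ω := Ω) hx (z := 1) (by simp) (fun ω _ => one_smul G ω)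
  have h2 : Nat.card (MulAction.fixedBy Ω (1 : G)) = Nat.card Ω := by
    rw [MulAction.fixedBy_one_eq_univ, Nat.card_coe_set_eq, Set.ncard_univ]
  rwa [h2] at h

theorem exists_real12_aux [MulAction.IsPretransitive G Ω] [Finite Ω] (hL : Loc G) (h12 : Nat.card Ω = 12)
    (hfaith : ∀ g : G, (∀ ω : Ω, g • ω = ω) → g = 1) {x y w : G} (h : XYW x y w) :
    ∃ (f : Fin 12 → Ω) (c d : Fin 12), Real12 x y w f c d := by
  classical
  haveI : Fact (Nat.Prime 11) := ⟨by norm_num⟩
  haveI : Fact (Nat.Prime 5) := ⟨by norm_num⟩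
  -- the fixed point of x
  have h1 := card_fixedBy_mod (Ω := Ω) h.hx
  rw [h12] at h1
  have hle : ∀ g : G, Nat.card (MulAction.fixedBy Ω g) ≤ 12 := fun g => by
    rw [← h12]; exact Nat.card_le_card_of_injective Subtype.val Subtype.val_injective
  have hx1 : Nat.card (MulAction.fixedBy Ω x) = 1 := by
    by_contra hne
    have h2 := hle x
    have h3 : Nat.card (MulAction.fixedBy Ω x) = 12 := by
      unfold Nat.ModEq at h1
      omega
    have h4 : MulAction.fixedBy Ω x = Set.univ := by
      apply Set.eq_of_subset_of_ncard_le (Set.subset_univ _) _ (Set.toFinite _)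
      rw [Set.ncard_univ, h12, ← Nat.card_coe_set_eq, h3]
    have h5 : x = 1 := hfaith x fun ω => by
      have : ω ∈ MulAction.fixedBy Ω x := by rw [h4]; trivial
      exact this
    have := h.hx
    rw [h5, orderOf_one] at this
    omega
  obtain ⟨hsub, ⟨⟨p, hp⟩⟩⟩ := Nat.card_eq_one_iff_unique.mp hx1
  have hpx : x • p = p := hp
  have huniq : ∀ ω : Ω, x • ω = ω → ω = p := fun ω hω =>
    congrArg Subtype.val (hsub.elim (⟨ω, hω⟩ : MulAction.fixedBy Ω x) ⟨p, hp⟩)
  have hx11 : x ^ 11 = 1 := by rw [← h.hx, pow_orderOf_eq_one]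
  have hxp : ∀ n : ℕ, x ^ n • p = p := by
    intro n
    induction n with
    | zero => simp
    | succ n ih => rw [pow_succ, mul_smul, hpx, ih]
  -- y fixes p
  have hconj : ∀ n : ℕ, y * x ^ n = x ^ (3 * n) * y := by
    intro n
    rw [pow_mul, ← h.hyx, conj_pow]; group
  have hpy : y • p = p := by
    apply huniq
    have h2 : x * y = y * x ^ 4 := by
      rw [hconj 4]
      have : x ^ (3 * 4) = x := by rw [show 3 * 4 = 11 + 1 by norm_num, pow_succ, hx11, one_mul]
      rw [this]
    rw [← mul_smul, h2, mul_smul, hxp]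
  -- another fixed point of y
  obtain ⟨o, hoy, hop⟩ : ∃ o : Ω, y • o = o ∧ o ≠ p := by
    by_contra hcon
    push Not at hcon
    have h2 := card_fixedBy_mod (Ω := Ω) h.hy
    rw [h12] at h2
    have h3 : Nat.card (MulAction.fixedBy Ω y) = 1 := by
      rw [Nat.card_eq_one_iff_unique]
      refine ⟨⟨fun a b => Subtype.ext ((hcon a a.2).trans (hcon b b.2).symm)⟩, ⟨⟨p, hpy⟩⟩⟩
    rw [h3] at h2
    exact absurd h2 (by decide)
  have hox : x • o ≠ o := fun h2 => hop (huniq o h2)
  have hfree : ∀ n : ℕ, ¬ 11 ∣ n → x ^ n • o ≠ o := by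
    intro n hn h2
    apply hox
    apply smul_of_coprime (n := n) _ h2
    rw [h.hx, Nat.Prime.coprime_iff_not_dvd (by norm_num)]
    exact hn
  set f : Fin 12 → Ω := fun i => if (i : ℕ) = 11 then p else x ^ (i : ℕ) • o with hf
  have hinj : Function.Injective f := by
    have key : ∀ i j : Fin 12, (i : ℕ) < j → f i ≠ f j := by
      intro i j hij heq
      have hi : (i : ℕ) ≠ 11 := by omega
      simp only [hf] at heq
      rw [if_neg hi] at heq
      split_ifs at heq with hj
      · apply hop
        have h2 : x ^ (i : ℕ) • o = x ^ (i : ℕ) • p := by rw [hxp]; exact heq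
        exact smul_left_cancel _ h2
      · have h2 : x ^ ((j : ℕ) - i) • o = o := by
          have h3 : x ^ (i : ℕ) • x ^ ((j : ℕ) - i) • o = x ^ (i : ℕ) • o := by
            rw [← mul_smul, ← pow_add, Nat.add_sub_cancel' hij.le]; exact heq.symm
          exact smul_left_cancel _ h3
        apply hfree _ _ h2
        intro h3
        have := Nat.le_of_dvd (by omega) h3
        omega
    intro i j hij
    by_contra hne
    rcases lt_or_gt_of_ne (fun h2 : (i : ℕ) = j => hne (Fin.ext h2)) with h2 | h2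
    · exact key i j h2 hij
    · exact key j i h2 hij.symm
  haveI := Fintype.ofFinite Ω
  have hbij : Function.Bijective f := by
    rw [Fintype.bijective_iff_injective_and_card]
    refine ⟨hinj, ?_⟩
    rw [Fintype.card_fin, ← Nat.card_eq_fintype_card, h12]
  have f11 : f 11 = p := rfl
  have hfx : ∀ i, x • f i = f (fX i) := by
    intro i
    fin_cases i
    · show x • x ^ 0 • o = x ^ 1 • o
      rw [← mul_smul, ← pow_succ']
    · show x • x ^ 1 • o = x ^ 2 • o
      rw [← mul_smul, ← pow_succ']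
    · show x • x ^ 2 • o = x ^ 3 • o
      rw [← mul_smul, ← pow_succ']
    · show x • x ^ 3 • o = x ^ 4 • o
      rw [← mul_smul, ← pow_succ']
    · show x • x ^ 4 • o = x ^ 5 • o
      rw [← mul_smul, ← pow_succ']
    · show x • x ^ 5 • o = x ^ 6 • o
      rw [← mul_smul, ← pow_succ']
    · show x • x ^ 6 • o = x ^ 7 • o
      rw [← mul_smul, ← pow_succ']
    · show x • x ^ 7 • o = x ^ 8 • o
      rw [← mul_smul, ← pow_succ']
    · show x • x ^ 8 • o = x ^ 9 • o
      rw [← mul_smul, ← pow_succ']
    · show x • x ^ 9 • o = x ^ 10 • o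
      rw [← mul_smul, ← pow_succ']
    · show x • x ^ 10 • o = x ^ 0 • o
      rw [← mul_smul, ← pow_succ', hx11, pow_zero]
    · exact hpx
  have hfy : ∀ i, y • f i = f (fY i) := by
    have key : ∀ (n m : ℕ), x ^ (3 * n) = x ^ m → y • x ^ n • o = x ^ m • o := by
      intro n m hnm
      rw [← mul_smul, hconj, mul_smul, hoy, hnm]
    have hmod : ∀ a b : ℕ, a % 11 = b % 11 → x ^ a = x ^ b := by
      intro a b hab
      rw [pow_inj_mod, h.hx]; exact hab
    intro i
    fin_cases i
    · exact key 0 0 (hmod _ _ (by norm_num))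
    · exact key 1 3 (hmod _ _ (by norm_num))
    · exact key 2 6 (hmod _ _ (by norm_num))
    · exact key 3 9 (hmod _ _ (by norm_num))
    · exact key 4 1 (hmod _ _ (by norm_num))
    · exact key 5 4 (hmod _ _ (by norm_num))
    · exact key 6 7 (hmod _ _ (by norm_num))
    · exact key 7 10 (hmod _ _ (by norm_num))
    · exact key 8 2 (hmod _ _ (by norm_num))
    · exact key 9 5 (hmod _ _ (by norm_num))
    · exact key 10 8 (hmod _ _ (by norm_num))
    · exact hpy
  -- w
  have hwy : ∀ i k : Fin 12, w • f i = f k → w • f (fY i) = f (fY (fY k)) := by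
    intro i k hik
    have h2 : w * y = y * (y * w) := by
      have : w * y = y ^ 2 * w := mul_inv_eq_iff_eq_mul.mp h.hwy
      rw [this, pow_two, mul_assoc]
    rw [← hfy, ← mul_smul, h2, mul_smul, mul_smul, hik, hfy, hfy]
  obtain ⟨a, ha⟩ := hbij.2 (w • f 11)
  obtain ⟨b, hb⟩ := hbij.2 (w • f 0)
  obtain ⟨c, hc⟩ := hbij.2 (w • f 1)
  obtain ⟨d, hd⟩ := hbij.2 (w • f 2)
  have ha' : fY (fY a) = a := by
    apply hinj
    rw [← hwy 11 a ha.symm, ha]; rfl
  have hb' : fY (fY b) = b := by
    apply hinj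
    rw [← hwy 0 b hb.symm, hb]; rfl
  have ha0 : a = 0 := by
    rcases Y_fix a ha' with h2 | h2
    · exact h2
    · exfalso
      rw [h2, f11] at ha
      have hst : Nat.card (MulAction.stabilizer G p) = 660 := by
        have h3 := MulAction.index_stabilizer_of_transitive G p
        have h4 := Subgroup.card_mul_index (MulAction.stabilizer G p)
        rw [h3, h12, hL.card] at h4
        omega
      exact h.no660 hL hst hpy ha.symm
  have hb0 : b = 11 := by
    rcases Y_fix b hb' with h2 | h2
    · exfalso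
      have h3 : f 0 = f 11 := by
        apply smul_left_cancel w
        rw [← ha, ← hb, ha0, h2]
      exact absurd (hinj h3) (by decide)
    · exact h2
  rw [ha0] at ha
  rw [hb0] at hb
  refine ⟨f, c, d, h, hbij, hfx, hfy, ?_⟩
  have w1 := hc.symm
  have w3 := hwy _ _ w1
  have w9 := hwy _ _ w3
  have w5 := hwy _ _ w9
  have w4 := hwy _ _ w5
  have w2 := hd.symm
  have w6 := hwy _ _ w2
  have w7 := hwy _ _ w6
  have w10 := hwy _ _ w7
  have w8 := hwy _ _ w10
  have hY5 : ∀ k : Fin 12, fY (fY (fY (fY (fY k)))) = k := by decide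
  rw [hY5] at w5 w10 w4 w8
  have e5 : w • f 5 = f (fY c) := w5
  have e4 : w • f 4 = f (fY (fY (fY c))) := w4
  have e10 : w • f 10 = f (fY d) := w10
  have e8 : w • f 8 = f (fY (fY (fY d))) := w8
  intro i
  fin_cases i
  · exact hb.symm
  · exact w1
  · exact w2
  · exact w3
  · exact e4
  · exact e5
  · exact w6
  · exact w7
  · exact e8
  · exact w9
  · exact e10
  · exact ha.symm

end Cfsg.Agent.H67.M11
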