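import Cfsg.Agent.H67.M11.Conj3

set_option autoImplicit false

/-!
# Simple groups of order 7920 are not (2,3)-generated; a (2,3,11)-triple (helper67)
-/

namespace Cfsg.Agent.H67.M11

open Subgroup Cfsg Cfsg.Agent.CharBase
open scoped ComplexConjugate

universe u

section Rep

variable {G : Type u} [Group G] {V : Type*} [AddCommGroup V] [Module ℂ V] [FiniteDimensional ℂ V]

/-- fixed space of one element -/
noncomputable def fixSp (ρ : Representation ℂ G V) (g : G) : Submodule ℂ V := LinearMap.ker (ρ g - 1)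

omit [FiniteDimensional ℂ V] in
theorem mem_fixSp {ρ : Representation ℂ G V} {g : G} {w : V} : w ∈ fixSp ρ g ↔ ρ g w = w := by
  unfold fixSp
  rw [LinearMap.mem_ker, LinearMap.sub_apply, Module.End.one_apply, sub_eq_zero]

theorem finrank_fixSp (ρ : Representation ℂ G V) {g : G} {n : ℕ} (hn : n ≠ 0) (hg : g ^ n = 1) :
    (n : ℂ) * Module.finrank ℂ (fixSp ρ g) = ∑ k ∈ Finset.range n, ρ.character (g ^ k) := by
  have hn' : (n : ℂ) ≠ 0 := by exact_mod_cast hn
  set p : V →ₗ[ℂ] V := (n : ℂ)⁻¹ • ∑ k ∈ Finset.range n, (ρ g) ^ k with hp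
  have hproj : LinearMap.IsProj (fixSp ρ g) p := by
    constructor
    · intro w
      unfold fixSp
      rw [LinearMap.mem_ker, hp, LinearMap.smul_apply, map_smul]
      have h1 : (ρ g - 1) * (∑ k ∈ Finset.range n, (ρ g) ^ k) = 0 := by
        rw [mul_geom_sum, ← map_pow, hg, map_one, sub_self]
      have h2 := congrArg (fun f : Module.End ℂ V => f w) h1
      simp only [Module.End.mul_apply, LinearMap.zero_apply] at h2
      rw [h2, smul_zero]
    · intro w hw
      rw [mem_fixSp] at hw
      have h1 : ∀ k : ℕ, ((ρ g) ^ k) w = w := by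
        intro k
        induction k with
        | zero => simp
        | succ k ih => rw [pow_succ, Module.End.mul_apply, hw, ih]
      rw [hp, LinearMap.smul_apply, LinearMap.sum_apply, Finset.sum_congr rfl (fun k _ => h1 k), Finset.sum_const,
        Finset.card_range, ← Nat.cast_smul_eq_nsmul ℂ, smul_smul, inv_mul_cancel₀ hn', one_smul]
  have htr := hproj.trace
  rw [← htr, hp, map_smul, map_sum, smul_eq_mul, ← mul_assoc, mul_inv_cancel₀ hn', one_mul]
  refine Finset.sum_congr rfl fun k _ => ?_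
  rw [← map_pow]
  rfl

theorem inv_eq_zero [Finite G] (ρ : Representation ℂ G V) (h : ∀ [Fintype G], ∑ g : G, ρ.character g = 0) {w : V}
    (hw : ∀ g : G, ρ g w = w) : w = 0 := by
  haveI := Fintype.ofFinite G
  have hn' : (Fintype.card G : ℂ) ≠ 0 := by exact_mod_cast Fintype.card_ne_zero
  set p : V →ₗ[ℂ] V := (Fintype.card G : ℂ)⁻¹ • ∑ g : G, ρ g with hp
  have hproj : LinearMap.IsProj ρ.invariants p := by
    constructor
    · intro w g
      rw [hp, LinearMap.smul_apply, map_smul, LinearMap.sum_apply, map_sum]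
      congr 1
      rw [← Equiv.sum_comp (Equiv.mulLeft g) (fun x => (ρ x) w)]
      refine Finset.sum_congr rfl fun x _ => ?_
      rw [Equiv.coe_mulLeft, map_mul]
      rfl
    · intro w hw
      rw [hp, LinearMap.smul_apply, LinearMap.sum_apply, Finset.sum_congr rfl (fun g _ => hw g), Finset.sum_const,
        Finset.card_univ, ← Nat.cast_smul_eq_nsmul ℂ, smul_smul, inv_mul_cancel₀ hn', one_smul]
  have htr := hproj.trace
  have h0 : LinearMap.trace ℂ V p = 0 := by
    rw [hp, map_smul, map_sum]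
    have : ∑ g : G, (LinearMap.trace ℂ V) (ρ g) = 0 := h
    rw [this, smul_zero]
  rw [h0] at htr
  have h1 : Module.finrank ℂ ρ.invariants = 0 := by exact_mod_cast htr.symm
  have h2 : ρ.invariants = ⊥ := Submodule.finrank_eq_zero.mp h1
  have h3 : w ∈ ρ.invariants := hw
  rw [h2] at h3
  exact (Submodule.mem_bot ℂ).mp h3

omit [FiniteDimensional ℂ V] in
/-- stabilizer of a vector -/
def stabVec (ρ : Representation ℂ G V) (w : V) : Subgroup G where
  carrier := {g | ρ g w = w}
  one_mem' := by simp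
  mul_mem' := by
    intro a b ha hb
    have ha' : ρ a w = w := ha
    have hb' : ρ b w = w := hb
    show ρ (a * b) w = w
    rw [map_mul, Module.End.mul_apply, hb', ha']
  inv_mem' := by
    intro a ha
    have ha' : ρ a w = w := ha
    show ρ a⁻¹ w = w
    nth_rw 1 [← ha']
    rw [← Module.End.mul_apply, ← map_mul, inv_mul_cancel, map_one, Module.End.one_apply]

/-- two elements with large fixed spaces generate a proper subgroup -/
theorem closure_ne_top [Finite G] (ρ : Representation ℂ G V) (h : ∀ [Fintype G], ∑ g : G, ρ.character g = 0) {u v : G}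
    (hd : Module.finrank ℂ V < Module.finrank ℂ (fixSp ρ u) + Module.finrank ℂ (fixSp ρ v)) :
    closure ({u, v} : Set G) ≠ ⊤ := by
  intro htop
  have h1 := Submodule.finrank_sup_add_finrank_inf_eq (fixSp ρ u) (fixSp ρ v)
  have h2 := Submodule.finrank_le (fixSp ρ u ⊔ fixSp ρ v)
  have h3 : fixSp ρ u ⊓ fixSp ρ v ≠ ⊥ := by
    intro h4
    rw [h4, finrank_bot] at h1
    omega
  obtain ⟨w, hw, hw0⟩ := Submodule.exists_mem_ne_zero_of_ne_bot h3
  apply hw0
  apply inv_eq_zero ρ h
  have hle : closure ({u, v} : Set G) ≤ stabVec ρ w := by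
    rw [closure_le]
    intro g hg
    rcases hg with rfl | hg
    · exact mem_fixSp.mp hw.1
    · rw [Set.mem_singleton_iff] at hg
      subst hg
      exact mem_fixSp.mp hw.2
  intro g
  have : g ∈ closure ({u, v} : Set G) := by rw [htop]; trivial
  exact hle this

end Rep

variable {G : Type u} [Group G] [Finite G]

theorem sum_irr_eq_zero {χ : IrrCharacter G} (hχ : χ ≠ oneIrr G) [Fintype G] : ∑ g : G, (χ : G → ℂ) g = 0 := by
  have h := classInner_irr_of_ne hχ
  unfold classInner at h
  simp only [oneIrr_apply, map_one, mul_one] at h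
  have hn' : (Nat.card G : ℂ) ≠ 0 := by exact_mod_cast Nat.card_pos.ne'
  exact (mul_eq_zero.mp h).resolve_left (inv_ne_zero hn')

theorem not_two_three [Fintype (IrrCharacter G)] [IsSimpleGroup G] (hG : Nat.card G = 7920) {L : Fin 10 → IrrCharacter G}
    (T : T10' L) (hL : Loc G) {u v : G} (hu : orderOf u = 2) (hv : orderOf v = 3) :
    closure ({u, v} : Set G) ≠ ⊤ := by
  obtain ⟨n, ρ, hρ⟩ := irr_isCharacter (L 7)
  have hdeg : n = 11 := by
    have h1 := H75.deg_spec (L 7)
    rw [T.deg, ← hρ, Representation.char_one] at h1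
    simp only [Module.finrank_fin_fun, Matrix.cons_val] at h1
    exact_mod_cast h1
  have hu2 : u ^ 2 = 1 := by rw [← hu, pow_orderOf_eq_one]
  have hv3 : v ^ 3 = 1 := by rw [← hv, pow_orderOf_eq_one]
  have e1 := finrank_fixSp ρ (n := 2) (by norm_num) hu2
  have e2 := finrank_fixSp ρ (n := 3) (by norm_num) hv3
  have h1 : (L 7 : G → ℂ) 1 = 11 := by rw [H75.deg_spec, T.deg]; simp
  have hv2 : orderOf (v ^ 2) = 3 := by rw [orderOf_pow, hv]; norm_num
  rw [hρ] at e1 e2
  simp only [Finset.sum_range_succ, Finset.sum_range_zero, zero_add, pow_zero, pow_one, h1] at e1 e2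
  rw [(T.inv u hu).2.2.2.2.1] at e1
  rw [(vals3 hG T hL hv).2.1, (vals3 hG T hL hv2).2.1] at e2
  have f1 : 2 * Module.finrank ℂ (fixSp ρ u) = 14 := by
    push_cast at e1; norm_num at e1; exact_mod_cast e1
  have f2 : 3 * Module.finrank ℂ (fixSp ρ v) = 15 := by
    push_cast at e2; norm_num at e2; exact_mod_cast e2
  apply closure_ne_top ρ
  · intro _
    rw [hρ]
    exact sum_irr_eq_zero (fun h => absurd (T.bij.1 (h.trans T.one.symm)) (by decide))
  · rw [Module.finrank_fin_fun]; omega

theorem exists_triple [Fintype (IrrCharacter G)] [IsSimpleGroup G] (hG : Nat.card G = 7920) {L : Fin 10 → IrrCharacter G}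
    (T : T10' L) (hL : Loc G) : ∃ u v : G, orderOf u = 2 ∧ orderOf v = 3 ∧ orderOf (u * v) = 11 := by
  classical
  haveI := Fintype.ofFinite G
  haveI : Fact (Nat.Prime 2) := ⟨by norm_num⟩
  haveI : Fact (Nat.Prime 3) := ⟨by norm_num⟩
  obtain ⟨t, ht⟩ := exists_prime_orderOf_dvd_card' (G := G) 2 (by rw [hG]; norm_num)
  obtain ⟨s, hs⟩ := exists_prime_orderOf_dvd_card' (G := G) 3 (by rw [hG]; norm_num)
  obtain ⟨x, hx, x3, x4, x5⟩ := T.xval
  have hcf := Col.count_formula t s x
  rw [sum10 T.bij] at hcf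
  obtain ⟨-, i1, i2, i6, i7, -⟩ := T.inv t ht
  obtain ⟨i0, i8, i9⟩ := T.inv89 ht
  obtain ⟨i3, i4, i5⟩ := T.inv' t ht
  obtain ⟨-, -, j3, j45, j6⟩ := vals3 hG T hL hs
  have x0 : (L 0 : G → ℂ) x = 1 := by rw [T.one, oneIrr_apply]
  have s0 : (L 0 : G → ℂ) s = 1 := by rw [T.one, oneIrr_apply]
  have x7 := dz 11 1 (by norm_num) (by rw [hG]; norm_num) (L 7) (by rw [T.deg]; decide) x (by rw [hx])
  have x8 := dz 11 1 (by norm_num) (by rw [hG]; norm_num) (L 8) (by rw [T.deg]; decide) x (by rw [hx])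
  have x9 := dz 11 1 (by norm_num) (by rw [hG]; norm_num) (L 9) (by rw [T.deg]; decide) x (by rw [hx])
  have d0 : (L 0 : G → ℂ) 1 = 1 := by rw [H75.deg_spec, T.deg]; simp
  have d3 : (L 3 : G → ℂ) 1 = 10 := by rw [H75.deg_spec, T.deg]; simp
  have d4 : (L 4 : G → ℂ) 1 = 10 := by rw [H75.deg_spec, T.deg]; simp
  have d5 : (L 5 : G → ℂ) 1 = 10 := by rw [H75.deg_spec, T.deg]; simp
  rw [i0, i1, i2, i3, i4, i5, i6, i7, i8, i9, j3, j6, x0, s0, x3, x4, x5, x7, x8, x9, d0, d3, d4, d5] at hcf
  simp only [map_one, map_neg, map_zero, mul_zero, zero_mul, zero_div, add_zero] at hcf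
  by_contra hcon
  push Not at hcon
  rw [show (Finset.univ.filter (fun g : G => IsConj (t * (g * s * g⁻¹)) x)) = ∅ from ?_] at hcf
  · have h1 : (Nat.card G : ℂ) ≠ 0 := by exact_mod_cast Nat.card_pos.ne'
    simp only [Finset.card_empty, Nat.cast_zero, mul_zero] at hcf
    have h2 := (mul_eq_zero.mp hcf.symm).resolve_left h1
    have h3 : (6 / 5 : ℂ) = 0 := by
      linear_combination h2 - (1 / 5) * j45
    norm_num at h3
  · rw [Finset.filter_eq_empty_iff]
    intro g _ hc
    apply hcon t (g * s * g⁻¹) ht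
    · rw [← hs]
      exact orderOf_injective (MulAut.conj g).toMonoidHom (MulAut.conj g).injective s
    · by_contra hne
      exact not_isConj_of_orderOf_ne (by rw [hx]; exact hne) hc

end Cfsg.Agent.H67.M11
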