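import Cfsg.Agent.H67.M11.Twelve2

set_option autoImplicit false

/-!
# Uniqueness of the simple group of order 7920 (helper67)
-/

namespace Cfsg.Agent.H67.M11

open Subgroup Cfsg Cfsg.Agent.CharBase

universe u v

theorem iter_norm : ∀ c : Fin 12, c ≠ 0 → c ≠ 11 →
    ∃ k : Fin 5, (fY^[2 * (k : ℕ)] c = 1 ∨ fY^[2 * (k : ℕ)] c = 2) := by decide +kernel

theorem after_neg : ∀ c d : Fin 12, c = 2 → d = 5 →
    ((fun z => fY (fY z))^[4] (fN (fW c d 10)) = 2 ∧ (fun z => fY (fY z))^[4] (fN (fW c d 9)) = 4) := by decide +kernel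

section Act

variable {G : Type u} [Group G] [Finite G] {Ω : Type v} [MulAction G Ω]

theorem Real12.twist_iter (hL : Loc G) {x y w : G} {f : Fin 12 → Ω} {c d : Fin 12} (h : Real12 x y w f c d) (k : ℕ) :
    Real12 x y (w * y ^ k) f ((fun z => fY (fY z))^[k] c) ((fun z => fY (fY z))^[k] d) := by
  induction k with
  | zero => simpa using h
  | succ k ih =>
    rw [Function.iterate_succ_apply', Function.iterate_succ_apply', pow_succ, ← mul_assoc]
    exact ih.twist hL

theorem exists_real24 (hL : Loc G) {x y w : G} {f : Fin 12 → Ω} {c d : Fin 12} (h : Real12 x y w f c d) :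
    ∃ (x w : G) (f : Fin 12 → Ω), Real12 x y w f 2 4 := by
  -- normalization of c
  have hc0 : c ≠ 0 := by
    rintro rfl
    have h1 : f 1 = f 11 := by
      apply smul_left_cancel w
      rw [h.fw, h.fw]; rfl
    exact absurd (h.bij.1 h1) (by decide)
  have hc11 : c ≠ 11 := by
    rintro rfl
    have h1 : f 1 = f 0 := by
      apply smul_left_cancel w
      rw [h.fw, h.fw]; rfl
    exact absurd (h.bij.1 h1) (by decide)
  obtain ⟨k, hk⟩ := iter_norm c hc0 hc11
  have h2 := h.twist_iter hL (k : ℕ)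
  have hk' : (fun z => fY (fY z))^[(k : ℕ)] c = fY^[2 * (k : ℕ)] c := by
    rw [Function.iterate_mul]; rfl
  rw [← hk'] at hk
  generalize (fun z => fY (fY z))^[(k : ℕ)] c = c' at h2 hk
  generalize (fun z => fY (fY z))^[(k : ℕ)] d = d' at h2
  generalize w * y ^ (k : ℕ) = w' at h2
  rcases candidates c' d' hk with ⟨i, j, hij, hWij⟩ | ⟨rfl, rfl⟩ | ⟨rfl, rfl⟩ | hb | hb | hb | hb
  · exfalso
    apply hij
    apply h2.bij.1
    apply smul_left_cancel w'
    rw [h2.fw, h2.fw, hWij]
  · exact ⟨x, w', f, h2⟩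
  · obtain ⟨e1, e2⟩ := after_neg 2 5 rfl rfl
    have h3 := (h2.neg).twist_iter hL 4
    rw [e1, e2] at h3
    exact ⟨x⁻¹, _, _, h3⟩
  · exact (not_bad hL h2.bij.1 (g := w' * y * x) (fun i => by rw [mul_smul, mul_smul, h2.fx, h2.fy, h2.fw]) hb).elim
  · exact (not_bad hL h2.bij.1 (g := w' * x) (fun i => by rw [mul_smul, h2.fx, h2.fw]) hb).elim
  · exact (not_bad hL h2.bij.1 (g := w' * y * y * x)
      (fun i => by rw [mul_smul, mul_smul, mul_smul, h2.fx, h2.fy, h2.fy, h2.fw]) hb).elim
  · exact (not_bad hL h2.bij.1 (g := w' * x * x)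
      (fun i => by rw [mul_smul, mul_smul, h2.fx, h2.fx, h2.fw]) hb).elim

theorem closure_xyw [IsSimpleGroup G] (hL : Loc G) {x y w : G} {f : Fin 12 → Ω} {c d : Fin 12}
    (h : Real12 x y w f c d) : closure ({x, y, w} : Set G) = ⊤ := by
  classical
  haveI := Fintype.ofFinite G
  set M := closure ({x, y, w} : Set G) with hM
  have hxM : x ∈ M := subset_closure (by simp)
  have hyM : y ∈ M := subset_closure (by simp)
  have hwM : w ∈ M := subset_closure (by simp)
  have horb : MulAction.orbit M (f 11) = Set.univ := by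
    have h0 : f 0 ∈ MulAction.orbit M (f 11) := ⟨⟨w, hwM⟩, by
      show w • f 11 = f 0
      rw [h.fw]; rfl⟩
    have hx : ∀ i, f i ∈ MulAction.orbit M (f 11) → f (fX i) ∈ MulAction.orbit M (f 11) := by
      rintro i ⟨m, hm⟩
      refine ⟨⟨x, hxM⟩ * m, ?_⟩
      have hm' : (m : G) • f 11 = f i := hm
      show (x * (m : G)) • f 11 = f (fX i)
      rw [mul_smul, hm', h.fx]
    have h1 := hx _ h0
    have h2 := hx _ h1
    have h3 := hx _ h2
    have h4 := hx _ h3
    have h5 := hx _ h4
    have h6 := hx _ h5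
    have h7 := hx _ h6
    have h8 := hx _ h7
    have h9 := hx _ h8
    have h10 := hx _ h9
    apply Set.eq_univ_of_forall
    intro ω
    obtain ⟨i, rfl⟩ := h.bij.2 ω
    fin_cases i
    · exact h0
    · exact h1
    · exact h2
    · exact h3
    · exact h4
    · exact h5
    · exact h6
    · exact h7
    · exact h8
    · exact h9
    · exact h10
    · exact MulAction.mem_orbit_self _
  haveI : Fintype Ω := Fintype.ofBijective f h.bij
  have h12 : Nat.card Ω = 12 := by
    rw [← Nat.card_congr (Equiv.ofBijective f h.bij), Nat.card_fin]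
  have hcard : Nat.card M = 12 * Nat.card (MulAction.stabilizer M (f 11)) := by
    have h1 := MulAction.card_orbit_mul_card_stabilizer_eq_card_group M (f 11)
    rw [← Nat.card_eq_fintype_card, ← Nat.card_eq_fintype_card, ← Nat.card_eq_fintype_card, horb,
      Nat.card_univ, h12] at h1
    exact h1.symm
  have h11 : 11 ∣ Nat.card (MulAction.stabilizer M (f 11)) := by
    have h1 : (⟨x, hxM⟩ : M) ∈ MulAction.stabilizer M (f 11) := by
      show x • f 11 = f 11
      rw [h.fx]; rfl
    have := orderOf_dvd_natCard (⟨_, h1⟩ : MulAction.stabilizer M (f 11))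
    rwa [Subgroup.orderOf_mk, Subgroup.orderOf_mk, h.xyw.hx] at this
  have h5 : 5 ∣ Nat.card (MulAction.stabilizer M (f 11)) := by
    have h1 : (⟨y, hyM⟩ : M) ∈ MulAction.stabilizer M (f 11) := by
      show y • f 11 = f 11
      rw [h.fy]; rfl
    have := orderOf_dvd_natCard (⟨_, h1⟩ : MulAction.stabilizer M (f 11))
    rwa [Subgroup.orderOf_mk, Subgroup.orderOf_mk, h.xyw.hy] at this
  have h660 : 660 ∣ Nat.card M := by
    rw [hcard, show (660 : ℕ) = 12 * (5 * 11) by norm_num]
    exact mul_dvd_mul_left _ (Nat.Coprime.mul_dvd_of_dvd_of_dvd (by norm_num) h5 h11)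
  have hne : Nat.card M ≠ 660 := fun h6 => h.xyw.no660 hL h6 hyM hwM
  have hidx := Subgroup.card_mul_index M
  rw [hL.card] at hidx
  by_contra htop
  have h2 := H17.two_mul_dvd_factorial_of_index (not_comm hL.card) M rfl (by rwa [Ne, Subgroup.index_eq_one]) hL.card
  have hi : M.index ≤ 6 := by
    obtain ⟨k, hk⟩ := h660
    rw [hk] at hidx hne
    have h3 : k ≠ 0 := by rintro rfl; omega
    have h4 : k ≠ 1 := by rintro rfl; omega
    have h5 : k * M.index = 12 := by
      have : 660 * (k * M.index) = 660 * 12 := by rw [← mul_assoc, hidx]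
      exact Nat.eq_of_mul_eq_mul_left (by norm_num) this
    by_contra h6
    have h7 : 2 * 7 ≤ k * M.index := Nat.mul_le_mul (by omega) (by omega)
    omega
  have h3 := Nat.le_of_dvd (Nat.factorial_pos _) h2
  have h4 := Nat.factorial_le hi
  have h5 : Nat.factorial 6 = 720 := rfl
  omega

/-- permutations of the standard model -/
def permX : Equiv.Perm (Fin 12) := ⟨fX, ![10, 0, 1, 2, 3, 4, 5, 6, 7, 8, 9, 11], by decide, by decide⟩

def permY : Equiv.Perm (Fin 12) := ⟨fY, ![0, 4, 8, 1, 5, 9, 2, 6, 10, 3, 7, 11], by decide, by decide⟩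

def permW : Equiv.Perm (Fin 12) := ⟨fW 2 4, ![11, 10, 1, 6, 2, 7, 5, 3, 9, 8, 4, 0], by decide, by decide⟩

end Act

/-- the standard model: generated by an 11-cycle, an element of order five and an element of order four -/
def stdM11 : Subgroup (Equiv.Perm (Fin 12)) := closure {permX, permY, permW}

theorem equiv_std {G : Type u} [Group G] [Finite G] [IsSimpleGroup G] (hG : Nat.card G = 7920) :
    Nonempty (G ≃* stdM11) := by
  have hL := exists_loc (G := G) hG
  obtain ⟨H, hH⟩ := exists_660 (G := G) hG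
  have hne : H ≠ ⊤ := by
    rintro rfl
    rw [Subgroup.card_top, hG] at hH
    omega
  have hidx := Subgroup.card_mul_index H
  rw [hH, hG] at hidx
  have h12 : Nat.card (G ⧸ H) = 12 := by
    have : Nat.card (G ⧸ H) = H.index := rfl
    omega
  have hinj : Function.Injective (MulAction.toPermHom G (G ⧸ H)) := H17.toPermHom_injective_of_ne_top H hne
  obtain ⟨x, y, w, hxyw⟩ := exists_xyw (G := G) hG
  obtain ⟨f, c, d, hreal⟩ := exists_real12_aux (Ω := G ⧸ H) hL h12 (fun g hg => hinj (by
    rw [map_one]; ext ω : 1; exact hg ω)) hxyw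
  obtain ⟨x, w, f, h⟩ := exists_real24 hL hreal
  have htop := closure_xyw hL h
  set e := Equiv.ofBijective f h.bij with he
  set φ : G →* Equiv.Perm (Fin 12) := (e.symm.permCongrHom : Equiv.Perm (G ⧸ H) ≃* Equiv.Perm (Fin 12)).toMonoidHom.comp
    (MulAction.toPermHom G (G ⧸ H)) with hφ
  have hφi : Function.Injective φ := (e.symm.permCongrHom).injective.comp hinj
  have hval : ∀ (g : G) (A : Equiv.Perm (Fin 12)), (∀ i, g • f i = f (A i)) → φ g = A := by
    intro g A hA
    ext i : 1
    have h1 : φ g i = e.symm (g • e i) := rfl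
    rw [h1, he, Equiv.ofBijective_apply, hA, ← Equiv.ofBijective_apply f h.bij, Equiv.symm_apply_apply]
  have hx := hval x permX h.fx
  have hy := hval y permY h.fy
  have hw := hval w permW h.fw
  have hrange : φ.range = stdM11 := by
    rw [MonoidHom.range_eq_map, ← htop, MonoidHom.map_closure]
    unfold stdM11
    congr 1
    rw [Set.image_insert_eq, Set.image_pair, hx, hy, hw]
  exact ⟨(MonoidHom.ofInjective hφi).trans (MulEquiv.subgroupCongr hrange)⟩

/-- uniqueness of the simple group of order 7920 -/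
theorem unique {G : Type u} {K : Type v} [Group G] [Finite G] [IsSimpleGroup G] [Group K] [Finite K] [IsSimpleGroup K]
    (hG : Nat.card G = 7920) (hK : Nat.card K = 7920) : Nonempty (G ≃* K) := by
  obtain ⟨e⟩ := equiv_std hG
  obtain ⟨f⟩ := equiv_std hK
  exact ⟨e.trans f.symm⟩

end Cfsg.Agent.H67.M11
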