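import Cfsg.Agent.H67.M11.Eta
import Cfsg.Agent.H67.M11.Eleven2
import Cfsg.Agent.H67.M11.Invol

set_option autoImplicit false

/-!
# Simple groups of order 7920: the column of an element of order 11 (helper67)
-/

namespace Cfsg.Agent.H67.M11

open Subgroup Cfsg Cfsg.Agent.CharBase
open scoped ComplexConjugate

universe u

variable {G : Type u} [Group G] [Finite G] [Fintype (IrrCharacter G)]

structure XCol (x : G) (a b : IrrCharacter G → ℤ) : Prop where
  val : ∀ χ : IrrCharacter G, (χ : G → ℂ) x = a χ + b χ * eta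
  cong : ∀ χ : IrrCharacter G, (11 : ℤ) ∣ H75.deg χ - a χ - 5 * b χ
  one_a : a (oneIrr G) = 1
  one_b : b (oneIrr G) = 0
  sq_a : ∑ χ, a χ * a χ = 6
  sq_b : ∑ χ, b χ * b χ = 2
  ab : ∑ χ, a χ * b χ = 1
  orth_a : ∀ g : G, ¬ IsConj g x → ¬ IsConj g x⁻¹ → ∑ χ : IrrCharacter G, (χ : G → ℂ) g * a χ = 0
  orth_b : ∀ g : G, ¬ IsConj g x → ¬ IsConj g x⁻¹ → ∑ χ : IrrCharacter G, (χ : G → ℂ) g * b χ = 0
  deg_a : ∑ χ : IrrCharacter G, a χ * (H75.deg χ : ℤ) = 0
  deg_b : ∑ χ : IrrCharacter G, b χ * (H75.deg χ : ℤ) = 0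

theorem exists_xcol {x : G} (hx : orderOf x = 11) (hC : Nat.card (centralizer ({x} : Set G)) = 11)
    (h3 : ∃ g : G, g * x * g⁻¹ = x ^ 3) (hinv : ¬ IsConj x x⁻¹) : ∃ a b, XCol x a b := by
  classical
  obtain ⟨g, hg⟩ := h3
  have hx11 : x ^ 11 = 1 := by rw [← hx, pow_orderOf_eq_one]
  have hx1 : x ≠ 1 := by rintro rfl; rw [orderOf_one] at hx; omega
  choose a b c hab hdeg using fun χ : IrrCharacter G => eta_val (irr_isCharacter χ) hx11 hg
  have hone : a (oneIrr G) = 1 ∧ b (oneIrr G) = 0 := by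
    have h1 := hab (oneIrr G)
    rw [oneIrr_apply] at h1
    have h2 : ((a (oneIrr G) - 1 : ℤ) : ℂ) + (b (oneIrr G) : ℤ) * eta = 0 := by
      push_cast
      linear_combination (-1 : ℂ) * h1
    have := eta_indep h2
    omega
  have hc := eta_conj
  have hsq := eta_sq
  have horth : ∀ g : G, ¬ IsConj g x → ¬ IsConj g x⁻¹ → ∑ χ : IrrCharacter G, (χ : G → ℂ) g * a χ = 0 ∧
      ∑ χ : IrrCharacter G, (χ : G → ℂ) g * b χ = 0 := by
    intro g hg1 hg2
    have h1 := column_orthogonality_of_not_isConj hg1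
    have h2 := column_orthogonality_of_not_isConj hg2
    have h3 : ∑ χ : IrrCharacter G, (χ : G → ℂ) g * a χ + (∑ χ : IrrCharacter G, (χ : G → ℂ) g * b χ) * (-1 - eta) = 0 := by
      rw [← h1, Finset.sum_mul, ← Finset.sum_add_distrib]
      refine Finset.sum_congr rfl fun χ _ => ?_
      rw [hab χ, map_add, map_mul, map_intCast, map_intCast, hc]; ring
    have h4 : ∑ χ : IrrCharacter G, (χ : G → ℂ) g * a χ + (∑ χ : IrrCharacter G, (χ : G → ℂ) g * b χ) * eta = 0 := by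
      rw [← h2, Finset.sum_mul, ← Finset.sum_add_distrib]
      refine Finset.sum_congr rfl fun χ _ => ?_
      rw [irr_inv, Complex.conj_conj, hab χ]; ring
    have h5 : (∑ χ : IrrCharacter G, (χ : G → ℂ) g * b χ) * (2 * eta + 1) = 0 := by
      linear_combination h4 - h3
    have h6 : (2 * eta + 1 : ℂ) ≠ 0 := by
      intro h
      have h7 : eta = -1 / 2 := by linear_combination (1 / 2) * h
      rw [h7] at hsq; norm_num at hsq
    have h7 := (mul_eq_zero.mp h5).resolve_right h6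
    refine ⟨?_, h7⟩
    rw [h7] at h4
    linear_combination h4
  have hdeg0 : ∑ χ : IrrCharacter G, a χ * (H75.deg χ : ℤ) = 0 ∧ ∑ χ : IrrCharacter G, b χ * (H75.deg χ : ℤ) = 0 := by
    have h := sum_degree_mul x
    rw [if_neg hx1] at h
    apply eta_indep
    rw [← h]
    push_cast
    rw [Finset.sum_mul, ← Finset.sum_add_distrib]
    refine Finset.sum_congr rfl fun χ _ => ?_
    rw [H75.deg_spec, hab χ]; ring
  have e1 : (((∑ χ, a χ * a χ) - (∑ χ, a χ * b χ) + 3 * (∑ χ, b χ * b χ) : ℤ) : ℂ) = 11 := by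
    have h1 := column_orthogonality_of_isConj (IsConj.refl x)
    rw [hC] at h1
    push_cast at h1 ⊢
    rw [← h1, Finset.mul_sum, ← Finset.sum_sub_distrib, ← Finset.sum_add_distrib]
    refine Finset.sum_congr rfl fun χ _ => ?_
    rw [hab χ, map_add, map_mul, map_intCast, map_intCast, hc]
    linear_combination ((b χ : ℂ) * b χ) * hsq
  have e2 : (∑ χ, a χ * a χ) - 3 * (∑ χ, b χ * b χ) = 0 ∧ 2 * (∑ χ, a χ * b χ) - (∑ χ, b χ * b χ) = 0 := by
    apply eta_indep
    have h1 := column_orthogonality_of_not_isConj hinv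
    rw [← h1]
    push_cast
    rw [Finset.mul_sum, Finset.mul_sum, ← Finset.sum_sub_distrib, ← Finset.sum_sub_distrib, Finset.sum_mul,
      ← Finset.sum_add_distrib]
    refine Finset.sum_congr rfl fun χ _ => ?_
    rw [irr_inv, Complex.conj_conj, hab χ]
    linear_combination (-(b χ : ℂ) * b χ) * hsq
  have e1' : (∑ χ, a χ * a χ) - (∑ χ, a χ * b χ) + 3 * (∑ χ, b χ * b χ) = 11 := by exact_mod_cast e1
  obtain ⟨e3, e4⟩ := e2
  refine ⟨a, b, hab, fun χ => ?_, hone.1, hone.2, by omega, by omega, by omega, fun g h1 h2 => (horth g h1 h2).1,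
    fun g h1 h2 => (horth g h1 h2).2, hdeg0.1, hdeg0.2⟩
  have h1 := hdeg χ
  rw [H75.deg_spec] at h1
  have h2 : (H75.deg χ : ℤ) = a χ + 5 * b χ + 11 * c χ := by exact_mod_cast h1
  exact ⟨c χ, by rw [h2]; ring⟩

theorem deg_facts [IsSimpleGroup G] (hG : Nat.card G = 7920) (χ : IrrCharacter G) (hχ : χ ≠ oneIrr G) :
    H75.deg χ ∈ ({2, 3, 4, 5, 6, 8, 9, 10, 11, 12, 15, 16, 18, 20, 22, 24, 30, 33, 36, 40, 44, 45, 48, 55, 60, 66,
      72, 80, 88} : Finset ℕ) := by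
  have hGc := not_comm hG
  have h1 : H75.deg χ ≠ 1 := by
    intro h
    exact hχ (Col.eq_oneIrr_of_perfect (H17.commutator_eq_top hGc) (by exact_mod_cast h))
  have h2 := H75.deg_dvd χ
  rw [hG] at h2
  have h3 := H75.sum_deg_sq (G := G)
  rw [hG] at h3
  have h4 : H75.deg χ ^ 2 ≤ 7919 := by
    have h5 : H75.deg χ ^ 2 + H75.deg (oneIrr G) ^ 2 ≤ ∑ ψ : IrrCharacter G, H75.deg ψ ^ 2 := by
      classical
      have h7 := Finset.sum_pair (f := fun ψ : IrrCharacter G => H75.deg ψ ^ 2) hχ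
      rw [← h7]
      exact Finset.sum_le_sum_of_subset (Finset.subset_univ _)
    have h6 : H75.deg (oneIrr G) = 1 := by exact_mod_cast (Col.deg_one (G := G))
    rw [h6, h3] at h5
    omega
  have h5 : H75.deg χ ≤ 88 := by nlinarith
  have h6 : H75.deg χ ∈ (Nat.divisors 7920).filter (fun d => d ≤ 88 ∧ d ≠ 1) := by
    rw [Finset.mem_filter, Nat.mem_divisors]
    exact ⟨⟨h2, by norm_num⟩, h5, h1⟩
  rw [show (Nat.divisors 7920).filter (fun d => d ≤ 88 ∧ d ≠ 1) = ({2, 3, 4, 5, 6, 8, 9, 10, 11, 12, 15, 16, 18, 20, 22, 24, 30, 33, 36, 40, 44, 45, 48, 55, 60, 66,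
      72, 80, 88} : Finset ℕ) by decide +kernel] at h6
  exact h6

end Cfsg.Agent.H67.M11
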