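import Cfsg.Agent.H67.M11.Index12

set_option autoImplicit false

/-!
# Simple groups of order 7920: the elements x, y, w (helper67)
-/

namespace Cfsg.Agent.H67.M11

open Subgroup Cfsg Cfsg.Agent.CharBase

universe u

variable {G : Type u} [Group G] [Finite G]

structure XYW (x y w : G) : Prop where
  hx : orderOf x = 11
  hy : orderOf y = 5
  hyx : y * x * y⁻¹ = x ^ 3
  hwy : w * y * w⁻¹ = y ^ 2
  hw : orderOf w = 4

theorem eq_zpowers_of_card {x : G} {p : ℕ} (hx : orderOf x = p) (hC : Nat.card (centralizer ({x} : Set G)) = p) {z : G}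
    (hz : z * x = x * z) : z ∈ zpowers x := by
  have h1 : zpowers x = centralizer ({x} : Set G) := by
    apply Subgroup.eq_of_le_of_card_ge
    · rw [zpowers_le, mem_centralizer_singleton_iff]
    · rw [hC, Nat.card_zpowers, hx]
  rw [h1, mem_centralizer_singleton_iff]
  exact hz

theorem pow_mem_eq_one {x g : G} {p k : ℕ} [hp : Fact p.Prime] (hx : orderOf x = p) (hk : ¬ k % p = 1 % p)
    (hg : g * x * g⁻¹ = x ^ k) {z : G} (hz : z ∈ zpowers x) (hgz : g * z = z * g) : z = 1 := by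
  classical
  rw [(isOfFinOrder_of_finite x).mem_zpowers_iff_mem_range_orderOf, hx] at hz
  simp only [Finset.mem_image, Finset.mem_range] at hz
  obtain ⟨j, hj, rfl⟩ := hz
  have h1 : g * x ^ j * g⁻¹ = x ^ j := by rw [hgz]; group
  have h2 : x ^ (k * j) = x ^ j := by
    rw [pow_mul, ← hg, conj_pow, h1]
  rw [pow_inj_mod, hx] at h2
  by_cases hj0 : j = 0
  · rw [hj0, pow_zero]
  · exfalso
    apply hk
    have h3 : k * j ≡ 1 * j [MOD p] := by rw [one_mul]; exact h2
    have h4 : Nat.gcd p j = 1 := by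
      rw [← Nat.coprime_iff_gcd_eq_one]
      exact (Nat.Prime.coprime_iff_not_dvd hp.out).mpr (fun h => absurd (Nat.le_of_dvd (by omega) h) (by omega))
    exact Nat.ModEq.cancel_right_of_coprime h4 h3

theorem exists_xyw [IsSimpleGroup G] (hG : Nat.card G = 7920) : ∃ x y w : G, XYW x y w := by
  haveI : Fact (Nat.Prime 11) := ⟨by norm_num⟩
  haveI : Fact (Nat.Prime 5) := ⟨by norm_num⟩
  have hL := exists_loc (G := G) hG
  obtain ⟨x, hx⟩ := exists_prime_orderOf_dvd_card' (G := G) 11 (by rw [hG]; norm_num)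
  obtain ⟨hC, ⟨y, hy⟩, -⟩ := eleven hG hx
  have hy5 : y ^ 5 = 1 := by
    have h1 := conj_pow_iter hy 5
    have h2 : x ^ 3 ^ 5 = x ^ 1 := by rw [pow_inj_mod, hx]; norm_num
    rw [h2, pow_one] at h1
    have h3 : y ^ 5 ∈ zpowers x := eq_zpowers_of_card hx hC (mul_inv_eq_iff_eq_mul.mp h1)
    exact pow_mem_eq_one hx (by norm_num) hy h3 (by rw [← pow_succ, ← pow_succ'])
  have hy1 : y ≠ 1 := by
    rintro rfl
    rw [one_mul, inv_one, mul_one] at hy
    have h1 : x ^ 1 = x ^ 3 := by rw [pow_one]; exact hy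
    rw [pow_inj_mod, hx] at h1
    norm_num at h1
  have hyo : orderOf y = 5 := orderOf_eq_prime hy5 hy1
  have hy2 : y ^ 2 ≠ 1 := by
    intro h
    have := orderOf_dvd_of_pow_eq_one h
    rw [hyo] at this
    norm_num at this
  obtain ⟨w, hw⟩ := isConj_iff.mp (hL.rat5 y hyo (y ^ 2) (pow_mem (mem_zpowers y) 2) hy2)
  have hw4 : w ^ 4 = 1 := by
    have h1 := conj_pow_iter hw 4
    have h2 : y ^ 2 ^ 4 = y ^ 1 := by rw [pow_inj_mod, hyo]; norm_num
    rw [h2, pow_one] at h1
    have h3 : w ^ 4 ∈ zpowers y := eq_zpowers_of_card hyo (hL.c5 y hyo) (mul_inv_eq_iff_eq_mul.mp h1)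
    exact pow_mem_eq_one hyo (by norm_num) hw h3 (by rw [← pow_succ, ← pow_succ'])
  have hw2 : w ^ 2 ≠ 1 := by
    intro h
    have h1 := conj_pow_iter hw 2
    rw [h, one_mul, inv_one, mul_one] at h1
    have h2 : y ^ 1 = y ^ 2 ^ 2 := by rw [pow_one]; exact h1
    rw [pow_inj_mod, hyo] at h2
    norm_num at h2
  have hwo : orderOf w = 4 := by
    have h1 : orderOf w ∣ 4 := orderOf_dvd_of_pow_eq_one hw4
    have h2 : ¬ orderOf w ∣ 2 := fun h => hw2 (orderOf_dvd_iff_pow_eq_one.mp h)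
    have h3 : ∀ d ∈ Nat.divisors 4, ¬ d ∣ 2 → d = 4 := by decide +kernel
    exact h3 _ (Nat.mem_divisors.mpr ⟨h1, by norm_num⟩) h2
  exact ⟨x, y, w, hx, hyo, hy, hw, hwo⟩

theorem XYW.no660 {x y w : G} (h : XYW x y w) (hL : Loc G) {M : Subgroup G} (hM : Nat.card M = 660) (hy : y ∈ M)
    (hw : w ∈ M) : False := by
  haveI : Fact (Nat.Prime 5) := ⟨by norm_num⟩
  set y' : M := ⟨y, hy⟩ with hy'
  set w' : M := ⟨w, hw⟩ with hw'
  have hyo : orderOf y' = 5 := by rw [← h.hy, ← Subgroup.orderOf_coe]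
  have hwo : orderOf w' = 4 := by rw [← h.hw, ← Subgroup.orderOf_coe]
  obtain ⟨P, hP⟩ := exists_sylow_zpowers (p := 5) (m := 132) (by rw [hM]; norm_num) (by norm_num) hyo rfl
  have hmul := H17.card_normalizer_mul P
  have hmod : Nat.card (Sylow 5 M) % 5 = 1 := H17.card_sylow_mod
  rw [hM] at hmul
  have hPc : Nat.card (P : Subgroup M) = 5 := by rw [hP, Nat.card_zpowers, hyo]
  have h5 : 5 ∣ Nat.card (normalizer ((P : Subgroup M) : Set M)) :=
    (dvd_of_eq hPc.symm).trans (card_dvd_of_le le_normalizer)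
  have hwN : w' ∈ normalizer ((P : Subgroup M) : Set M) := by
    rw [hP]
    apply mem_normalizer_zpowers
    refine ⟨2, ?_⟩
    apply Subtype.ext
    have := h.hwy
    show ((y' ^ (2 : ℤ) : M) : G) = w * y * w⁻¹
    rw [this, SubgroupClass.coe_zpow, zpow_ofNat]
  have h4 : 4 ∣ Nat.card (normalizer ((P : Subgroup M) : Set M)) := by
    have := orderOf_dvd_natCard (⟨w', hwN⟩ : normalizer ((P : Subgroup M) : Set M))
    rwa [Subgroup.orderOf_mk, hwo] at this
  have h20 : 20 ∣ Nat.card (normalizer ((P : Subgroup M) : Set M)) :=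
    Nat.Coprime.mul_dvd_of_dvd_of_dvd (m := 4) (n := 5) (by norm_num) h4 h5
  have h20' : Nat.card (normalizer ((P : Subgroup M) : Set M)) ∣ 20 := by
    have h6 : Nat.card (normalizer ((P : Subgroup M) : Set M)) =
        (centralizer ((P : Subgroup M) : Set M)).relIndex (normalizer ((P : Subgroup M) : Set M)) *
          Nat.card (centralizer ((P : Subgroup M) : Set M)) := by
      rw [H17.relIndex_mul_card_of_le (centralizer_le_normalizer _)]
    rw [h6, show (20 : ℕ) = 4 * 5 by norm_num]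
    apply mul_dvd_mul
    · exact H17.relIndex_dvd_of_card_prime (p := 5) (by norm_num) _ hPc
    · refine dvd_trans ?_ (dvd_of_eq (hL.c5 y h.hy))
      rw [← Subgroup.card_map_of_injective M.subtype_injective]
      apply card_dvd_of_le
      rintro _ ⟨z, hz, rfl⟩
      rw [mem_centralizer_singleton_iff]
      have h7 := mem_centralizer_iff.mp hz y' (by rw [hP]; exact mem_zpowers y')
      exact (congrArg Subtype.val h7).symm
  have hN : Nat.card (normalizer ((P : Subgroup M) : Set M)) = 20 := Nat.dvd_antisymm h20' h20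
  rw [hN] at hmul
  omega

end Cfsg.Agent.H67.M11
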